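import Groth.Agent.TMul.AmpleBasis
import Groth.Agent.KFlat.PullTensor
import Groth.Agent.DerPerf.Local

/-!
Inverse images: generating loci and tensor powers.
-/

set_option autoImplicit false
set_option backward.isDefEq.respectTransparency false

universe u

open CategoryTheory CategoryTheory.Limits AlgebraicGeometry TopologicalSpace Opposite
open Groth.Agent.QC (res resO res_res res_smul resO_resO app_res)

noncomputable section

namespace TMul

variable {X Y : Scheme.{u}}

lemma hom_ext_val {L : X.Modules} {s t : Coh.structureModule X ⟶ L} (h : val s ⊤ = val t ⊤) :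
    s = t :=
  Scheme.Modules.hom_ext _ _ fun U => by
    ext c
    exact (app_eq_smul s c).trans (((congrArg (fun v : Γ(L, U) => HSMul.hSMul (α := Γ(X, U)) c v) (by
      rw [← res_val s (le_top : U ≤ ⊤), h, res_val])).trans (app_eq_smul t c).symm))

/-- Inverse image of an endomorphism of the structure module. -/
lemma pullback_map_unit (f : X ⟶ Y) (φ : Coh.structureModule Y ⟶ Coh.structureModule Y)
    (c : Γ(Y, ⊤)) (hc : val φ ⊤ = c) :
    (Scheme.Modules.pullback f).map φ ≫ (PicLoc.pullbackStructureIso f).hom =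
      (PicLoc.pullbackStructureIso f).hom ≫
        homOf (L := Coh.structureModule X) (f.appTop c) := by
  let adj := Scheme.Modules.pullbackPushforwardAdjunction f
  apply (adj.homEquiv _ _).injective
  rw [adj.homEquiv_naturality_left, adj.homEquiv_naturality_right]
  have h : adj.homEquiv (Coh.structureModule Y) (Coh.structureModule X)
      (PicLoc.pullbackStructureIso f).hom =
      SheafOfModules.unitToPushforwardObjUnit f.toRingCatSheafHom := Equiv.apply_symm_apply _ _
  rw [h]
  refine hom_ext_val ?_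
  change (f.app ⊤) (val φ ⊤) =
    (homOf (L := Coh.structureModule X) (f.appTop c)).app ⊤ (f.app ⊤ (1 : Γ(Y, ⊤)))
  rw [hc, map_one]
  refine Eq.symm ((val_homOf (L := Coh.structureModule X) (f.appTop c) ⊤).trans ?_)
  exact Groth.Agent.QC.res_self (Coh.structureModule X) _ _

/-- A restriction of a morphism being an isomorphism is invariant under inverse images. -/
lemma isIso_restrict_pullback_iff (f : X ⟶ Y) (U : Y.Opens) {M N : Y.Modules} (φ : M ⟶ N) :
    IsIso ((Scheme.Modules.restrictFunctor (f ⁻¹ᵁ U).ι).map ((Scheme.Modules.pullback f).map φ)) ↔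
      IsIso ((Scheme.Modules.pullback (f ∣_ U)).map ((Scheme.Modules.restrictFunctor U.ι).map φ)) :=
  NatIso.isIso_map_iff (Groth.Agent.DerPerf.pullRestrictIso f U) φ

variable {L : Y.Modules}

theorem genLocus_pullback (f : X ⟶ Y) (hL : PicF.IsInvertible L) (s : Coh.structureModule Y ⟶ L)
    (e : Coh.structureModule X ≅ (Scheme.Modules.pullback f).obj (Coh.structureModule Y)) :
    CohB1.genLocus ((Scheme.Modules.pullback f).obj L) (e.hom ≫ (Scheme.Modules.pullback f).map s) =
      f ⁻¹ᵁ CohB1.genLocus L s := by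
  apply le_antisymm
  · intro x hx
    obtain ⟨U, hxU, ⟨ψ⟩⟩ := hL (f.base x)
    obtain ⟨W, hxW, hW⟩ := (mem_genLocus_iff _).mp hx
    replace hW := (isIso_restrict_iff _ W).mpr hW
    let V : X.Opens := W ⊓ f ⁻¹ᵁ U
    let g : (V : Scheme.{u}) ⟶ (U : Scheme.{u}) := X.homOfLE (inf_le_right : V ≤ f ⁻¹ᵁ U) ≫ f ∣_ U
    haveI := hW
    have hW' : IsIso ((Scheme.Modules.restrictFunctor W.ι).map ((Scheme.Modules.pullback f).map s)) := by
      rw [Functor.map_comp] at hW
      exact IsIso.of_isIso_comp_left ((Scheme.Modules.restrictFunctor W.ι).map e.hom) _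
    let i : Scheme.Modules.pullback f ⋙ Scheme.Modules.restrictFunctor W.ι ⋙
        Scheme.Modules.pullback (X.homOfLE (inf_le_left : V ≤ W)) ≅
        Scheme.Modules.restrictFunctor U.ι ⋙ Scheme.Modules.pullback g :=
      Functor.isoWhiskerLeft _ (Functor.isoWhiskerRight (Scheme.Modules.restrictFunctorIsoPullback W.ι) _ ≪≫
        Scheme.Modules.pullbackComp _ _) ≪≫
      Scheme.Modules.pullbackComp _ _ ≪≫
      Scheme.Modules.pullbackCongr (show (X.homOfLE inf_le_left ≫ W.ι) ≫ f = g ≫ U.ι by
        simp [g, morphismRestrict_ι]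
        rfl) ≪≫
      (Scheme.Modules.pullbackComp _ _).symm ≪≫
      Functor.isoWhiskerRight (Scheme.Modules.restrictFunctorIsoPullback U.ι).symm _
    have h1 : IsIso ((Scheme.Modules.pullback g).map ((Scheme.Modules.restrictFunctor U.ι).map s)) :=
      (NatIso.isIso_map_iff i s).mp (inferInstanceAs (IsIso
        ((Scheme.Modules.pullback (X.homOfLE (inf_le_left : V ≤ W))).map
          ((Scheme.Modules.restrictFunctor W.ι).map ((Scheme.Modules.pullback f).map s)))))
    let σ : Coh.structureModule (U : Scheme.{u}) ⟶ Coh.structureModule (U : Scheme.{u}) :=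
      (Scheme.Modules.restrictUnitIso U.ι).inv ≫ (Scheme.Modules.restrictFunctor U.ι).map s ≫ ψ.hom
    have h2 : IsIso ((Scheme.Modules.pullback g).map σ) := by
      simp only [σ, Functor.map_comp]
      infer_instance
    let c : Γ((U : Scheme.{u}), ⊤) := val σ ⊤
    have h3 : IsIso (homOf (L := Coh.structureModule (V : Scheme.{u})) (g.appTop c)) := by
      have := pullback_map_unit g σ c rfl
      refine @IsIso.of_isIso_comp_left _ _ _ _ _ (PicLoc.pullbackStructureIso g).hom _ _ ?_
      rw [← this]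
      infer_instance
    let y : (V : Scheme.{u}) := ⟨x, hxW, hxU⟩
    have h4 : IsUnit (g.appTop c) := by
      haveI := h3
      obtain ⟨d, hd⟩ := (ConcreteCategory.bijective_of_isIso
        ((homOf (L := Coh.structureModule (V : Scheme.{u})) (g.appTop c)).app ⊤)).2
        (1 : Γ((V : Scheme.{u}), ⊤))
      rw [app_eq_smul, val_homOf, Groth.Agent.QC.res_self] at hd
      exact IsUnit.of_mul_eq_one_right d hd
    have h5 : g.base y ∈ (U : Scheme.{u}).basicOpen c := by
      have : y ∈ g ⁻¹ᵁ (U : Scheme.{u}).basicOpen c := by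
        rw [Scheme.preimage_basicOpen_top, (V : Scheme.{u}).basicOpen_of_isUnit h4]
        trivial
      exact this
    have h6 : IsGen (val σ ((U : Scheme.{u}).basicOpen c)) := fun W' hW' => by
      have hu : IsUnit (resO (U : Scheme.{u}) (le_top : W' ≤ ⊤) c) := by
        rw [← resO_resO hW' ((U : Scheme.{u}).basicOpen_le c)]
        exact (RingedSpace.isUnit_res_basicOpen _ c).map _
      obtain ⟨v, hv⟩ := hu
      have hfun : (fun a : Γ((U : Scheme.{u}), W') =>
          a • res (Coh.structureModule (U : Scheme.{u})) hW' (val σ ((U : Scheme.{u}).basicOpen c))) =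
          fun a : Γ((U : Scheme.{u}), W') => a * (v : Γ((U : Scheme.{u}), W')) := by
        funext a
        rw [res_val, ← res_val σ (le_top : W' ≤ ⊤)]
        exact congrArg (fun w : Γ((U : Scheme.{u}), W') => a * w) hv.symm
      exact hfun ▸ v.mulRight.bijective
    replace h6 := (isIso_restrict_iff σ _).mpr h6
    simp only [σ, Functor.map_comp] at h6
    have h7 : IsIso ((Scheme.Modules.restrictFunctor ((U : Scheme.{u}).basicOpen c).ι).map
        ((Scheme.Modules.restrictFunctor U.ι).map s)) := by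
      haveI := h6
      have := IsIso.of_isIso_comp_left ((Scheme.Modules.restrictFunctor
        ((U : Scheme.{u}).basicOpen c).ι).map (Scheme.Modules.restrictUnitIso U.ι).inv)
        ((Scheme.Modules.restrictFunctor ((U : Scheme.{u}).basicOpen c).ι).map
          ((Scheme.Modules.restrictFunctor U.ι).map s) ≫
          (Scheme.Modules.restrictFunctor ((U : Scheme.{u}).basicOpen c).ι).map ψ.hom)
      exact IsIso.of_isIso_comp_right _
        ((Scheme.Modules.restrictFunctor ((U : Scheme.{u}).basicOpen c).ι).map ψ.hom)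
    have h8 : IsGen (val s (U.ι ''ᵁ (U : Scheme.{u}).basicOpen c)) := by
      intro W' hW'
      rw [Scheme.Modules.Hom.isIso_iff_isIso_app] at h7
      obtain ⟨W'', rfl⟩ : ∃ W'' : ((U : Scheme.{u}).basicOpen c : Scheme.{u}).Opens,
          U.ι ''ᵁ (((U : Scheme.{u}).basicOpen c).ι ''ᵁ W'') = W' :=
        ⟨(((U : Scheme.{u}).basicOpen c).ι ≫ U.ι) ⁻¹ᵁ W', by
          rw [← Scheme.Hom.comp_image, Scheme.Hom.image_preimage_eq_opensRange_inf,
            Scheme.Hom.opensRange_comp, Scheme.Opens.opensRange_ι, inf_eq_right.mpr hW']⟩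
      rw [show (fun a : Γ(Y, U.ι ''ᵁ (((U : Scheme.{u}).basicOpen c).ι ''ᵁ W'')) => a • res L hW'
          (val s (U.ι ''ᵁ (U : Scheme.{u}).basicOpen c))) =
        (fun a : Γ(Y, U.ι ''ᵁ (((U : Scheme.{u}).basicOpen c).ι ''ᵁ W'')) => (s.app _ a : Γ(L, _))) from
        funext fun a => by rw [res_val]; exact (app_eq_smul s a).symm]
      exact ConcreteCategory.bijective_of_isIso (((Scheme.Modules.restrictFunctor
        ((U : Scheme.{u}).basicOpen c).ι).map ((Scheme.Modules.restrictFunctor U.ι).map s)).app W'')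
    refine le_genLocus s h8 ⟨g.base y, h5, ?_⟩
    change (g ≫ U.ι).base y = f.base x
    simp [g, y, morphismRestrict_ι]
  · intro x hx
    obtain ⟨U, hxU, hU⟩ := (mem_genLocus_iff s).mp hx
    refine (mem_genLocus_iff _).mpr ⟨f ⁻¹ᵁ U, hxU, (isIso_restrict_iff _ _).mp ?_⟩
    haveI := (isIso_restrict_iff s U).mpr hU
    haveI := (isIso_restrict_pullback_iff f U s).mpr inferInstance
    rw [Functor.map_comp]
    infer_instance

theorem nonempty_pullTensorIso (f : X ⟶ Y) (M N : Y.Modules) :
    Nonempty (CohB1.tensorMod ((Scheme.Modules.pullback f).obj M) ((Scheme.Modules.pullback f).obj N) ≅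
      (Scheme.Modules.pullback f).obj (CohB1.tensorMod M N)) :=
  ⟨Groth.Agent.KFlat.pullTensorIso f M N⟩

theorem nonempty_pullPowIso (f : X ⟶ Y) (L : Y.Modules) : ∀ n : ℕ,
    Nonempty (CohB1.tensorPow ((Scheme.Modules.pullback f).obj L) n ≅
      (Scheme.Modules.pullback f).obj (CohB1.tensorPow L n))
  | 0 => ⟨(PicLoc.pullbackStructureIso f).symm⟩
  | n + 1 => by
    obtain ⟨e⟩ := nonempty_pullPowIso f L n
    obtain ⟨i⟩ := nonempty_pullTensorIso f (CohB1.tensorPow L n) L
    exact ⟨PicGrp.tensorModIso e (Iso.refl _) ≪≫ i⟩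

/-- Inverse image of a section of a power. -/
theorem exists_pullback_section (f : X ⟶ Y) (hL : PicF.IsInvertible L) {n : ℕ}
    (s : Coh.structureModule Y ⟶ CohB1.tensorPow L n) :
    ∃ t : Coh.structureModule X ⟶ CohB1.tensorPow ((Scheme.Modules.pullback f).obj L) n,
      CohB1.genLocus _ t = f ⁻¹ᵁ CohB1.genLocus _ s := by
  obtain ⟨i⟩ := nonempty_pullPowIso f L n
  exact ⟨((PicLoc.pullbackStructureIso f).inv ≫ (Scheme.Modules.pullback f).map s) ≫ i.inv,
    (genLocus_comp _ i.inv).trans
      (genLocus_pullback f (isInvertible_tensorPow hL n) s (PicLoc.pullbackStructureIso f).symm)⟩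

/-- Inverse image along an embedding preserves ampleness. -/
theorem isAmple_pullback (i : X ⟶ Y) [CompactSpace X] (hi : Topology.IsInducing i.base)
    (hL : CohB1.IsAmple L) : CohB1.IsAmple ((Scheme.Modules.pullback i).obj L) := by
  refine isAmple_of_isBasis (PicLoc.isInvertible_pullback i hL.1) (Opens.isBasis_iff_nbhd.mpr ?_)
  intro U x hx
  obtain ⟨V, hV, hVU⟩ := hi.isOpen_iff.mp U.2
  have hxV : i.base x ∈ (⟨V, hV⟩ : Y.Opens) := hVU.ge hx
  obtain ⟨n, s, hxs, hsV, -⟩ := exists_mem_le hL hxV
  obtain ⟨t, ht⟩ := exists_pullback_section i hL.1 s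
  refine ⟨_, ⟨n, t, rfl⟩, ?_, ?_⟩
  · rw [ht]; exact hxs
  · rw [ht]
    exact fun z hz => hVU.le (hsV hz)

theorem isAmple_restrict (j : X ⟶ Y) [IsOpenImmersion j] [CompactSpace X]
    (hL : CohB1.IsAmple L) : CohB1.IsAmple (L.restrict j) :=
  isAmple_congr ((Scheme.Modules.restrictFunctorIsoPullback j).app L).symm
    (isAmple_pullback j j.isOpenEmbedding.isInducing hL)

end TMul
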