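import Groth.Agent.TMul.Ample
import Groth.Agent.QC.Closure
import Mathlib.AlgebraicGeometry.QuasiAffine
import Mathlib.RingTheory.LocalRing.Basic

/-!
Generating loci form a basis for an ample module; sums of sections; ampleness of powers and products.
-/

set_option autoImplicit false
set_option backward.isDefEq.respectTransparency false

universe u

open CategoryTheory CategoryTheory.Limits AlgebraicGeometry TopologicalSpace Opposite
open Groth.Agent.QC (res resO res_res res_smul resO_resO app_res)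

noncomputable section

namespace TMul

variable {X : Scheme.{u}} {L L' M : X.Modules}

lemma val_comp (s : Coh.structureModule X ⟶ L) (φ : L ⟶ L') (U : X.Opens) :
    val (s ≫ φ) U = φ.app U (val s U) := rfl

lemma isGen_one (U : X.Opens) : IsGen (N := Coh.structureModule X) (1 : Γ(X, U)) := fun V hV => by
  have h : (fun c : Γ(X, V) => c • res (Coh.structureModule X) hV (1 : Γ(X, U))) = id := by
    funext c
    change HMul.hMul (α := Γ(X, V)) (β := Γ(X, V)) (γ := Γ(X, V)) c (resO X hV (1 : Γ(X, U))) = c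
    rw [map_one, mul_one]
  exact h ▸ Function.bijective_id

lemma isInvertible_structureModule : PicF.IsInvertible (Coh.structureModule X) :=
  PicLoc.isInvertible_structureModule X

/-- Invertible modules are quasi-coherent. -/
theorem isQCoh_of_isInvertible (hL : PicF.IsInvertible L) : Coh.IsQCoh L :=
  Groth.Agent.QC.isQCoh_of_local fun x => by
    obtain ⟨U, hx, ⟨φ⟩⟩ := hL x
    exact ⟨U, U.ι, inferInstance, ⟨⟨x, hx⟩, rfl⟩,
      Groth.Agent.QC.isQCoh_of_iso φ.symm (Groth.Agent.QC.isQCoh_unit _)⟩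

/-- A basic open of an affine generating locus is a generating locus. -/
theorem exists_genLocus_eq_basicOpen [CompactSpace X] [QuasiSeparatedSpace X]
    (hL : PicF.IsInvertible L) (s : Coh.structureModule X ⟶ L) (f : Γ(X, CohB1.genLocus L s)) :
    ∃ (n : ℕ) (t : Coh.structureModule X ⟶ CohB1.tensorPow L (n + 1)),
      CohB1.genLocus _ t = X.basicOpen f := by
  have : (Coh.structureModule X).IsQuasicoherent := Groth.Agent.QC.isQCoh_unit X
  obtain ⟨n, -, t', ht'⟩ := exists_twist_extends (F := Coh.structureModule X) hL s f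
  let a := homOf t' ≫ (leftUnitIso (CohB1.tensorPow L n)).hom
  refine ⟨n, SecTwist.tmulHom a s,
    (genLocus_tmulHom (isInvertible_tensorPow hL n) hL a s).trans ?_⟩
  rw [genLocus_comp, inf_comm]
  refine genLocus_inf (homOf t')
    (isGen_tm (isGen_one (CohB1.genLocus L s)) (isGen_pw (isGen_genLocus s) n)) ?_
  have h1 : val s (CohB1.genLocus L s) = (1 : Γ(X, CohB1.genLocus L s)) • val s _ := (one_smul _ _).symm
  rw [val_homOf, ht', twist_eq_tm s h1, one_pow, one_smul, ← smul_tm]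
  congr 1
  exact (mul_one (M := Γ(X, CohB1.genLocus L s)) f).symm

theorem isSeparated_of_isAmple (hL : CohB1.IsAmple L) : X.IsSeparated :=
  isSeparated_of_forall hL.1 hL.2.2

/-- Small affine generating loci of an ample module. -/
theorem exists_mem_le (hL : CohB1.IsAmple L) {x : X} {U : X.Opens} (hx : x ∈ U) :
    ∃ (n : ℕ) (t : Coh.structureModule X ⟶ CohB1.tensorPow L (n + 1)),
      x ∈ CohB1.genLocus _ t ∧ CohB1.genLocus _ t ≤ U ∧ IsAffineOpen (CohB1.genLocus _ t) := by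
  have := hL.2.1
  have := isSeparated_of_isAmple hL
  obtain ⟨n, s, hxs, hs⟩ := hL.2.2 x
  obtain ⟨f, hf, hxf⟩ := hs.exists_basicOpen_le ⟨x, hx⟩ hxs
  obtain ⟨k, t, ht⟩ := exists_genLocus_eq_basicOpen (isInvertible_tensorPow hL.1 _) s f
  obtain ⟨e⟩ := nonempty_powMulIso L (n + 1) (k + 1)
  obtain ⟨N, hN⟩ : ∃ N, (n + 1) * (k + 1) = N + 1 := ⟨n * k + n + k, by ring⟩
  let e' := e ≪≫ eqToIso (congrArg (CohB1.tensorPow L) hN)
  refine ⟨N, t ≫ e'.hom, ?_⟩
  rw [genLocus_comp, ht]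
  exact ⟨hxf, hf, hs.basicOpen f⟩

theorem isBasis_of_isAmple (hL : CohB1.IsAmple L) :
    Opens.IsBasis {U : X.Opens | ∃ (n : ℕ) (s : Coh.structureModule X ⟶ CohB1.tensorPow L (n + 1)),
      U = CohB1.genLocus _ s} :=
  Opens.isBasis_iff_nbhd.mpr fun {U x} hx => by
    obtain ⟨n, t, hxt, htU, -⟩ := exists_mem_le hL hx
    exact ⟨_, ⟨n, t, rfl⟩, hxt, htU⟩

theorem isAmple_of_isBasis [CompactSpace X] (hL : PicF.IsInvertible L)
    (hB : Opens.IsBasis {U : X.Opens | ∃ (n : ℕ) (s : Coh.structureModule X ⟶ CohB1.tensorPow L (n + 1)),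
      U = CohB1.genLocus _ s}) : CohB1.IsAmple L := by
  refine ⟨hL, inferInstance, fun x => ?_⟩
  obtain ⟨V, hV, hxV, -⟩ := exists_isAffineOpen_mem_and_subset (x := x) (U := ⊤) trivial
  obtain ⟨W, ⟨n, s, rfl⟩, hxW, hWV⟩ := Opens.isBasis_iff_nbhd.mp hB hxV
  exact ⟨n, s, hxW, isAffineOpen_genLocus_of_le (isInvertible_tensorPow hL _) s hV hWV⟩

section Sum

variable {ι : Type*} [Fintype ι] (s : ι → (Coh.structureModule X ⟶ L))

lemma val_sum (S : Finset ι) (U : X.Opens) : val (∑ i ∈ S, s i) U = ∑ i ∈ S, val (s i) U :=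
  map_sum (AddMonoidHom.mk' (fun φ : Coh.structureModule X ⟶ L => val φ U) fun _ _ => rfl) s S

lemma mem_genLocus_iff_isUnit (s : Coh.structureModule X ⟶ L) {U : X.Opens} {e : Γ(L, U)}
    (he : IsGen e) {c : Γ(X, U)} (hc : val s U = c • e) {x : X} (hx : x ∈ U) :
    x ∈ CohB1.genLocus L s ↔ IsUnit (X.presheaf.germ U x hx c) := by
  rw [← X.mem_basicOpen c x hx, ← genLocus_inf s he hc]
  exact ⟨fun h => ⟨hx, h⟩, fun h => h.2⟩

lemma exists_coeffs (hL : PicF.IsInvertible L) (x : X) :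
    ∃ (U : X.Opens) (hx : x ∈ U) (e : Γ(L, U)) (c : ι → Γ(X, U)),
      IsGen e ∧ (∀ i, val (s i) U = c i • e) ∧ val (∑ i, s i) U = (∑ i, c i) • e ∧
        (x ∈ CohB1.genLocus L (∑ i, s i) ↔
          IsUnit (∑ i, X.presheaf.germ U x hx (c i))) := by
  obtain ⟨U, e, hx, he⟩ := exists_isGen hL x
  choose c hc using fun i => (he U le_rfl).2 (val (s i) U)
  simp only [Groth.Agent.QC.res_self] at hc
  have hsum : val (∑ i, s i) U = (∑ i, c i) • e := by
    rw [val_sum, Finset.sum_smul]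
    exact Finset.sum_congr rfl fun i _ => (hc i).symm
  refine ⟨U, hx, e, c, he, fun i => (hc i).symm, hsum, ?_⟩
  rw [mem_genLocus_iff_isUnit _ he hsum hx, map_sum]

lemma isUnit_sum_germ {R : Type*} [CommRing R] [IsLocalRing R] (g : ι → R) {j : ι}
    (hj : IsUnit (g j)) (h : ∀ i, i ≠ j → ¬ IsUnit (g i)) : IsUnit (∑ i, g i) := by
  classical
  by_contra hs
  have : g j ∈ IsLocalRing.maximalIdeal R := by
    rw [← Finset.add_sum_erase _ g (Finset.mem_univ j)] at hs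
    have h1 : ∑ i ∈ Finset.univ.erase j, g i ∈ IsLocalRing.maximalIdeal R :=
      Ideal.sum_mem _ fun i hi => h i (Finset.ne_of_mem_erase hi)
    exact (Ideal.add_mem_iff_left _ h1).mp hs
  exact this hj

theorem genLocus_sum_le (hL : PicF.IsInvertible L) :
    CohB1.genLocus L (∑ i, s i) ≤ ⨆ i, CohB1.genLocus L (s i) := fun x hx => by
  obtain ⟨U, hxU, e, c, he, hc, -, hiff⟩ := exists_coeffs s hL x
  by_contra hn
  refine (Ideal.sum_mem (IsLocalRing.maximalIdeal _) fun i _ => fun hi => hn ?_ :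
    ∑ i, X.presheaf.germ U x hxU (c i) ∈ IsLocalRing.maximalIdeal _) (hiff.mp hx)
  exact Opens.mem_iSup.mpr ⟨i, (mem_genLocus_iff_isUnit _ he (hc i) hxU).mpr hi⟩

theorem mem_genLocus_sum (hL : PicF.IsInvertible L) {x : X} {j : ι}
    (hj : x ∈ CohB1.genLocus L (s j)) (h : ∀ i, i ≠ j → x ∉ CohB1.genLocus L (s i)) :
    x ∈ CohB1.genLocus L (∑ i, s i) := by
  obtain ⟨U, hxU, e, c, he, hc, -, hiff⟩ := exists_coeffs s hL x
  exact hiff.mpr (isUnit_sum_germ _ ((mem_genLocus_iff_isUnit _ he (hc j) hxU).mp hj)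
    fun i hi hu => h i hi ((mem_genLocus_iff_isUnit _ he (hc i) hxU).mpr hu))

theorem isAffineOpen_genLocus_sum (hL : PicF.IsInvertible L)
    (hs : ∀ i, IsAffineOpen (CohB1.genLocus L (s i))) :
    IsAffineOpen (CohB1.genLocus L (∑ i, s i)) := by
  let σ := ∑ i, s i
  choose g hg using fun i => (isGen_genLocus σ _ le_rfl).2 (val (s i) (CohB1.genLocus L σ))
  simp only [res_val] at hg
  have h1 : ∑ i, g i = 1 := by
    refine (isGen_genLocus σ _ le_rfl).1 ?_
    simp only [res_val, one_smul, Finset.sum_smul, hg]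
    exact (val_sum s Finset.univ _).symm
  refine isAffineOpen_of_isAffineOpen_basicOpen _ (Set.range g) ?_ ?_
  · rw [Ideal.eq_top_iff_one, ← h1]
    exact Ideal.sum_mem _ fun i _ => Ideal.subset_span ⟨i, rfl⟩
  · rintro _ ⟨i, rfl⟩
    rw [← genLocus_inf (s i) (isGen_genLocus σ) (hg i).symm, inf_comm]
    exact isAffineOpen_inf_genLocus hL σ (hs i)

end Sum

/-- An affine generating locus between a finite set and an open set. -/
theorem exists_finite_le (hL : CohB1.IsAmple L) {Z : Set X} (hZ : Z.Finite) {U : X.Opens}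
    (hZU : Z ⊆ U) :
    ∃ (n : ℕ) (t : Coh.structureModule X ⟶ CohB1.tensorPow L (n + 1)),
      Z ⊆ CohB1.genLocus _ t ∧ (CohB1.genLocus _ t : Set X) ⊆ U ∧
        IsAffineOpen (CohB1.genLocus _ t) := by
  classical
  let Z₀ : Set X := {z ∈ Z | ∀ w ∈ Z, z ⤳ w → w = z}
  have hmax : ∀ z ∈ Z, ∃ w ∈ Z₀, z ⤳ w := by
    intro z hz
    obtain ⟨w, ⟨hw, hzw⟩, hwmin⟩ := (hZ.subset (Set.sep_subset Z fun w => z ⤳ w)).exists_minimalFor
      (fun w => closure {w}) _ ⟨z, hz, specializes_rfl⟩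
    refine ⟨w, ⟨hw, fun v hv hwv => ?_⟩, hzw⟩
    exact (hwv.antisymm (specializes_iff_closure_subset.mpr
      (hwmin ⟨hv, hzw.trans hwv⟩ (specializes_iff_closure_subset.mp hwv)))).eq.symm
  have : Finite Z₀ := (hZ.subset (Set.sep_subset Z _)).to_subtype
  have := Fintype.ofFinite Z₀
  have key : ∀ z : Z₀, ∃ (n : ℕ) (t : Coh.structureModule X ⟶ CohB1.tensorPow L (n + 1)),
      (z : X) ∈ CohB1.genLocus _ t ∧ CohB1.genLocus _ t ≤ U ∧
      (∀ w : Z₀, w ≠ z → (w : X) ∉ CohB1.genLocus _ t) ∧ IsAffineOpen (CohB1.genLocus _ t) := by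
    intro z
    let V : X.Opens := ⟨(⋃ w : {w : Z₀ // w ≠ z}, closure {(w.1 : X)})ᶜ,
      (isClosed_iUnion_of_finite fun _ => isClosed_closure).isOpen_compl⟩
    have hzV : (z : X) ∈ U ⊓ V := ⟨hZU z.2.1, fun h => by
      obtain ⟨w, hw⟩ := Set.mem_iUnion.mp h
      exact w.2 (Subtype.ext (w.1.2.2 z z.2.1 (specializes_iff_mem_closure.mpr hw)).symm)⟩
    obtain ⟨n, t, h1, h2, h3⟩ := exists_mem_le hL hzV
    exact ⟨n, t, h1, h2.trans inf_le_left, fun w hw h =>
      (h2 h).2 (Set.mem_iUnion.mpr ⟨⟨w, hw⟩, subset_closure rfl⟩), h3⟩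
  choose n t hzt htU hw ht using key
  obtain ⟨N, hN⟩ : ∃ N, N + 1 = ∏ z, (n z + 1) :=
    ⟨_, Nat.sub_add_cancel (Finset.prod_pos fun z _ => Nat.succ_pos _)⟩
  choose t' ht' using fun z =>
    exists_genLocus_pow hL.1 (N := N) (hN ▸ Finset.dvd_prod_of_mem _ (Finset.mem_univ z)) (t z)
  have hLN := isInvertible_tensorPow hL.1 (N + 1)
  refine ⟨N, ∑ z, t' z, fun z hz => ?_, ?_, isAffineOpen_genLocus_sum _ hLN fun z => ?_⟩
  · obtain ⟨w, hw₀, hzw⟩ := hmax z hz
    refine hzw.mem_open (CohB1.genLocus _ _).2 (mem_genLocus_sum _ hLN (j := ⟨w, hw₀⟩) ?_ fun i hi => ?_)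
    · rw [ht']; exact hzt ⟨w, hw₀⟩
    · rw [ht']; exact hw i ⟨w, hw₀⟩ (Ne.symm hi)
  · exact (genLocus_sum_le _ hLN).trans (iSup_le fun z => (ht' z).le.trans (htU z))
  · rw [ht']; exact ht z

theorem isAmple_congr (e : L ≅ L') (h : CohB1.IsAmple L) : CohB1.IsAmple L' := by
  refine ⟨InvGen.isInvertible fun x => ?_, h.2.1, fun x => ?_⟩
  · obtain ⟨U, g, hx, hg⟩ := exists_isGen h.1 x
    refine ⟨U, e.hom.app U g, hx, fun V hV => ?_⟩
    rw [show (fun c : Γ(X, V) => c • res L' hV (e.hom.app U g)) =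
        e.hom.app V ∘ fun c : Γ(X, V) => c • res L hV g from
      funext fun c => by rw [Function.comp_apply, app_smul, app_res]]
    exact (ConcreteCategory.bijective_of_isIso (e.hom.app V)).comp (hg V hV)
  · obtain ⟨n, s, h1, h2⟩ := h.2.2 x
    obtain ⟨f⟩ := nonempty_powCongr e (n + 1)
    exact ⟨n, s ≫ f.hom, by rwa [genLocus_comp], by rwa [genLocus_comp]⟩

theorem isAmple_tensorPow (hL : CohB1.IsAmple L) {n : ℕ} (hn : 0 < n) :
    CohB1.IsAmple (CohB1.tensorPow L n) := by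
  refine ⟨isInvertible_tensorPow hL.1 n, hL.2.1, fun x => ?_⟩
  obtain ⟨a, s, h1, h2⟩ := hL.2.2 x
  obtain ⟨m, rfl⟩ := Nat.exists_eq_succ_of_ne_zero hn.ne'
  obtain ⟨t, ht⟩ := exists_genLocus_pow hL.1 (N := m * a + m + a) ⟨m + 1, by ring⟩ s
  obtain ⟨e⟩ := nonempty_powMulIso L (m + 1) (a + 1)
  let e' := eqToIso (congrArg (CohB1.tensorPow L)
    (show m * a + m + a + 1 = (m + 1) * (a + 1) by ring)) ≪≫ e.symm
  refine ⟨a, t ≫ e'.hom, ?_⟩
  rw [genLocus_comp, ht]
  exact ⟨h1, h2⟩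

theorem isAmple_of_tensorPow (hL : PicF.IsInvertible L) {n : ℕ} (hn : 0 < n)
    (h : CohB1.IsAmple (CohB1.tensorPow L n)) : CohB1.IsAmple L := by
  refine ⟨hL, h.2.1, fun x => ?_⟩
  obtain ⟨a, s, h1, h2⟩ := h.2.2 x
  obtain ⟨m, rfl⟩ := Nat.exists_eq_succ_of_ne_zero hn.ne'
  obtain ⟨e⟩ := nonempty_powMulIso L (m + 1) (a + 1)
  let e' := e ≪≫ eqToIso (congrArg (CohB1.tensorPow L)
    (show (m + 1) * (a + 1) = m * a + m + a + 1 by ring))
  refine ⟨m * a + m + a, s ≫ e'.hom, ?_⟩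
  rw [genLocus_comp]
  exact ⟨h1, h2⟩

theorem isAmple_tensorMod (hL : CohB1.IsAmple L) (hL' : PicF.IsInvertible L')
    (h : ∀ x : X, ∃ (n : ℕ) (s' : Coh.structureModule X ⟶ CohB1.tensorPow L' (n + 1)),
      x ∈ CohB1.genLocus _ s') : CohB1.IsAmple (CohB1.tensorMod L L') := by
  refine ⟨isInvertible_tensorMod hL.1 hL', hL.2.1, fun x => ?_⟩
  obtain ⟨b, s', hxs'⟩ := h x
  obtain ⟨a, s, hxs, hsU, hs⟩ := exists_mem_le hL hxs'
  obtain ⟨t, ht⟩ := exists_genLocus_pow hL.1 (N := a * b + a + b) ⟨b + 1, by ring⟩ s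
  obtain ⟨t', ht'⟩ := exists_genLocus_pow hL' (N := a * b + a + b) ⟨a + 1, by ring⟩ s'
  obtain ⟨e⟩ := nonempty_powTensorIso L L' (a * b + a + b + 1)
  refine ⟨_, SecTwist.tmulHom t t' ≫ e.inv, ?_⟩
  rw [genLocus_comp, genLocus_tmulHom (isInvertible_tensorPow hL.1 _) (isInvertible_tensorPow hL' _),
    ht, ht', inf_eq_left.mpr hsU]
  exact ⟨hxs, hs⟩

theorem isAmple_of_isQuasiAffine [X.IsQuasiAffine] (hL : PicF.IsInvertible L) :
    CohB1.IsAmple L := by
  refine ⟨hL, inferInstance, fun x => ?_⟩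
  obtain ⟨U, e, hxU, he⟩ := exists_isGen hL x
  obtain ⟨W, ⟨r, hr, rfl⟩, hxr, hrU⟩ :=
    Opens.isBasis_iff_nbhd.mp (Scheme.IsQuasiAffine.isBasis_basicOpen X) hxU
  let s : Coh.structureModule X ⟶ Coh.structureModule X :=
    homOf (L := Coh.structureModule X) r
  have hsr : CohB1.genLocus _ s = X.basicOpen r := by
    rw [← genLocus_inf s (isGen_one ⊤) (c := r), top_inf_eq]
    rw [val_homOf, Groth.Agent.QC.res_self]
    exact (mul_one (M := Γ(X, ⊤)) r).symm
  have : L.IsQuasicoherent := isQCoh_of_isInvertible hL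
  obtain ⟨n, -, t', ht'⟩ := exists_twist_extends (F := L) isInvertible_structureModule s
    (res L (hsr.le.trans hrU) e)
  obtain ⟨i⟩ := nonempty_powUnitIso (X := X) n
  let t := SecTwist.tmulHom (homOf t' ≫
    (PicGrp.tensorModIso (Iso.refl L) i ≪≫ SecTwist.unitorR L).hom) s
  refine ⟨0, t ≫ (SecTwist.unitorR L ≪≫ (leftUnitIso L).symm).hom, ?_⟩
  have hloc : CohB1.genLocus _ t = X.basicOpen r := by
    rw [genLocus_tmulHom hL isInvertible_structureModule, genLocus_comp, ← hsr]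
    refine inf_eq_right.mpr (le_genLocus (homOf t') ?_)
    rw [val_homOf, ht', twist_eq_tm s (one_smul _ _).symm, one_pow, one_smul]
    exact isGen_tm (he.res _) (isGen_pw (isGen_genLocus s) n)
  rw [genLocus_comp, hloc]
  exact ⟨hxr, hr⟩

theorem isQuasiAffine_of_isAmple (h : CohB1.IsAmple (Coh.structureModule X)) :
    X.IsQuasiAffine := by
  have := h.2.1
  refine Scheme.IsQuasiAffine.of_forall_exists_mem_basicOpen X fun x => ?_
  obtain ⟨n, s, hx, hs⟩ := h.2.2 x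
  obtain ⟨i⟩ := nonempty_powUnitIso (X := X) (n + 1)
  have hr : CohB1.genLocus _ (s ≫ i.hom) = X.basicOpen (val (s ≫ i.hom) ⊤ : Γ(X, ⊤)) := by
    rw [← genLocus_inf (s ≫ i.hom) (isGen_one ⊤) (c := (val (s ≫ i.hom) ⊤ : Γ(X, ⊤)))
      (mul_one (M := Γ(X, ⊤)) _).symm, top_inf_eq]
  rw [genLocus_comp] at hr
  exact ⟨_, hr ▸ hs, hr ▸ hx⟩

end TMul
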