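import Groth.Agent.TMul.RelAmpleOps
import Mathlib.AlgebraicGeometry.Morphisms.UniversallyClosed

/-!
Universally closed over an affine base with an ample module: generating loci are affine.
-/

set_option autoImplicit false
set_option backward.isDefEq.respectTransparency false

universe u

open CategoryTheory CategoryTheory.Limits AlgebraicGeometry TopologicalSpace Opposite
open Groth.Agent.QC (res resO res_res res_smul resO_resO app_res)

noncomputable section

namespace TMul

variable {X Y S P : Scheme.{u}} {L M : X.Modules}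

lemma val_add (a b : Coh.structureModule X ⟶ L) (U : X.Opens) :
    val (a + b) U = val a U + val b U := rfl

lemma val_sub (a b : Coh.structureModule X ⟶ L) (U : X.Opens) :
    val (a - b) U = val a U - val b U := rfl

lemma val_homOf_comp (c : Γ(X, ⊤)) (φ : Coh.structureModule X ⟶ L) (U : X.Opens) :
    val (homOf (L := Coh.structureModule X) c ≫ φ) U = resO X (le_top : U ≤ ⊤) c • val φ U := by
  rw [val_comp, val_homOf]
  exact app_eq_smul φ _

/-- Endomorphisms of the structure module commute. -/
lemma unit_endo_comm (a b : Coh.structureModule X ⟶ Coh.structureModule X) : a ≫ b = b ≫ a := by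
  refine hom_ext_val ?_
  rw [val_comp, val_comp, app_eq_smul b, app_eq_smul a]
  exact mul_comm (G := Γ(X, ⊤)) _ _

lemma genLocus_zero : CohB1.genLocus L (0 : Coh.structureModule X ⟶ L) = ⊥ := by
  refine eq_bot_iff.mpr fun x hx => ?_
  obtain ⟨U, hxU, hU⟩ := (mem_genLocus_iff _).mp hx
  have h0 : val (0 : Coh.structureModule X ⟶ L) U = 0 := rfl
  have h10 : (1 : Γ(X, U)) = 0 := (hU U le_rfl).1 (by simp only [h0, map_zero, smul_zero])
  have h1 := congrArg (X.presheaf.germ U x hxU) h10
  rw [map_one, map_zero] at h1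
  exact (one_ne_zero h1).elim

/-- Pulling back a difference, one term scaled by a function, that vanishes after restriction. -/
lemma pullback_sub_eq_zero {U : X.Opens} (p : P ⟶ X) (γ : (U : Scheme.{u}) ⟶ P) (hγ : γ ≫ p = U.ι)
    (t σ : Coh.structureModule X ⟶ M) (β : Γ(P, ⊤))
    (h : (Scheme.Modules.restrictFunctor U.ι).map t =
      (Scheme.Modules.restrictUnitIso U.ι).hom ≫
        homOf (L := Coh.structureModule (U : Scheme.{u})) (γ.appTop β) ≫
        (Scheme.Modules.restrictUnitIso U.ι).inv ≫ (Scheme.Modules.restrictFunctor U.ι).map σ) :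
    (Scheme.Modules.pullback γ).map
      ((PicLoc.pullbackStructureIso p).inv ≫ (Scheme.Modules.pullback p).map t -
        homOf (L := Coh.structureModule P) β ≫
          (PicLoc.pullbackStructureIso p).inv ≫ (Scheme.Modules.pullback p).map σ) = 0 := by
  let i : Scheme.Modules.pullback p ⋙ Scheme.Modules.pullback γ ≅ Scheme.Modules.restrictFunctor U.ι :=
    Scheme.Modules.pullbackComp γ p ≪≫ Scheme.Modules.pullbackCongr hγ ≪≫
      (Scheme.Modules.restrictFunctorIsoPullback U.ι).symm
  have hN : ∀ φ : Coh.structureModule X ⟶ M,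
      (Scheme.Modules.pullback γ).map ((Scheme.Modules.pullback p).map φ) =
        i.hom.app _ ≫ (Scheme.Modules.restrictFunctor U.ι).map φ ≫ i.inv.app _ := fun φ => by
    rw [← Category.assoc, ← i.hom.naturality φ, Category.assoc, Iso.hom_inv_id_app]
    exact (Category.comp_id _).symm
  rw [Functor.map_sub, Functor.map_comp, Functor.map_comp, Functor.map_comp, hN, hN, h, sub_eq_zero]
  have hμ := pullback_map_unit γ (homOf (L := Coh.structureModule P) β) β
    ((val_homOf (L := Coh.structureModule P) β ⊤).trans (Groth.Agent.QC.res_self _ _ _))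
  rw [← Iso.eq_comp_inv] at hμ
  rw [hμ]
  simp only [Category.assoc]
  let ε := PicLoc.pullbackStructureIso γ
  let a : Coh.structureModule (U : Scheme.{u}) ⟶ Coh.structureModule (U : Scheme.{u}) :=
    ε.inv ≫ (Scheme.Modules.pullback γ).map (PicLoc.pullbackStructureIso p).inv ≫ i.hom.app _ ≫
      (Scheme.Modules.restrictUnitIso U.ι).hom
  let b := homOf (L := Coh.structureModule (U : Scheme.{u})) (γ.appTop β)
  calc _ = ε.hom ≫ (a ≫ b) ≫ (Scheme.Modules.restrictUnitIso U.ι).inv ≫
        (Scheme.Modules.restrictFunctor U.ι).map σ ≫ i.inv.app M := by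
        simp [a, b, ε]
    _ = _ := by
        rw [unit_endo_comm a b]
        simp [a, b, ε]

/-- Restricted sections with values in proportion. -/
lemma restrict_map_eq (U : X.Opens) (t σ : Coh.structureModule X ⟶ M) (c : Γ(X, U))
    (hc : val t U = c • val σ U) :
    (Scheme.Modules.restrictFunctor U.ι).map t =
      (Scheme.Modules.restrictUnitIso U.ι).hom ≫
        homOf (L := Coh.structureModule (U : Scheme.{u})) (U.topIso.inv c) ≫
        (Scheme.Modules.restrictUnitIso U.ι).inv ≫ (Scheme.Modules.restrictFunctor U.ι).map σ := by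
  rw [← Iso.inv_comp_eq]
  refine hom_ext_val ?_
  rw [val_homOf_comp, Groth.Agent.QC.resO_self]
  have hle : U.ι ''ᵁ ⊤ ≤ U := U.ι_image_le ⊤
  have key : ∀ φ : Coh.structureModule X ⟶ M,
      val ((Scheme.Modules.restrictUnitIso U.ι).inv ≫ (Scheme.Modules.restrictFunctor U.ι).map φ) ⊤ =
        (res M hle (val φ U) : Γ(M, U.ι ''ᵁ ⊤)) := fun φ => by
    rw [val_comp, res_val]
    have h1 : (Scheme.Modules.restrictUnitIso U.ι).inv.app ⊤ (1 : Γ((U : Scheme.{u}), ⊤)) =
        (1 : Γ(X, U.ι ''ᵁ ⊤)) := map_one (U.ι.appIso ⊤).inv.hom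
    exact congrArg (fun w : Γ(X, U.ι ''ᵁ ⊤) => φ.app (U.ι ''ᵁ ⊤) w) h1
  rw [key, key, hc, res_smul]
  change resO X hle c • _ = (U.ι.appIso ⊤).inv.hom (U.topIso.inv c) • res M hle (val σ U)
  congr 1
  simp [Scheme.Opens.topIso, resO]
  rfl

theorem isAffineOpen_genLocus_of_universallyClosed [IsAffine S] (f : X ⟶ S) [UniversallyClosed f]
    (hL : CohB1.IsAmple L) (s : Coh.structureModule X ⟶ L) :
    IsAffineOpen (CohB1.genLocus L s) := by
  have := hL.2.1
  have := isSeparated_of_isAmple hL
  let U := CohB1.genLocus L s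
  have := isAffineHom_ι_genLocus hL.1 s
  have : CompactSpace (U : Scheme.{u}) := QuasiCompact.compactSpace_of_compactSpace U.ι
  -- the coefficient of a section of a power against the power of `s`
  have coeff : ∀ (n : ℕ) (t : Coh.structureModule X ⟶ CohB1.tensorPow L (n + 1)),
      ∃ c : Γ(X, U), val t U = c • val (SecTwist.powHom s (n + 1)) U ∧
        U ⊓ CohB1.genLocus _ t = X.basicOpen c := fun n t => by
    have hg : IsGen (val (SecTwist.powHom s (n + 1)) U) := by
      have := isGen_genLocus (SecTwist.powHom s (n + 1))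
      rwa [genLocus_powHom hL.1 s n] at this
    obtain ⟨c, hc⟩ := (hg U le_rfl).2 (val t U)
    simp only [res_val] at hc
    exact ⟨c, hc.symm, genLocus_inf t hg hc.symm⟩
  have : (U : Scheme.{u}).IsQuasiAffine := by
    refine Scheme.IsQuasiAffine.of_forall_exists_mem_basicOpen _ fun x => ?_
    obtain ⟨n, t, hxt, ht⟩ := hL.2.2 x.1
    obtain ⟨c, -, hc⟩ := coeff n t
    refine ⟨U.topIso.inv c, ?_⟩
    have him : U.ι ''ᵁ (U : Scheme.{u}).basicOpen (U.topIso.inv c) = X.basicOpen c := by
      rw [Scheme.image_basicOpen]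
      simp [Scheme.Opens.topIso]
      exact X.basicOpen_res_eq _ _
    refine ⟨?_, ?_⟩
    · rw [← U.ι.isAffineOpen_iff_of_isOpenImmersion, him, ← hc, inf_comm]
      exact isAffineOpen_inf_genLocus hL.1 s ht
    · obtain ⟨z, hz, hzx⟩ := him.ge (hc.le ⟨x.2, hxt⟩)
      exact U.ι.isOpenEmbedding.injective hzx ▸ hz
  -- the graph
  let u := (U : Scheme.{u}).toSpecΓ
  let φ : Spec Γ((U : Scheme.{u}), ⊤) ⟶ S := Spec.map (U.ι ≫ f).appTop ≫ inv S.toSpecΓ
  have huφ : U.ι ≫ f = u ≫ φ := by
    simp only [φ, u, ← Category.assoc, ← Scheme.toSpecΓ_naturality]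
    simp
  let γ : (U : Scheme.{u}) ⟶ pullback f φ := pullback.lift U.ι u huφ
  let p := pullback.fst f φ
  let q := pullback.snd f φ
  have hγp : γ ≫ p = U.ι := pullback.lift_fst _ _ _
  have hγq : γ ≫ q = u := pullback.lift_snd _ _ _
  let Z := closure (Set.range γ.base)
  have hclosed : IsClosedMap q.base := by
    have : UniversallyClosed q := MorphismProperty.pullback_snd f φ inferInstance
    exact q.isClosedMap
  have hsurj : ∀ y, ∃ z ∈ Z, q.base z = y := by
    intro y
    have hsub : Set.range u.base ⊆ q.base '' Z := by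
      rintro _ ⟨x, rfl⟩
      exact ⟨γ.base x, subset_closure ⟨x, rfl⟩, by rw [← Scheme.Hom.comp_apply, hγq]⟩
    exact closure_minimal hsub (hclosed _ isClosed_closure) (u.denseRange.closure_range ▸ trivial)
  have hin : ∀ z ∈ Z, p.base z ∈ U := by
    intro z hz
    by_contra hzU
    obtain ⟨n, t, hxt, -⟩ := hL.2.2 (p.base z)
    obtain ⟨c, hc, -⟩ := coeff n t
    let σ := SecTwist.powHom s (n + 1)
    let β : Γ(pullback f φ, ⊤) :=
      q.appTop ((Scheme.ΓSpecIso Γ((U : Scheme.{u}), ⊤)).inv (U.topIso.inv c))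
    have hβ : γ.appTop β = U.topIso.inv c := by
      change (q.appTop ≫ γ.appTop) _ = _
      rw [← Scheme.Hom.comp_appTop, hγq]
      simp [u]
    let e := PicLoc.pullbackStructureIso p
    let A := e.inv ≫ (Scheme.Modules.pullback p).map t
    let B := homOf (L := Coh.structureModule (pullback f φ)) β ≫ e.inv ≫ (Scheme.Modules.pullback p).map σ
    have hLn := isInvertible_tensorPow hL.1 (n + 1)
    have hP := PicLoc.isInvertible_pullback p hLn
    have hA : z ∈ CohB1.genLocus _ A := by
      rw [show CohB1.genLocus _ A = p ⁻¹ᵁ CohB1.genLocus _ t from genLocus_pullback p hLn t e.symm]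
      exact hxt
    have hB : z ∉ CohB1.genLocus _ (e.inv ≫ (Scheme.Modules.pullback p).map σ) := by
      rw [show CohB1.genLocus _ (e.inv ≫ (Scheme.Modules.pullback p).map σ) = p ⁻¹ᵁ CohB1.genLocus _ σ
        from genLocus_pullback p hLn σ e.symm, genLocus_powHom hL.1 s n]
      exact hzU
    have hd : z ∈ CohB1.genLocus _ (A - B) := by
      obtain ⟨V, g, hzV, hg⟩ := exists_isGen hP z
      obtain ⟨a, ha⟩ := (hg V le_rfl).2 (val A V)
      obtain ⟨b, hb⟩ := (hg V le_rfl).2 (val (e.inv ≫ (Scheme.Modules.pullback p).map σ) V)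
      simp only [Groth.Agent.QC.res_self] at ha hb
      have hua := (mem_genLocus_iff_isUnit A hg ha.symm hzV).mp hA
      have hub := fun h => hB ((mem_genLocus_iff_isUnit _ hg hb.symm hzV).mpr h)
      refine (mem_genLocus_iff_isUnit (A - B) hg (c := a - resO _ (le_top : V ≤ ⊤) β * b) ?_ hzV).mpr ?_
      · rw [val_sub, ← ha, sub_smul]
        congr 1
        rw [mul_smul, hb]
        exact val_homOf_comp β _ V
      · rw [map_sub, map_mul]
        by_contra hn
        refine (IsLocalRing.notMem_maximalIdeal.mpr hua) ?_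
        have h1 := Ideal.mul_mem_left (IsLocalRing.maximalIdeal ((pullback f φ).presheaf.stalk z))
          ((pullback f φ).presheaf.germ V z hzV (resO _ (le_top : V ≤ ⊤) β)) hub
        simpa using Ideal.add_mem _ (show _ ∈ IsLocalRing.maximalIdeal _ from hn) h1
    obtain ⟨_, hw, x, rfl⟩ := mem_closure_iff.mp hz _ (CohB1.genLocus _ (A - B)).2 hd
    have h0 : (PicLoc.pullbackStructureIso γ).inv ≫ (Scheme.Modules.pullback γ).map (A - B) = 0 := by
      rw [pullback_sub_eq_zero p γ hγp t σ β
        (by rw [hβ]; exact restrict_map_eq U t σ c hc), comp_zero]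
    have hx : x ∈ γ ⁻¹ᵁ CohB1.genLocus _ (A - B) := hw
    rw [← genLocus_pullback γ hP (A - B) (PicLoc.pullbackStructureIso γ).symm] at hx
    change x ∈ CohB1.genLocus _ ((PicLoc.pullbackStructureIso γ).inv ≫ _) at hx
    rw [h0, genLocus_zero] at hx
    exact hx
  -- the graph is closed over `U`
  have hgraph : ∀ z ∈ Z, z ∈ Set.range γ.base := by
    intro z hz
    let W := p ⁻¹ᵁ U
    let γ' : (U : Scheme.{u}) ⟶ (W : Scheme.{u}) := IsOpenImmersion.lift W.ι γ (by
      rw [Scheme.Opens.range_ι]
      rintro _ ⟨x, rfl⟩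
      change (γ ≫ p).base x ∈ U
      rw [hγp]
      exact x.2)
    have hγ' : γ' ≫ W.ι = γ := IsOpenImmersion.lift_fac _ _ _
    have hsec : γ' ≫ (p ∣_ U) = 𝟙 _ := by
      rw [← cancel_mono U.ι, Category.assoc, morphismRestrict_ι, ← Category.assoc, hγ', hγp,
        Category.id_comp]
    have : IsClosedImmersion γ' := by
      have : IsSeparated φ := inferInstance
      have : IsSeparated p := MorphismProperty.pullback_fst f φ inferInstance
      have : IsClosedImmersion (γ' ≫ (p ∣_ U)) := hsec ▸ inferInstance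
      exact IsClosedImmersion.of_comp γ' (p ∣_ U)
    have hz' : (⟨z, hin z hz⟩ : (W : Scheme.{u})) ∈ closure (Set.range γ'.base) := by
      rw [W.ι.isOpenEmbedding.isInducing.closure_eq_preimage_closure_image, Set.mem_preimage,
        ← Set.range_comp]
      rw [show W.ι.base ∘ γ'.base = γ.base from funext fun x => by
        rw [Function.comp_apply, ← Scheme.Hom.comp_apply, hγ']]
      exact hz
    obtain ⟨x, hx⟩ := γ'.isClosedEmbedding.isClosed_range.closure_subset hz'
    exact ⟨x, by rw [← hγ', Scheme.Hom.comp_apply, hx]; rfl⟩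
  have : Surjective u := ⟨fun y => by
    obtain ⟨z, hz, rfl⟩ := hsurj y
    obtain ⟨x, rfl⟩ := hgraph z hz
    exact ⟨x, by rw [← Scheme.Hom.comp_apply, hγq]⟩⟩
  have : Epi u.base := (TopCat.epi_iff_surjective _).mpr u.surjective
  have : IsIso u := IsOpenImmersion.isIso u
  exact .of_isIso u

theorem isAffineHom_genLocus (f : X ⟶ S) [UniversallyClosed f] (h : RelAmple.IsRelAmple f L)
    (s : Coh.structureModule X ⟶ L) : IsAffineHom ((CohB1.genLocus L s).ι ≫ f) := by
  refine isAffineHom_of_forall_exists_isAffineOpen _ fun y => ?_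
  obtain ⟨V, hV, hyV, -⟩ := exists_isAffineOpen_mem_and_subset (x := y) (U := ⊤) trivial
  refine ⟨V, hyV, hV, ?_⟩
  let j := (f ⁻¹ᵁ V).ι
  have hi := isInvertible_of_isRelAmple h
  have hamp : CohB1.IsAmple ((Scheme.Modules.pullback j).obj L) :=
    isAmple_congr ((Scheme.Modules.restrictFunctorIsoPullback j).app L) (h.2 ⟨V, hV⟩)
  have : IsAffine V.toScheme := hV
  have : UniversallyClosed (f ∣_ V) :=
    IsZariskiLocalAtTarget.restrict (P := @UniversallyClosed) ‹UniversallyClosed f› V
  have ha := isAffineOpen_genLocus_of_universallyClosed (f ∣_ V) hamp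
    ((PicLoc.pullbackStructureIso j).inv ≫ (Scheme.Modules.pullback j).map s)
  rw [show CohB1.genLocus ((Scheme.Modules.pullback j).obj L)
      ((PicLoc.pullbackStructureIso j).inv ≫ (Scheme.Modules.pullback j).map s) =
      j ⁻¹ᵁ CohB1.genLocus L s from genLocus_pullback j hi s (PicLoc.pullbackStructureIso j).symm] at ha
  have h2 := ha.image_of_isOpenImmersion j
  rw [Scheme.Hom.image_preimage_eq_opensRange_inf, Scheme.Opens.opensRange_ι] at h2
  rw [← (CohB1.genLocus L s).ι.isAffineOpen_iff_of_isOpenImmersion, Scheme.Hom.comp_preimage,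
    Scheme.Hom.image_preimage_eq_opensRange_inf, Scheme.Opens.opensRange_ι, inf_comm]
  exact h2

end TMul
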