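import Groth.Agent.TMul.Basic

/-!
The locus where a global section of a module generates.
-/

set_option autoImplicit false
set_option backward.isDefEq.respectTransparency false

universe u

open CategoryTheory CategoryTheory.Limits AlgebraicGeometry TopologicalSpace Opposite
open Groth.Agent.QC (res resO res_res res_smul resO_resO app_res)

noncomputable section

namespace TMul

variable {X : Scheme.{u}} {L L' : X.Modules} (s : Coh.structureModule X ⟶ L)

/-- The section named by `s` over `U`. -/
def val (U : X.Opens) : Γ(L, U) := SecTwist.val s U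

lemma res_val {V U : X.Opens} (h : V ≤ U) : res L h (val s U) = val s V :=
  SecTwist.map_val s (homOfLE h)

lemma app_eq_smul {V : X.Opens} (c : Γ(X, V)) : s.app V c = c • val s V := by
  refine Eq.trans ?_ ((s.val.app (op V)).hom.map_smul c (1 : X.ringCatSheaf.obj.obj (op V)))
  exact congrArg _ (mul_one (M := Γ(X, V)) c).symm

lemma isIso_restrict_iff (U : X.Opens) :
    IsIso ((Scheme.Modules.restrictFunctor U.ι).map s) ↔ IsGen (val s U) := by
  have hfun : ∀ (V : X.Opens) (hV : V ≤ U),
      (fun c : Γ(X, V) => c • res L hV (val s U)) = fun c => s.app V c := fun V hV => by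
    funext c; rw [app_eq_smul, res_val]
  rw [Scheme.Modules.Hom.isIso_iff_isIso_app]
  constructor
  · intro h V hV
    rw [hfun V hV]
    haveI := h (U.ι ⁻¹ᵁ V)
    have h1 := ConcreteCategory.bijective_of_isIso
      (((Scheme.Modules.restrictFunctor U.ι).map s).app (U.ι ⁻¹ᵁ V))
    have e : U.ι ''ᵁ (U.ι ⁻¹ᵁ V) = V := by
      rw [Scheme.Hom.image_preimage_eq_opensRange_inf, U.opensRange_ι, inf_eq_right.mpr hV]
    have h2 : Function.Bijective (s.app (U.ι ''ᵁ (U.ι ⁻¹ᵁ V))) := h1
    rw [e] at h2
    exact h2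
  · intro h W
    rw [ConcreteCategory.isIso_iff_bijective]
    have := h (U.ι ''ᵁ W) (U.ι_image_le W)
    rw [hfun] at this
    exact this

lemma mem_genLocus_iff {x : X} :
    x ∈ CohB1.genLocus L s ↔ ∃ U : X.Opens, x ∈ U ∧ IsGen (val s U) := by
  constructor
  · intro h
    obtain ⟨U, hU, hx⟩ := Opens.mem_sSup.mp h
    exact ⟨U, hx, (isIso_restrict_iff s U).mp hU⟩
  · rintro ⟨U, hx, hU⟩
    exact Opens.mem_sSup.mpr ⟨U, (isIso_restrict_iff s U).mpr hU, hx⟩

lemma le_genLocus {U : X.Opens} (h : IsGen (val s U)) : U ≤ CohB1.genLocus L s := fun _ hx =>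
  (mem_genLocus_iff s).mpr ⟨U, hx, h⟩

/-- The generating locus does not see isomorphisms. -/
lemma genLocus_comp (e : L ⟶ L') [IsIso e] :
    CohB1.genLocus L' (s ≫ e) = CohB1.genLocus L s := by
  refine congrArg sSup (Set.ext fun U => ?_)
  simp only [Set.mem_setOf_eq, Functor.map_comp]
  exact ⟨fun h => IsIso.of_isIso_comp_right _ ((Scheme.Modules.restrictFunctor U.ι).map e),
    fun h => inferInstance⟩

end TMul
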