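import Groth.Agent.TMul.RelAmple
import Groth.Agent.QC.Generated
import Groth.Agent.QC.FiniteType
import Groth.Agent.CohQC.ToSheafExact
import Groth.Prelude.Def_Curv2

/-!
Generation by global sections of twists by powers of an ample module.
-/

set_option autoImplicit false
set_option backward.isDefEq.respectTransparency false

universe u

open CategoryTheory CategoryTheory.Limits AlgebraicGeometry TopologicalSpace Opposite
open Groth.Agent.QC (res resO res_res res_smul resO_resO app_res)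

noncomputable section

namespace TMul

variable {X : Scheme.{u}} {F G L M : X.Modules}

/-- The sections over `D` are spanned by global ones. -/
def GenOn (G : X.Modules) (D : X.Opens) : Prop :=
  Submodule.span Γ(X, D) (Set.range (res G (le_top : D ≤ ⊤))) = ⊤

lemma GenOn.congr {D : X.Opens} (e : F ≅ G) (h : GenOn F D) : GenOn G D := by
  refine eq_top_iff.mpr fun y _ => ?_
  obtain ⟨z, rfl⟩ := (ConcreteCategory.bijective_of_isIso (e.hom.app D)).2 y
  have hz : z ∈ Submodule.span Γ(X, D) (Set.range (res F (le_top : D ≤ ⊤))) := h ▸ trivial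
  induction hz using Submodule.span_induction with
  | mem z hz =>
    obtain ⟨t, rfl⟩ := hz
    exact Submodule.subset_span ⟨e.hom.app ⊤ t, (app_res e.hom le_top t).symm ▸ rfl⟩
  | zero => rw [map_zero]; exact Submodule.zero_mem _
  | add a b _ _ ha hb => rw [map_add]; exact Submodule.add_mem _ (ha trivial) (hb trivial)
  | smul c a _ ha => rw [app_smul]; exact Submodule.smul_mem _ c (ha trivial)

/-- Local surjectivity of an epimorphism. -/
lemma exists_app_eq_of_epi (p : F ⟶ G) [Epi p] {U : X.Opens} (t : Γ(G, U)) {x : X} (hx : x ∈ U) :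
    ∃ (V : X.Opens) (h : V ≤ U), x ∈ V ∧ ∃ s, p.app V s = res G h t := by
  have := Groth.Agent.CohQC.toSheaf_preservesFiniteColimits X.ringCatSheaf
  let q : (SheafOfModules.toSheaf.{u} X.ringCatSheaf).obj F ⟶
      (SheafOfModules.toSheaf.{u} X.ringCatSheaf).obj G :=
    (SheafOfModules.toSheaf.{u} X.ringCatSheaf).map p
  have hq : Epi q := inferInstanceAs (Epi ((SheafOfModules.toSheaf.{u} X.ringCatSheaf).map p))
  have hl : Sheaf.IsLocallySurjective q :=
    (Sheaf.isLocallySurjective_iff_epi' AddCommGrpCat.{u} q).mpr hq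
  obtain ⟨V, i, ⟨s, hs⟩, hxV⟩ := Presheaf.imageSieve_mem (Opens.grothendieckTopology X)
    q.hom (U := op U) t x hx
  exact ⟨V, leOfHom i, hxV, s, hs⟩

/-- Global sections spanning near every point give an epimorphism from a free module. -/
theorem isGloballyGenerated_of_genOn [hG : G.IsQuasicoherent]
    (h : ∀ x : X, ∃ D : X.Opens, IsAffineOpen D ∧ x ∈ D ∧ GenOn G D) :
    Curv2.IsGloballyGenerated G := by
  let S : Γ(G, ⊤) → (SheafOfModules.unit X.ringCatSheaf ⟶ G) := fun t => homOf t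
  let p : (SheafOfModules.free (R := X.ringCatSheaf) Γ(G, ⊤) : X.Modules) ⟶ G := Sigma.desc S
  refine ⟨Γ(G, ⊤), p, InvGen.epi_of_locally p fun U t x hxU => ?_⟩
  obtain ⟨D, hD, hxD, hgen⟩ := h x
  obtain ⟨f, hf, hxf⟩ := hD.exists_basicOpen_le ⟨x, hxU⟩ hxD
  refine ⟨X.basicOpen f, hf, hxf, ?_⟩
  have hmem := Groth.Agent.QC.mem_span_basicOpen hD f hgen (res G hf t)
  generalize res G hf t = w at hmem ⊢
  induction hmem using Submodule.span_induction with
  | mem y hy =>
    obtain ⟨_, ⟨g, rfl⟩, rfl⟩ := hy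
    let ι : Coh.structureModule X ⟶ (SheafOfModules.free (R := X.ringCatSheaf) Γ(G, ⊤) : X.Modules) :=
      Sigma.ι (fun _ : Γ(G, ⊤) => SheafOfModules.unit X.ringCatSheaf) g
    refine ⟨val ι (X.basicOpen f), ?_⟩
    rw [← val_comp, res_res]
    have hιp : ι ≫ p = homOf g := Sigma.ι_desc _ g
    rw [hιp, val_homOf]
  | zero => exact ⟨0, map_zero _⟩
  | add a b _ _ ha hb =>
    obtain ⟨u, hu⟩ := ha
    obtain ⟨v, hv⟩ := hb
    exact ⟨u + v, by rw [map_add, hu, hv]⟩
  | smul c a _ ha =>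
    obtain ⟨u, hu⟩ := ha
    exact ⟨c • u, by rw [app_smul, hu]⟩

theorem isQCoh_tensor (hM : PicF.IsInvertible M) [hF : F.IsQuasicoherent] :
    Coh.IsQCoh (CohB1.tensorMod F M) :=
  Groth.Agent.QC.isQCoh_of_local fun x => by
    obtain ⟨U, hx, ⟨φ⟩⟩ := hM x
    obtain ⟨e⟩ := nonempty_restrictTensorIso U.ι F M
    exact ⟨U, U.ι, inferInstance, ⟨⟨x, hx⟩, rfl⟩, Groth.Agent.QC.isQCoh_of_iso
      ((PicGrp.tensorModIso (Iso.refl _) φ ≪≫ SecTwist.unitorR _).symm ≪≫ e)
      (Groth.Agent.QC.isQCoh_restrict U.ι hF)⟩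

theorem isFT_tensor (hM : PicF.IsInvertible M) (hF : CohB1.IsFT F) :
    CohB1.IsFT (CohB1.tensorMod F M) :=
  Groth.Agent.QC.isFT_of_local fun x => by
    obtain ⟨U, hx, ⟨φ⟩⟩ := hM x
    obtain ⟨e⟩ := nonempty_restrictTensorIso U.ι F M
    exact ⟨U, U.ι, inferInstance, ⟨⟨x, hx⟩, rfl⟩, Groth.Agent.QC.isFT_of_epi
      ((PicGrp.tensorModIso (Iso.refl _) φ ≪≫ SecTwist.unitorR _).symm ≪≫ e).hom
      (Groth.Agent.QC.isFT_restrict U.ι hF)⟩

theorem isFT_structureModule (X : Scheme.{u}) : CohB1.IsFT (Coh.structureModule X) := by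
  have : (Coh.structureModule X).IsQuasicoherent := Groth.Agent.QC.isQCoh_unit X
  exact (Groth.Agent.QC.isFT_iff_finite_sections (M := Coh.structureModule X)).mpr fun U =>
    inferInstanceAs (Module.Finite Γ(X, U.1) Γ(X, U.1))

theorem isFT_of_isInvertible (hM : PicF.IsInvertible M) : CohB1.IsFT M :=
  Groth.Agent.QC.isFT_of_local fun x => by
    obtain ⟨U, hx, ⟨φ⟩⟩ := hM x
    exact ⟨U, U.ι, inferInstance, ⟨⟨x, hx⟩, rfl⟩,
      Groth.Agent.QC.isFT_of_epi φ.inv (isFT_structureModule _)⟩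

lemma exists_twist_extends_ge [CompactSpace X] [QuasiSeparatedSpace X] [hF : F.IsQuasicoherent]
    (hM : PicF.IsInvertible M) (s : Coh.structureModule X ⟶ M) (t : Γ(F, CohB1.genLocus M s)) :
    ∃ k : ℕ, ∀ m, k ≤ m → ∃ t' : Γ(CohB1.tensorMod F (CohB1.tensorPow M m), ⊤),
      res _ (le_top : CohB1.genLocus M s ≤ ⊤) t' = tw s m F (CohB1.genLocus M s) t := by
  obtain ⟨k, -, hk⟩ := exists_twist_extends hM s t
  refine ⟨k, fun m hm => ?_⟩
  induction m, hm using Nat.le_induction with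
  | base => exact hk
  | succ m _ ih =>
    obtain ⟨t', ht'⟩ := ih
    refine ⟨(assocHom F (CohB1.tensorPow M m) M).app ⊤ (tm t' (val s ⊤)), ?_⟩
    have h1 : val s (CohB1.genLocus M s) = (1 : Γ(X, CohB1.genLocus M s)) • val s _ :=
      (one_smul _ _).symm
    refine (app_res (assocHom F (CohB1.tensorPow M m) M) le_top _).trans ?_
    rw [res_tm, ht', res_val, twist_eq_tm s h1, twist_eq_tm s h1, assocHom_tm,
      one_pow, one_pow]
    rfl

/-- Twists by high powers are generated over an affine generating locus. -/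
theorem exists_genOn_twist [CompactSpace X] [QuasiSeparatedSpace X] [hF : F.IsQuasicoherent]
    (hFT : CohB1.IsFT F) (hM : PicF.IsInvertible M) (s : Coh.structureModule X ⟶ M)
    (hs : IsAffineOpen (CohB1.genLocus M s)) :
    ∃ k : ℕ, ∀ m, k ≤ m →
      GenOn (CohB1.tensorMod F (CohB1.tensorPow M m)) (CohB1.genLocus M s) := by
  obtain ⟨T, hT⟩ := ((Groth.Agent.QC.isFT_iff_finite_sections (M := F)).mp hFT
    ⟨CohB1.genLocus M s, hs⟩).fg_top
  choose k hk using fun t : Γ(F, CohB1.genLocus M s) => exists_twist_extends_ge hM s t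
  refine ⟨T.sup k, fun m hm => eq_top_iff.mpr fun y _ => ?_⟩
  obtain ⟨z, rfl⟩ := (tm_bijective (M := F) (isGen_pw (isGen_genLocus s) m) _ le_rfl).2 y
  have hz : z ∈ Submodule.span Γ(X, CohB1.genLocus M s) (T : Set Γ(F, CohB1.genLocus M s)) :=
    hT ▸ trivial
  induction hz using Submodule.span_induction with
  | mem z hz =>
    obtain ⟨t', ht'⟩ := hk z m ((Finset.le_sup (f := k) hz).trans hm)
    refine Submodule.subset_span ⟨t', ?_⟩
    rw [ht', twist_eq_tm s (one_smul _ _).symm, one_pow, one_smul, Groth.Agent.QC.res_self]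
  | zero => simp [zero_tm]
  | add a b _ _ ha hb => dsimp only; rw [tm_add]; exact Submodule.add_mem _ (ha trivial) (hb trivial)
  | smul c a _ ha => dsimp only; rw [smul_tm]; exact Submodule.smul_mem _ c (ha trivial)

/-- Twists by high powers of an ample module are generated on an affine cover. -/
theorem exists_forall_genOn (hL : CohB1.IsAmple L) [hF : F.IsQuasicoherent] (hFT : CohB1.IsFT F) :
    ∃ n₀ : ℕ, ∀ n, n₀ ≤ n → ∀ x : X, ∃ D : X.Opens, IsAffineOpen D ∧ x ∈ D ∧
      GenOn (CohB1.tensorMod F (CohB1.tensorPow L n)) D := by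
  have := hL.2.1
  have := isSeparated_of_isAmple hL
  choose N s hxs hs using hL.2.2
  obtain ⟨S, hS⟩ := isCompact_univ.elim_finite_subcover
    (fun x : X => ((CohB1.genLocus _ (s x) : X.Opens) : Set X)) (fun x => (CohB1.genLocus _ (s x)).2)
    (fun x _ => Set.mem_iUnion.mpr ⟨x, hxs x⟩)
  choose k hk using fun (x : X) (r : ℕ) => exists_genOn_twist
    (F := CohB1.tensorMod F (CohB1.tensorPow L r)) (hF := isQCoh_tensor (isInvertible_tensorPow hL.1 r))
    (isFT_tensor (isInvertible_tensorPow hL.1 r) hFT) (isInvertible_tensorPow hL.1 (N x + 1)) (s x) (hs x)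
  refine ⟨S.sup fun x => (N x + 1) * ((Finset.range (N x + 1)).sup (k x) + 1), fun n hn x => ?_⟩
  obtain ⟨y, hy, hxy⟩ := Set.mem_iUnion₂.mp (hS (Set.mem_univ x))
  refine ⟨_, hs y, hxy, ?_⟩
  have hr : n % (N y + 1) < N y + 1 := Nat.mod_lt _ (Nat.succ_pos _)
  have hm : k y (n % (N y + 1)) ≤ n / (N y + 1) := by
    refine (Nat.le_div_iff_mul_le (Nat.succ_pos _)).mpr (le_trans ?_ hn)
    refine le_trans ?_ (Finset.le_sup (f := fun x => (N x + 1) * ((Finset.range (N x + 1)).sup (k x) + 1)) hy)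
    rw [mul_comm]
    exact Nat.mul_le_mul_left _ ((Finset.le_sup (Finset.mem_range.mpr hr)).trans (Nat.le_succ _))
  obtain ⟨e₁⟩ := nonempty_powMulIso L (N y + 1) (n / (N y + 1))
  obtain ⟨e₂⟩ := nonempty_powAddIso L (n % (N y + 1)) ((N y + 1) * (n / (N y + 1)))
  exact (hk y _ _ hm).congr (assocIso _ _ _ ≪≫ PicGrp.tensorModIso (Iso.refl F)
    (PicGrp.tensorModIso (Iso.refl _) e₁ ≪≫ e₂ ≪≫
      eqToIso (congrArg (CohB1.tensorPow L) (Nat.mod_add_div n (N y + 1)))))

theorem eventually_isGloballyGenerated (hL : CohB1.IsAmple L) [hF : F.IsQuasicoherent]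
    (hFT : CohB1.IsFT F) :
    ∃ n₀ : ℕ, ∀ n, n₀ ≤ n →
      Curv2.IsGloballyGenerated (CohB1.tensorMod F (CohB1.tensorPow L n)) := by
  obtain ⟨n₀, h⟩ := exists_forall_genOn hL (F := F) hFT
  exact ⟨n₀, fun n hn => isGloballyGenerated_of_genOn
    (hG := isQCoh_tensor (isInvertible_tensorPow hL.1 n)) (h n hn)⟩

/-- Generation by global sections gives generating loci around every point. -/
theorem exists_mem_genLocus_of_genOn (hM : PicF.IsInvertible M) {D : X.Opens} (hD : IsAffineOpen D)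
    (hgen : GenOn M D) {x : X} (hx : x ∈ D) :
    ∃ t : Coh.structureModule X ⟶ M, x ∈ CohB1.genLocus M t := by
  by_contra hn
  push Not at hn
  have : M.IsQuasicoherent := isQCoh_of_isInvertible hM
  obtain ⟨U, g, hxU, hg⟩ := exists_isGen hM x
  obtain ⟨f, hf, hxf⟩ := hD.exists_basicOpen_le ⟨x, hxU⟩ hx
  have key : ∀ y ∈ Submodule.span Γ(X, X.basicOpen f)
      (res M (X.basicOpen_le f) '' Set.range (res M (le_top : D ≤ ⊤))),
      ∃ c : Γ(X, X.basicOpen f), ¬ IsUnit (X.presheaf.germ (X.basicOpen f) x hxf c) ∧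
        y = c • res M hf g := by
    intro y hy
    induction hy using Submodule.span_induction with
    | mem y hy =>
      obtain ⟨_, ⟨t, rfl⟩, rfl⟩ := hy
      obtain ⟨c, hc⟩ := (hg (X.basicOpen f) hf).2 (res M le_top t)
      refine ⟨c, fun hu => hn (homOf t) ((mem_genLocus_iff_isUnit _ (hg.res hf)
        (c := c) ?_ hxf).mpr hu), by rw [res_res]; exact hc.symm⟩
      rw [val_homOf]
      exact hc.symm
    | zero => exact ⟨0, by rw [map_zero]; exact not_isUnit_zero, by rw [zero_smul]⟩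
    | add a b _ _ ha hb =>
      obtain ⟨c, hc, hca⟩ := ha
      obtain ⟨d, hd, hdb⟩ := hb
      refine ⟨c + d, ?_, by rw [hca, hdb, add_smul]⟩
      rw [map_add]
      exact IsLocalRing.nonunits_add hc hd
    | smul r a _ ha =>
      obtain ⟨c, hc, hca⟩ := ha
      refine ⟨r * c, ?_, by rw [hca, mul_smul]⟩
      rw [map_mul]
      exact fun h => hc (isUnit_of_mul_isUnit_right h)
  obtain ⟨c, hc, hcg⟩ := key _ (Groth.Agent.QC.mem_span_basicOpen hD f hgen (res M hf g))
  have h1 : c = 1 := by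
    refine (hg (X.basicOpen f) hf).1 ?_
    simp only [one_smul]
    exact hcg.symm
  exact hc (by rw [h1, map_one]; exact isUnit_one)

end TMul
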