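import Groth.Agent.TMul.Pullback
import Groth.Prelude.Def_LCI2
import Groth.Prelude.Def_Mor2

/-!
Relative ampleness: restriction to smaller opens, locality on the base, affine base change.
-/

set_option autoImplicit false
set_option backward.isDefEq.respectTransparency false

universe u

open CategoryTheory CategoryTheory.Limits AlgebraicGeometry TopologicalSpace Opposite
open Groth.Agent.QC (res resO res_res res_smul resO_resO app_res)

noncomputable section

namespace TMul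

variable {X Y Z : Scheme.{u}} {L M : X.Modules}

lemma nonempty_restrictRestrictIso (j : Y ⟶ X) [IsOpenImmersion j] (k : Z ⟶ Y) [IsOpenImmersion k]
    (m : Z ⟶ X) [IsOpenImmersion m] (h : k ≫ j = m) (L : X.Modules) :
    Nonempty ((L.restrict j).restrict k ≅ L.restrict m) := by
  subst h
  exact ⟨((Scheme.Modules.restrictFunctorComp k j).app L).symm⟩

theorem isInvertible_restrict (j : Y ⟶ X) [IsOpenImmersion j] (hL : PicF.IsInvertible L) :
    PicF.IsInvertible (L.restrict j) :=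
  InvGen.isInvertible_restrict j fun y => exists_isGen hL (j y)

theorem nonempty_restrictPowIso (j : Y ⟶ X) [IsOpenImmersion j] (L : X.Modules) (n : ℕ) :
    Nonempty (CohB1.tensorPow (L.restrict j) n ≅ (CohB1.tensorPow L n).restrict j) := by
  obtain ⟨e⟩ := nonempty_pullPowIso j L n
  obtain ⟨c⟩ := nonempty_powCongr ((Scheme.Modules.restrictFunctorIsoPullback j).app L) n
  exact ⟨c ≪≫ e ≪≫ ((Scheme.Modules.restrictFunctorIsoPullback j).app _).symm⟩

theorem nonempty_restrictTensorIso (j : Y ⟶ X) [IsOpenImmersion j] (L M : X.Modules) :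
    Nonempty (CohB1.tensorMod (L.restrict j) (M.restrict j) ≅ (CohB1.tensorMod L M).restrict j) := by
  obtain ⟨e⟩ := nonempty_pullTensorIso j L M
  exact ⟨PicGrp.tensorModIso ((Scheme.Modules.restrictFunctorIsoPullback j).app L)
    ((Scheme.Modules.restrictFunctorIsoPullback j).app M) ≪≫ e ≪≫
    ((Scheme.Modules.restrictFunctorIsoPullback j).app _).symm⟩

/-- A compact open inside an open where `L` is ample. -/
theorem isAmple_restrict_of_le {U V : X.Opens} (h : V ≤ U) (hV : IsCompact (V : Set X))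
    (hL : CohB1.IsAmple (L.restrict U.ι)) : CohB1.IsAmple (L.restrict V.ι) := by
  have : CompactSpace (V : Scheme.{u}) := isCompact_iff_compactSpace.mp hV
  obtain ⟨e⟩ := nonempty_restrictRestrictIso U.ι (X.homOfLE h) V.ι (X.homOfLE_ι h) L
  exact isAmple_congr e (isAmple_restrict (X.homOfLE h) hL)

theorem isAmple_restrict_top_iff (L : X.Modules) :
    CohB1.IsAmple (L.restrict (⊤ : X.Opens).ι) ↔ CohB1.IsAmple L := by
  constructor
  · intro h
    have : CompactSpace (⊤ : X.Opens).toScheme := h.2.1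
    have : CompactSpace X :=
      isCompact_univ_iff.mp (isCompact_iff_compactSpace.mpr ‹CompactSpace (⊤ : X.Opens).toScheme›)
    have h1 := isAmple_pullback X.topIso.inv (Scheme.homeoOfIso X.topIso.symm).isInducing h
    refine isAmple_congr (?_ ≪≫ (Scheme.Modules.pullbackId X).app L) h1
    exact (Scheme.Modules.pullback X.topIso.inv).mapIso
      ((Scheme.Modules.restrictFunctorIsoPullback (⊤ : X.Opens).ι).app L) ≪≫
      (Scheme.Modules.pullbackComp _ _).app L ≪≫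
      (Scheme.Modules.pullbackCongr (X.topIso.inv_hom_id)).app L
  · intro h
    have := h.2.1
    have : CompactSpace (⊤ : X.Opens).toScheme := isCompact_iff_compactSpace.mp isCompact_univ
    exact isAmple_restrict _ h

/-- A unit multiple of a generator is a generator. -/
lemma isGen_smul {U : X.Opens} {e : Γ(M, U)} (he : IsGen e) {c : Γ(X, U)} (hc : IsUnit c) :
    IsGen (c • e) := fun V hV => by
  obtain ⟨v, hv⟩ := hc.map (resO X hV)
  rw [show (fun d : Γ(X, V) => d • res M hV (c • e)) =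
    (fun d : Γ(X, V) => d • res M hV e) ∘ fun d : Γ(X, V) => d * (v : Γ(X, V)) from
      funext fun d => by rw [Function.comp_apply, res_smul, smul_smul, hv]]
  exact (he V hV).comp v.mulRight.bijective

/-- Generators of a restricted module. -/
lemma isGen_restrict_iff (j : Y ⟶ X) [IsOpenImmersion j]
    (s : Coh.structureModule Y ⟶ M.restrict j) (W : Y.Opens) :
    IsGen (val s W) ↔
      IsGen (N := M) (res M (j.image_mono (le_top : W ≤ ⊤)) (val s ⊤ : Γ(M, j ''ᵁ ⊤))) := by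
  have key : ∀ (W' : Y.Opens) (hW' : W' ≤ W),
      (fun c : Γ(Y, W') => c • res (M.restrict j) hW' (val s W)) =
        (fun c : Γ(X, j ''ᵁ W') => c • res M (j.image_mono hW')
          (res M (j.image_mono (le_top : W ≤ ⊤)) (val s ⊤ : Γ(M, j ''ᵁ ⊤)))) ∘
          (j.appIso W').inv := fun W' hW' => by
    funext c
    change (j.appIso W').inv.hom c • res M (j.image_mono hW') (val s W : Γ(M, j ''ᵁ W)) = _
    rw [Function.comp_apply]
    exact congrArg (fun v : Γ(M, j ''ᵁ W) => _ • res M (j.image_mono hW') v)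
      (res_val s (le_top : W ≤ ⊤)).symm
  constructor
  · intro hW V hV
    obtain ⟨W', rfl⟩ : ∃ W', j ''ᵁ W' = V := ⟨j ⁻¹ᵁ V, by
      rw [Scheme.Hom.image_preimage_eq_opensRange_inf, inf_eq_right.mpr]
      exact hV.trans (j.image_le_opensRange _)⟩
    have hW' : W' ≤ W := fun y hy => by
      obtain ⟨z, hz, hzy⟩ := hV ⟨y, hy, rfl⟩
      exact j.isOpenEmbedding.injective hzy ▸ hz
    have h := hW W' hW'
    rw [key W' hW'] at h
    exact (Function.Bijective.of_comp_iff _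
      (ConcreteCategory.bijective_of_isIso (j.appIso W').inv)).mp h
  · intro h W' hW'
    rw [key W' hW']
    exact (h _ (j.image_mono hW')).comp (ConcreteCategory.bijective_of_isIso (j.appIso W').inv)

/-- If `m ⊗ e` generates near `x` then so does `m`. -/
lemma exists_isGen_left {P : X.Modules} (hM : PicF.IsInvertible M) {V : X.Opens} {e : Γ(P, V)}
    (he : IsGen e) (m : Γ(M, V)) (t : Coh.structureModule X ⟶ CohB1.tensorMod M P)
    (ht : val t V = tm m e) {x : X} (hxV : x ∈ V) (hxt : x ∈ CohB1.genLocus _ t) :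
    ∃ (W : X.Opens) (h : W ≤ V), x ∈ W ∧ IsGen (res M h m) := by
  obtain ⟨U, g, hxU, hg⟩ := exists_isGen hM x
  obtain ⟨b, hb⟩ := (hg (V ⊓ U) inf_le_right).2 (res M inf_le_left m)
  have hb' : val t (V ⊓ U) =
      b • tm (res M (inf_le_right : V ⊓ U ≤ U) g) (res P (inf_le_left : V ⊓ U ≤ V) e) := by
    rw [← res_val t (inf_le_left : V ⊓ U ≤ V), ht, res_tm, ← smul_tm]
    exact congrArg (fun v => tm v _) hb.symm
  have hu := genLocus_inf t (isGen_tm (hg.res inf_le_right) (he.res inf_le_left)) hb'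
  refine ⟨X.basicOpen b, (X.basicOpen_le b).trans inf_le_left, hu.le ⟨⟨hxV, hxU⟩, hxt⟩, ?_⟩
  rw [← res_res M (X.basicOpen_le b) inf_le_left, ← hb, res_smul, res_res]
  exact isGen_smul (hg.res _) (RingedSpace.isUnit_res_basicOpen _ b)

/-- A section with generating locus inside `U` extends, after multiplying by a function. -/
theorem exists_genLocus_extend [CompactSpace X] [QuasiSeparatedSpace X] (hM : PicF.IsInvertible M)
    {U : X.Opens} (a : Γ(X, ⊤)) (hU : X.basicOpen a = U)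
    (s : Coh.structureModule (U : Scheme.{u}) ⟶ M.restrict U.ι) :
    ∃ t : Coh.structureModule X ⟶ M, U.ι ''ᵁ CohB1.genLocus _ s = CohB1.genLocus M t := by
  let σ : Coh.structureModule X ⟶ Coh.structureModule X := homOf (L := Coh.structureModule X) a
  have hσ : CohB1.genLocus _ σ = U := by
    rw [← hU, ← genLocus_inf σ (isGen_one ⊤) (c := a), top_inf_eq]
    rw [val_homOf, Groth.Agent.QC.res_self]
    exact (mul_one (M := Γ(X, ⊤)) a).symm
  have : M.IsQuasicoherent := isQCoh_of_isInvertible hM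
  have hle : CohB1.genLocus _ σ ≤ U.ι ''ᵁ ⊤ := by
    rw [hσ, Scheme.Hom.image_top_eq_opensRange, Scheme.Opens.opensRange_ι]
  obtain ⟨n, -, t', ht'⟩ := exists_twist_extends (F := M) isInvertible_structureModule σ
    (res M hle (val s ⊤ : Γ(M, U.ι ''ᵁ ⊤)))
  obtain ⟨i⟩ := nonempty_powUnitIso (X := X) n
  refine ⟨SecTwist.tmulHom (homOf t') σ ≫
    (SecTwist.unitorR _ ≪≫ PicGrp.tensorModIso (Iso.refl M) i ≪≫ SecTwist.unitorR M).hom, ?_⟩
  rw [genLocus_comp, genLocus_tmulHom (isInvertible_tensorMod hM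
    (isInvertible_tensorPow isInvertible_structureModule n)) isInvertible_structureModule]
  have hgσ : ∀ {V : X.Opens} (_ : V ≤ CohB1.genLocus _ σ), IsGen (val σ V) := fun h =>
    res_val σ h ▸ (isGen_genLocus σ).res h
  have hval : ∀ {V : X.Opens} (h : V ≤ CohB1.genLocus _ σ), val (homOf t') V =
      tm (res M (h.trans hle) (val s ⊤ : Γ(M, U.ι ''ᵁ ⊤))) (pw (val σ V) n) := fun {V} h => by
    rw [val_homOf, ← res_res _ h le_top, ht', res_twist, twist_eq_tm σ (one_smul _ _).symm, one_pow,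
      one_smul, res_res]
  apply le_antisymm
  · rintro _ ⟨y, hy, rfl⟩
    obtain ⟨W, hyW, hW⟩ := (mem_genLocus_iff s).mp hy
    have hWσ : U.ι ''ᵁ W ≤ CohB1.genLocus _ σ := hσ.symm ▸ U.ι_image_le W
    have hy' : U.ι.base y ∈ U.ι ''ᵁ W := ⟨y, hyW, rfl⟩
    refine ⟨(mem_genLocus_iff _).mpr ⟨U.ι ''ᵁ W, hy', ?_⟩, hWσ hy'⟩
    rw [hval hWσ]
    exact isGen_tm ((isGen_restrict_iff U.ι s W).mp hW) (isGen_pw (hgσ hWσ) n)
  · rintro x ⟨hxt, hxσ⟩
    obtain ⟨W, hW, hxW, hg⟩ :=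
      exists_isGen_left hM (isGen_pw (hgσ le_rfl) n) _ (homOf t') (hval le_rfl) hxσ hxt
    have hx : x ∈ U := hσ.le hxσ
    refine ⟨⟨x, hx⟩, (mem_genLocus_iff s).mpr ⟨U.ι ⁻¹ᵁ W, hxW, ?_⟩, rfl⟩
    refine (isGen_restrict_iff U.ι s _).mpr ?_
    have hle' : U.ι ''ᵁ (U.ι ⁻¹ᵁ W) ≤ W := by rintro _ ⟨y, hy, rfl⟩; exact hy
    have h2 := hg.res hle'
    rwa [res_res, res_res] at h2

/-- Ampleness is local for covers by loci of functions. -/
theorem isAmple_of_cover [CompactSpace X] (hL : PicF.IsInvertible L) {ι : Type*} (a : ι → Γ(X, ⊤))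
    (hcov : ∀ x : X, ∃ i, x ∈ X.basicOpen (a i))
    (h : ∀ i, CohB1.IsAmple (L.restrict (X.basicOpen (a i)).ι)) : CohB1.IsAmple L := by
  choose i hi using hcov
  have : QuasiSeparatedSpace X :=
    .of_isOpenCover (U := fun x => X.basicOpen (a (i x)))
      (eq_top_iff.mpr fun x _ => Opens.mem_iSup.mpr ⟨x, hi x⟩)
      (fun _ => isRetrocompact_basicOpen _) fun x => by
        have := isSeparated_of_isAmple (h (i x))
        exact isQuasiSeparated_iff_quasiSeparatedSpace _ (X.basicOpen (a (i x))).2 |>.mpr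
          (inferInstanceAs (QuasiSeparatedSpace (X.basicOpen (a (i x)) : Scheme.{u})))
  refine ⟨hL, inferInstance, fun x => ?_⟩
  obtain ⟨n, s, hxs, hs⟩ := (h (i x)).2.2 ⟨x, hi x⟩
  obtain ⟨e⟩ := nonempty_restrictPowIso (X.basicOpen (a (i x))).ι L (n + 1)
  obtain ⟨t, ht⟩ := exists_genLocus_extend (isInvertible_tensorPow hL (n + 1)) (a (i x)) rfl (s ≫ e.hom)
  rw [genLocus_comp] at ht
  refine ⟨n, t, ?_, ?_⟩
  · rw [← ht]; exact ⟨⟨x, hi x⟩, hxs, rfl⟩
  · rw [← ht]; exact hs.image_of_isOpenImmersion _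

variable {S : Scheme.{u}} {f : X ⟶ S}

/-- Relative ampleness is local on the base. -/
theorem isRelAmple_of_exists [QuasiCompact f] (hL : PicF.IsInvertible L)
    (h : ∀ y : S, ∃ V : S.Opens, y ∈ V ∧ CohB1.IsAmple (L.restrict (f ⁻¹ᵁ V).ι)) :
    RelAmple.IsRelAmple f L := by
  refine ⟨inferInstance, fun V => ?_⟩
  have hVc : CompactSpace (f ⁻¹ᵁ V.1 : Scheme.{u}) :=
    isCompact_iff_compactSpace.mp (f.isCompact_preimage V.2.isCompact)
  choose W hyW hW using h
  choose a ha hya using fun y : V.1 => V.2.exists_basicOpen_le (V := W y.1 ⊓ V.1) ⟨y.1, hyW y.1, y.2⟩ y.2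
  let j := (f ⁻¹ᵁ V.1).ι
  let g : V.1 → Γ((f ⁻¹ᵁ V.1 : X.Opens).toScheme, ⊤) := fun y =>
    (f ⁻¹ᵁ V.1).topIso.inv (f.app V.1 (a y))
  have hg : ∀ y, j ''ᵁ (f ⁻¹ᵁ V.1 : Scheme.{u}).basicOpen (g y) = f ⁻¹ᵁ S.basicOpen (a y) := fun y => by
    rw [Scheme.preimage_basicOpen, Scheme.image_basicOpen]
    simp [g, j, Scheme.Opens.topIso]
    exact X.basicOpen_res_eq _ _
  refine isAmple_of_cover (isInvertible_restrict j hL) g (fun x => ?_) fun y => ?_
  · refine ⟨⟨f.base x.1, x.2⟩, ?_⟩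
    obtain ⟨z, hz, hzx⟩ := (hg ⟨f.base x.1, x.2⟩).ge (show x.1 ∈ _ from hya ⟨f.base x.1, x.2⟩)
    exact j.isOpenEmbedding.injective hzx ▸ hz
  · let D := (f ⁻¹ᵁ V.1 : Scheme.{u}).basicOpen (g y)
    have hc : IsCompact ((f ⁻¹ᵁ S.basicOpen (a y) : X.Opens) : Set X) :=
      f.isCompact_preimage (V.2.basicOpen (a y)).isCompact
    have h1 := isAmple_restrict_of_le (f.preimage_mono ((ha y).trans inf_le_left)) hc (hW y.1)
    have hle : j ''ᵁ D ≤ f ⁻¹ᵁ S.basicOpen (a y) := (hg y).le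
    let k : (D : Scheme.{u}) ⟶ (f ⁻¹ᵁ S.basicOpen (a y) : Scheme.{u}) :=
      IsOpenImmersion.lift (f ⁻¹ᵁ S.basicOpen (a y)).ι (D.ι ≫ j) (by
        rintro _ ⟨z, rfl⟩
        rw [Scheme.Opens.range_ι]
        exact hle ⟨z.1, z.2, rfl⟩)
    have hk : k ≫ (f ⁻¹ᵁ S.basicOpen (a y)).ι = D.ι ≫ j := IsOpenImmersion.lift_fac _ _ _
    have : IsOpenImmersion k := by
      have : IsOpenImmersion (k ≫ (f ⁻¹ᵁ S.basicOpen (a y)).ι) := hk ▸ inferInstance
      exact .of_comp k (f ⁻¹ᵁ S.basicOpen (a y)).ι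
    have : CompactSpace (D : Scheme.{u}) := isCompact_iff_compactSpace.mp (by
      refine j.isOpenEmbedding.isInducing.isCompact_iff.mpr ?_
      rw [show j.base '' (D : Set _) = ((f ⁻¹ᵁ S.basicOpen (a y) : X.Opens) : Set X) from
        SetLike.ext'_iff.mp (hg y)]
      exact hc)
    obtain ⟨e₁⟩ := nonempty_restrictRestrictIso (f ⁻¹ᵁ S.basicOpen (a y)).ι k (D.ι ≫ j) hk L
    obtain ⟨e₂⟩ := nonempty_restrictRestrictIso j D.ι (D.ι ≫ j) rfl L
    exact isAmple_congr (e₁ ≪≫ e₂.symm) (isAmple_restrict k h1)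

theorem isInvertible_of_isRelAmple (h : RelAmple.IsRelAmple f L) : PicF.IsInvertible L := fun x => by
  obtain ⟨V, hV, hxV, -⟩ := exists_isAffineOpen_mem_and_subset (x := f.base x) (U := ⊤) trivial
  obtain ⟨U, hxU, ⟨φ⟩⟩ := (h.2 ⟨V, hV⟩).1 ⟨x, hxV⟩
  let T : X.Opens := (f ⁻¹ᵁ V).ι ''ᵁ U
  have hT : T.ι.opensRange = T := T.opensRange_ι
  let k : (T : Scheme.{u}) ⟶ (U : Scheme.{u}) := IsOpenImmersion.lift (U.ι ≫ (f ⁻¹ᵁ V).ι) T.ι (by
    rw [Scheme.Opens.range_ι]
    rintro _ ⟨z, hz, rfl⟩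
    exact ⟨⟨z, hz⟩, rfl⟩)
  have hk : k ≫ U.ι ≫ (f ⁻¹ᵁ V).ι = T.ι := IsOpenImmersion.lift_fac _ _ _
  have : IsOpenImmersion k := by
    have : IsOpenImmersion (k ≫ U.ι ≫ (f ⁻¹ᵁ V).ι) := hk ▸ inferInstance
    exact .of_comp k (U.ι ≫ (f ⁻¹ᵁ V).ι)
  obtain ⟨e₁⟩ := nonempty_restrictRestrictIso (f ⁻¹ᵁ V).ι U.ι (U.ι ≫ (f ⁻¹ᵁ V).ι) rfl L
  obtain ⟨e₂⟩ := nonempty_restrictRestrictIso (U.ι ≫ (f ⁻¹ᵁ V).ι) k T.ι hk L
  exact ⟨T, ⟨⟨x, hxV⟩, hxU, rfl⟩, ⟨e₂.symm ≪≫ (Scheme.Modules.restrictFunctor k).mapIso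
    (e₁.symm ≪≫ φ) ≪≫ Scheme.Modules.restrictUnitIso k⟩⟩

theorem isRelAmple_iff_isAmple [IsAffine S] [QuasiCompact f] :
    RelAmple.IsRelAmple f L ↔ CohB1.IsAmple L := by
  constructor
  · intro h
    exact (isAmple_restrict_top_iff L).mp (h.2 ⟨⊤, isAffineOpen_top S⟩)
  · intro h
    have := h.2.1
    refine ⟨inferInstance, fun V => isAmple_restrict_of_le le_top
      (f.isCompact_preimage V.2.isCompact) ((isAmple_restrict_top_iff L).mpr h)⟩

/-- Inverse image along an affine morphism. -/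
theorem isAmple_pullback_of_isAffineHom {L : X.Modules} (h : Y ⟶ X) [IsAffineHom h]
    (hL : CohB1.IsAmple L) : CohB1.IsAmple ((Scheme.Modules.pullback h).obj L) := by
  have := hL.2.1
  refine ⟨PicLoc.isInvertible_pullback h hL.1, QuasiCompact.compactSpace_of_compactSpace h, fun y => ?_⟩
  obtain ⟨n, s, hys, hs⟩ := hL.2.2 (h.base y)
  obtain ⟨t, ht⟩ := exists_pullback_section h hL.1 s
  exact ⟨n, t, ht.ge hys, ht.symm ▸ hs.preimage h⟩

end TMul
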