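import Groth.Agent.TMul.Power
import Groth.Prelude.Def_PicGrp

/-!
Associativity and commutativity of tensor products of modules on a scheme, arithmetic of powers.
-/

set_option autoImplicit false
set_option backward.isDefEq.respectTransparency false

universe u

open CategoryTheory CategoryTheory.Limits AlgebraicGeometry TopologicalSpace Opposite
open Groth.Agent.QC (res resO res_res res_smul resO_resO app_res)
open scoped TensorProduct

noncomputable section

namespace TMul

variable {X : Scheme.{u}} {M N P Q : X.Modules}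

lemma app_smul (φ : M ⟶ N) {U : X.Opens} (r : Γ(X, U)) (m : Γ(M, U)) :
    φ.app U (r • m) = r • φ.app U m :=
  (φ.val.app (op U)).hom.map_smul r m

/-- Morphisms out of a tensor product are determined on pure tensors. -/
theorem hom_ext {φ ψ : CohB1.tensorMod M N ⟶ P}
    (h : ∀ (U : X.Opens) (m : Γ(M, U)) (n : Γ(N, U)), φ.app U (tm m n) = ψ.app U (tm m n)) :
    φ = ψ := by
  refine Scheme.Modules.hom_ext _ _ fun U => ?_
  ext s
  refine Groth.Agent.QC.section_eq_of_locally fun x hx => ?_
  obtain ⟨V, hV, p, hxV, hp⟩ := exists_tt s hx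
  refine ⟨V, hV, hxV, ?_⟩
  rw [app_res, app_res, ← hp]
  clear hp
  induction p using TensorProduct.induction_on with
  | zero => simp
  | tmul m n => exact h V m n
  | add p q hp hq => rw [map_add, map_add, map_add, hp, hq]

variable {U : X.Opens}

/-- A compatible family of bilinear maps below `U`. -/
structure BilOn (M N P : X.Modules) (U : X.Opens) where
  /-- The maps. -/
  B : ∀ V : X.Opens, V ≤ U → Γ(M, V) →ₗ[Γ(X, V)] Γ(N, V) →ₗ[Γ(X, V)] Γ(P, V)
  compat : ∀ {W V : X.Opens} (h : W ≤ V) (hV : V ≤ U) (m : Γ(M, V)) (n : Γ(N, V)),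
    res P h (B V hV m n) = B W (h.trans hV) (res M h m) (res N h n)

lemma BilOn.res_lift (β : BilOn M N P U) {W V : X.Opens} (h : W ≤ V) (hV : V ≤ U)
    (p : Γ(M, V) ⊗[Γ(X, V)] Γ(N, V)) :
    res P h (TensorProduct.lift (β.B V hV) p) =
      TensorProduct.lift (β.B W (h.trans hV)) (resT M N h p) := by
  induction p using TensorProduct.induction_on with
  | zero => simp
  | tmul m n => rw [resT_tmul, TensorProduct.lift.tmul, TensorProduct.lift.tmul, β.compat]
  | add p q hp hq => simp only [map_add, hp, hq]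

/-- Evaluate a compatible family of bilinear maps on a section of the tensor product. -/
theorem BilOn.exists_eval (β : BilOn M N P U) (s : Γ(CohB1.tensorMod M N, U)) :
    ∃ t : Γ(P, U), ∀ (V : X.Opens) (hV : V ≤ U) (p : Γ(M, V) ⊗[Γ(X, V)] Γ(N, V)),
      tt M N V p = res _ hV s → res P hV t = TensorProduct.lift (β.B V hV) p := by
  have uniq : ∀ (V : X.Opens) (hV : V ≤ U) (p q : Γ(M, V) ⊗[Γ(X, V)] Γ(N, V)),
      tt M N V p = tt M N V q →
        TensorProduct.lift (β.B V hV) p = TensorProduct.lift (β.B V hV) q := fun V hV p q h =>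
    Groth.Agent.QC.section_eq_of_locally fun x hx => by
      obtain ⟨W, hW, hxW, e⟩ := exists_resT_eq h hx
      exact ⟨W, hW, hxW, by rw [β.res_lift, β.res_lift, e]⟩
  choose W hW p hxW hp using fun x : U => exists_tt s x.2
  obtain ⟨t, ht, -⟩ := TopCat.Sheaf.existsUnique_gluing' (Groth.Agent.QC.abSheaf P) W U
    (fun x => homOfLE (hW x)) (fun x hx => Opens.mem_iSup.mpr ⟨⟨x, hx⟩, hxW _⟩)
    (fun x => TensorProduct.lift (β.B (W x) (hW x)) (p x)) (fun x y => by
      have key : ∀ (W' : X.Opens) (h1 : W' ≤ W x) (h2 : W' ≤ W y),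
          res P h1 (TensorProduct.lift (β.B (W x) (hW x)) (p x)) =
            res P h2 (TensorProduct.lift (β.B (W y) (hW y)) (p y)) := fun W' h1 h2 => by
        rw [β.res_lift, β.res_lift]
        refine uniq W' _ _ _ ?_
        rw [← res_tt, ← res_tt, hp, hp, res_res, res_res]
      exact key _ inf_le_left inf_le_right)
  refine ⟨t, fun V hV q hq => Groth.Agent.QC.section_eq_of_locally fun x hx => ?_⟩
  refine ⟨W ⟨x, hV hx⟩ ⊓ V, inf_le_right, ⟨hxW _, hx⟩, ?_⟩
  have ht' : res P (hW ⟨x, hV hx⟩) t = _ := ht ⟨x, hV hx⟩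
  rw [res_res, ← res_res P (inf_le_left : W ⟨x, hV hx⟩ ⊓ V ≤ _) (hW _), ht', β.res_lift, β.res_lift]
  refine uniq _ _ _ _ ?_
  rw [← res_tt, ← res_tt, hp, hq, res_res, res_res]

/-- The value of a compatible family of bilinear maps on a section of the tensor product. -/
def BilOn.eval (β : BilOn M N P U) (s : Γ(CohB1.tensorMod M N, U)) : Γ(P, U) :=
  (β.exists_eval s).choose

lemma BilOn.eval_eq (β : BilOn M N P U) {V : X.Opens} (hV : V ≤ U)
    {s : Γ(CohB1.tensorMod M N, U)} {p : Γ(M, V) ⊗[Γ(X, V)] Γ(N, V)}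
    (hp : tt M N V p = res _ hV s) : res P hV (β.eval s) = TensorProduct.lift (β.B V hV) p :=
  (β.exists_eval s).choose_spec V hV p hp

lemma BilOn.eval_tm (β : BilOn M N P U) (m : Γ(M, U)) (n : Γ(N, U)) :
    β.eval (tm m n) = β.B U le_rfl m n := by
  have h := β.eval_eq (le_refl U) (s := tm m n) (p := m ⊗ₜ n)
    (by rw [Groth.Agent.QC.res_self, tt_tmul])
  rwa [Groth.Agent.QC.res_self, TensorProduct.lift.tmul] at h

section Assoc

variable (M N P)

/-- `(m, n) ↦ m ⊗ (n ⊗ p)`. -/
def assocBil {U : X.Opens} (p : Γ(P, U)) :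
    BilOn M N (CohB1.tensorMod M (CohB1.tensorMod N P)) U where
  B V hV := LinearMap.mk₂ _ (fun m n => tm m (tm n (res P hV p)))
    (fun m m' n => tm_add _ _ _) (fun r m n => smul_tm _ _ _)
    (fun m n n' => by rw [tm_add, add_tm]) (fun r m n => by rw [smul_tm, tm_smul])
  compat h hV m n := by
    simp only [LinearMap.mk₂_apply]
    rw [res_tm, res_tm, res_res]

variable {M N P}

/-- Two sections with the same expansions are equal. -/
lemma eval_unique {U : X.Opens} (β : BilOn M N Q U) (s : Γ(CohB1.tensorMod M N, U)) (t : Γ(Q, U))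
    (h : ∀ (V : X.Opens) (hV : V ≤ U) (p : Γ(M, V) ⊗[Γ(X, V)] Γ(N, V)),
      tt M N V p = res _ hV s → res Q hV t = TensorProduct.lift (β.B V hV) p) : β.eval s = t :=
  Groth.Agent.QC.section_eq_of_locally fun x hx => by
    obtain ⟨V, hV, p, hxV, hp⟩ := exists_tt s hx
    exact ⟨V, hV, hxV, by rw [β.eval_eq hV hp, h V hV p hp]⟩

/-- `(s, p) ↦` the value of `s` against `p`. -/
def assocApp (U : X.Opens) : Γ(CohB1.tensorMod M N, U) →ₗ[Γ(X, U)] Γ(P, U) →ₗ[Γ(X, U)]
    Γ(CohB1.tensorMod M (CohB1.tensorMod N P), U) :=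
  LinearMap.mk₂ _ (fun s p => (assocBil M N P p).eval s)
    (fun s s' p => Groth.Agent.QC.section_eq_of_locally fun x hx => by
      obtain ⟨V, hV, q, hxV, hq⟩ := exists_tt s hx
      obtain ⟨V', hV', q', hxV', hq'⟩ := exists_tt s' hx
      have h1 : V ⊓ V' ≤ U := inf_le_left.trans hV
      have e : tt M N _ (resT M N (inf_le_left : V ⊓ V' ≤ V) q) = res _ h1 s := by
        rw [← res_tt, hq, res_res]
      have e' : tt M N _ (resT M N (inf_le_right : V ⊓ V' ≤ V') q') = res _ h1 s' := by
        rw [← res_tt, hq', res_res]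
      refine ⟨V ⊓ V', h1, ⟨hxV, hxV'⟩, ?_⟩
      rw [map_add, (assocBil M N P p).eval_eq h1 e, (assocBil M N P p).eval_eq h1 e',
        (assocBil M N P p).eval_eq h1 (p := resT M N inf_le_left q + resT M N inf_le_right q')
          (by rw [map_add, map_add, e, e']), map_add])
    (fun r s p => eval_unique _ _ _ fun V hV q hq => by
      obtain h := (assocBil M N P p).eval_eq hV (s := s)
      refine Groth.Agent.QC.section_eq_of_locally fun x hx => ?_
      obtain ⟨W, hW, q', hxW, hq'⟩ := exists_tt (res _ hV s) hx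
      refine ⟨W, hW, hxW, ?_⟩
      rw [res_res] at hq'
      have h2 : tt M N W (resT M N hW q) = tt M N W (resO X (hW.trans hV) r • q') := by
        rw [← res_tt, hq, res_res, res_smul, tt_smul, hq']
      rw [res_res, res_smul, (assocBil M N P p).eval_eq (hW.trans hV) hq', BilOn.res_lift,
        ← LinearMap.map_smul]
      have h3 : tt M N W (resO X (hW.trans hV) r • q') = res _ (hW.trans hV) (r • s) := by
        rw [tt_smul, hq', res_smul]
      rw [← (assocBil M N P p).eval_eq (hW.trans hV) h3,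
        (assocBil M N P p).eval_eq (hW.trans hV) (p := resT M N hW q) (h2.trans h3)])
    (fun s p p' => eval_unique _ _ _ fun V hV q hq => by
      rw [map_add, (assocBil M N P p).eval_eq hV hq, (assocBil M N P p').eval_eq hV hq]
      clear hq
      induction q using TensorProduct.induction_on with
      | zero => simp
      | tmul m n =>
        simp only [TensorProduct.lift.tmul, assocBil, LinearMap.mk₂_apply]
        rw [map_add, add_tm, add_tm]
      | add a b ha hb => simp only [map_add, ← ha, ← hb]; abel)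
    (fun r s p => eval_unique _ _ _ fun V hV q hq => by
      rw [res_smul, (assocBil M N P p).eval_eq hV hq]
      clear hq
      induction q using TensorProduct.induction_on with
      | zero => simp
      | tmul m n =>
        simp only [TensorProduct.lift.tmul, assocBil, LinearMap.mk₂_apply]
        rw [res_smul, tm_smul, tm_smul]
      | add a b ha hb => simp only [map_add, smul_add, ha, hb])

lemma res_assocApp {V U : X.Opens} (h : V ≤ U) (s : Γ(CohB1.tensorMod M N, U)) (p : Γ(P, U)) :
    res (CohB1.tensorMod M (CohB1.tensorMod N P)) h (assocApp U s p) =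
      assocApp V (res (CohB1.tensorMod M N) h s) (res P h p) := by
  change res _ h ((assocBil M N P p).eval s) = (assocBil M N P (res P h p)).eval (res _ h s)
  refine (eval_unique _ _ _ fun W hW q hq => ?_).symm
  rw [res_res] at hq ⊢
  rw [(assocBil M N P p).eval_eq (hW.trans h) hq]
  congr 2
  ext m n
  simp only [assocBil, LinearMap.mk₂_apply, res_res]

/-- The associativity morphism. -/
def assocHom (M N P : X.Modules) :
    CohB1.tensorMod (CohB1.tensorMod M N) P ⟶ CohB1.tensorMod M (CohB1.tensorMod N P) :=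
  lift assocApp res_assocApp

lemma assocHom_tm (m : Γ(M, U)) (n : Γ(N, U)) (p : Γ(P, U)) :
    (assocHom M N P).app U (tm (tm m n) p) = tm m (tm n p) := by
  refine (lift_tm assocApp res_assocApp _ _).trans ?_
  change (assocBil M N P p).eval (tm m n) = _
  rw [BilOn.eval_tm]
  simp only [assocBil, LinearMap.mk₂_apply, Groth.Agent.QC.res_self]

/-- Commutativity. -/
def commHom (M N : X.Modules) : CohB1.tensorMod M N ⟶ CohB1.tensorMod N M :=
  lift (fun U => LinearMap.mk₂ _ (fun m n => tm n m) (fun m m' n => add_tm _ _ _)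
      (fun r m n => tm_smul _ _ _) (fun m n n' => tm_add _ _ _) (fun r m n => smul_tm _ _ _))
    fun h m n => res_tm h n m

lemma commHom_tm (m : Γ(M, U)) (n : Γ(N, U)) : (commHom M N).app U (tm m n) = tm n m :=
  lift_tm _ _ m n

lemma commHom_comp (M N : X.Modules) : commHom M N ≫ commHom N M = 𝟙 _ :=
  hom_ext fun U m n => by
    change (commHom N M).app U ((commHom M N).app U (tm m n)) = tm m n
    rw [commHom_tm, commHom_tm]

/-- `M ⊗ N ≅ N ⊗ M`. -/
def commIso (M N : X.Modules) : CohB1.tensorMod M N ≅ CohB1.tensorMod N M :=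
  ⟨commHom M N, commHom N M, commHom_comp M N, commHom_comp N M⟩

/-- Morphisms out of a triple tensor product are determined on pure tensors. -/
theorem hom_ext₃ {φ ψ : CohB1.tensorMod (CohB1.tensorMod M N) P ⟶ Q}
    (h : ∀ (U : X.Opens) (m : Γ(M, U)) (n : Γ(N, U)) (p : Γ(P, U)),
      φ.app U (tm (tm m n) p) = ψ.app U (tm (tm m n) p)) :
    φ = ψ :=
  hom_ext fun U s p => by
    refine Groth.Agent.QC.section_eq_of_locally fun x hx => ?_
    obtain ⟨V, hV, q, hxV, hq⟩ := exists_tt s hx
    refine ⟨V, hV, hxV, ?_⟩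
    rw [app_res, app_res, res_tm, ← hq]
    clear hq
    induction q using TensorProduct.induction_on with
    | zero => rw [map_zero, zero_tm, map_zero, map_zero]
    | tmul m n => exact h V m n _
    | add a b ha hb => rw [map_add, tm_add, map_add, map_add, ha, hb]

/-- The inverse associativity morphism. -/
def assocInv (M N P : X.Modules) :
    CohB1.tensorMod M (CohB1.tensorMod N P) ⟶ CohB1.tensorMod (CohB1.tensorMod M N) P :=
  commHom _ _ ≫ assocHom N P M ≫ commHom _ _ ≫ assocHom P M N ≫ commHom _ _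

lemma assocInv_tm (m : Γ(M, U)) (n : Γ(N, U)) (p : Γ(P, U)) :
    (assocInv M N P).app U (tm m (tm n p)) = tm (tm m n) p := by
  change (commHom _ _).app U ((assocHom P M N).app U ((commHom _ _).app U
    ((assocHom N P M).app U ((commHom _ _).app U (tm m (tm n p)))))) = _
  rw [commHom_tm, assocHom_tm, commHom_tm, assocHom_tm, commHom_tm]

/-- `(M ⊗ N) ⊗ P ≅ M ⊗ (N ⊗ P)`. -/
def assocIso (M N P : X.Modules) :
    CohB1.tensorMod (CohB1.tensorMod M N) P ≅ CohB1.tensorMod M (CohB1.tensorMod N P) where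
  hom := assocHom M N P
  inv := assocInv M N P
  hom_inv_id := hom_ext₃ fun U m n p => by
    change (assocInv M N P).app U ((assocHom M N P).app U (tm (tm m n) p)) = _
    rw [assocHom_tm, assocInv_tm]
    rfl
  inv_hom_id := by
    refine (cancel_epi (commIso (CohB1.tensorMod N P) M).hom).mp (hom_ext₃ fun U m n p => ?_)
    change (assocHom M N P).app U ((assocInv M N P).app U ((commHom _ _).app U (tm (tm m n) p))) =
      (commHom _ _).app U (tm (tm m n) p)
    rw [commHom_tm, assocInv_tm, assocHom_tm]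

end Assoc

/-- `O ⊗ M ≅ M`. -/
def leftUnitIso (M : X.Modules) : CohB1.tensorMod (Coh.structureModule X) M ≅ M :=
  commIso _ _ ≪≫ SecTwist.unitorR M

/-- `(M ⊗ N) ⊗ (P ⊗ Q) ≅ (M ⊗ P) ⊗ (N ⊗ Q)`. -/
def swapIso (M N P Q : X.Modules) :
    CohB1.tensorMod (CohB1.tensorMod M N) (CohB1.tensorMod P Q) ≅
      CohB1.tensorMod (CohB1.tensorMod M P) (CohB1.tensorMod N Q) :=
  assocIso M N _ ≪≫ PicGrp.tensorModIso (Iso.refl M)
      ((assocIso N P Q).symm ≪≫ PicGrp.tensorModIso (commIso N P) (Iso.refl Q) ≪≫ assocIso P N Q) ≪≫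
    (assocIso M P _).symm

variable (L L' : X.Modules)

/-- `L^0 ⊗ ...`: powers add. -/
theorem nonempty_powAddIso (a : ℕ) : ∀ b : ℕ,
    Nonempty (CohB1.tensorMod (CohB1.tensorPow L a) (CohB1.tensorPow L b) ≅
      CohB1.tensorPow L (a + b))
  | 0 => ⟨SecTwist.unitorR _⟩
  | b + 1 => (nonempty_powAddIso a b).map fun e =>
    (assocIso (CohB1.tensorPow L a) (CohB1.tensorPow L b) L).symm ≪≫
      PicGrp.tensorModIso e (Iso.refl L)

/-- Powers of powers. -/
theorem nonempty_powMulIso (a : ℕ) : ∀ b : ℕ,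
    Nonempty (CohB1.tensorPow (CohB1.tensorPow L a) b ≅ CohB1.tensorPow L (a * b))
  | 0 => ⟨Iso.refl _⟩
  | b + 1 => by
    obtain ⟨e⟩ := nonempty_powMulIso a b
    obtain ⟨f⟩ := nonempty_powAddIso L (a * b) a
    exact ⟨PicGrp.tensorModIso e (Iso.refl _) ≪≫ f⟩

/-- Powers of a tensor product. -/
theorem nonempty_powTensorIso : ∀ n : ℕ,
    Nonempty (CohB1.tensorPow (CohB1.tensorMod L L') n ≅
      CohB1.tensorMod (CohB1.tensorPow L n) (CohB1.tensorPow L' n))
  | 0 => ⟨(SecTwist.unitorR _).symm⟩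
  | n + 1 => (nonempty_powTensorIso n).map fun e =>
    PicGrp.tensorModIso e (Iso.refl _) ≪≫
      swapIso (CohB1.tensorPow L n) (CohB1.tensorPow L' n) L L'

/-- Powers of isomorphic modules. -/
theorem nonempty_powCongr {L L' : X.Modules} (e : L ≅ L') : ∀ n : ℕ,
    Nonempty (CohB1.tensorPow L n ≅ CohB1.tensorPow L' n)
  | 0 => ⟨Iso.refl _⟩
  | n + 1 => (nonempty_powCongr e n).map fun f => PicGrp.tensorModIso f e

theorem nonempty_powOneIso : Nonempty (CohB1.tensorPow L 1 ≅ L) := ⟨leftUnitIso L⟩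

theorem nonempty_powUnitIso : ∀ n : ℕ,
    Nonempty (CohB1.tensorPow (Coh.structureModule X) n ≅ Coh.structureModule X)
  | 0 => ⟨Iso.refl _⟩
  | n + 1 => (nonempty_powUnitIso n).map fun f =>
    PicGrp.tensorModIso f (Iso.refl _) ≪≫ SecTwist.unitorR _

end TMul
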