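import Groth.Agent.TMul.Assoc
import Mathlib.AlgebraicGeometry.Morphisms.Separated
import Mathlib.AlgebraicGeometry.Morphisms.ClosedImmersion

/-!
Ample modules: generating loci of products and powers, separatedness from affine generating loci,
bases of generating loci.
-/

set_option autoImplicit false
set_option backward.isDefEq.respectTransparency false

universe u

open CategoryTheory CategoryTheory.Limits AlgebraicGeometry TopologicalSpace Opposite
open Groth.Agent.QC (res resO res_res res_smul resO_resO app_res)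

noncomputable section

namespace TMul

variable {X : Scheme.{u}} {L L' M : X.Modules}

lemma val_tmulHom (s : Coh.structureModule X ⟶ L) (t : Coh.structureModule X ⟶ L') (U : X.Opens) :
    val (SecTwist.tmulHom s t) U = tm (val s U) (val t U) :=
  SecTwist.val_tmulHom s t U

theorem isInvertible_tensorMod (hL : PicF.IsInvertible L) (hL' : PicF.IsInvertible L') :
    PicF.IsInvertible (CohB1.tensorMod L L') :=
  InvGen.isInvertible fun x => by
    obtain ⟨U, e, hxU, he⟩ := exists_isGen hL x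
    obtain ⟨V, e', hxV, he'⟩ := exists_isGen hL' x
    exact ⟨U ⊓ V, _, ⟨hxU, hxV⟩, isGen_tm (he.res inf_le_left) (he'.res inf_le_right)⟩

theorem isInvertible_tensorPow (hL : PicF.IsInvertible L) (n : ℕ) :
    PicF.IsInvertible (CohB1.tensorPow L n) :=
  InvGen.isInvertible fun x => by
    obtain ⟨U, e, hxU, he⟩ := exists_isGen hL x
    exact ⟨U, _, hxU, isGen_pw he n⟩

/-- A section and its coefficient near a point. -/
lemma exists_coeff (hL : PicF.IsInvertible L) (s : Coh.structureModule X ⟶ L) {x : X}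
    {W : X.Opens} (hx : x ∈ W) :
    ∃ (U : X.Opens) (e : Γ(L, U)) (c : Γ(X, U)),
      IsAffineOpen U ∧ x ∈ U ∧ U ≤ W ∧ IsGen e ∧ val s U = c • e := by
  obtain ⟨V, e, hxV, he⟩ := exists_isGen hL x
  obtain ⟨U, hU, hxU, hUV⟩ := exists_isAffineOpen_mem_and_subset (x := x) (U := V ⊓ W) ⟨hxV, hx⟩
  have hUV' : U ≤ V := hUV.trans inf_le_left
  obtain ⟨c, hc⟩ := ((he.res hUV') U le_rfl).2 (val s U)
  refine ⟨U, res L hUV' e, c, hU, hxU, hUV.trans inf_le_right, he.res hUV', ?_⟩
  rw [← hc, Groth.Agent.QC.res_self]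

theorem genLocus_tmulHom (hL : PicF.IsInvertible L) (hL' : PicF.IsInvertible L')
    (s : Coh.structureModule X ⟶ L) (t : Coh.structureModule X ⟶ L') :
    CohB1.genLocus (CohB1.tensorMod L L') (SecTwist.tmulHom s t) =
      CohB1.genLocus L s ⊓ CohB1.genLocus L' t := by
  ext x
  obtain ⟨U, e, c, -, hxU, -, he, hc⟩ := exists_coeff hL s (W := ⊤) (x := x) trivial
  obtain ⟨V, e', d, -, hxV, hVU, he', hd⟩ := exists_coeff hL' t hxU
  have hc' : val s V = resO X hVU c • res L hVU e := by rw [← res_smul, ← hc, res_val]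
  have h : val (SecTwist.tmulHom s t) V = (resO X hVU c * d) • tm (res L hVU e) e' := by
    rw [val_tmulHom, hc', hd, tm_smul, smul_tm, smul_smul, mul_comm]
  have h1 := SetLike.ext_iff.mp (genLocus_inf _ (isGen_tm (he.res hVU) he') h) x
  have h2 := SetLike.ext_iff.mp (genLocus_inf _ (he.res hVU) hc') x
  have h3 := SetLike.ext_iff.mp (genLocus_inf _ he' hd) x
  rw [X.basicOpen_mul] at h1
  simp only [Opens.mem_inf, hxV, true_and, SetLike.mem_coe] at h1 h2 h3 ⊢
  rw [h1, h2, h3]

theorem genLocus_powHom (hL : PicF.IsInvertible L) (s : Coh.structureModule X ⟶ L) :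
    ∀ n : ℕ, CohB1.genLocus (CohB1.tensorPow L (n + 1)) (SecTwist.powHom s (n + 1)) =
      CohB1.genLocus L s := by
  have h0 : CohB1.genLocus (Coh.structureModule X) (𝟙 (Coh.structureModule X)) = ⊤ :=
    top_le_iff.mp fun x _ => Opens.mem_sSup.mpr ⟨⊤, by
      change IsIso _
      rw [CategoryTheory.Functor.map_id]; infer_instance, trivial⟩
  intro n
  induction n with
  | zero =>
    exact (genLocus_tmulHom (isInvertible_tensorPow hL 0) hL (𝟙 _) s).trans (by
      change CohB1.genLocus (Coh.structureModule X) (𝟙 _) ⊓ _ = _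
      rw [h0, top_inf_eq])
  | succ n ih =>
    exact (genLocus_tmulHom (isInvertible_tensorPow hL (n + 1)) hL (SecTwist.powHom s (n + 1)) s).trans
      (by rw [ih, inf_idem])

/-- The morphism named by a global section. -/
def homOf (t : Γ(L, ⊤)) : Coh.structureModule X ⟶ L :=
  L.unitHomEquiv.symm (PresheafOfModules.sectionsMk
    (fun U => res L (le_top : U.unop ≤ ⊤) t) (fun U V f => res_res L (leOfHom f.unop) le_top t))

lemma val_homOf (t : Γ(L, ⊤)) (U : X.Opens) : val (homOf t) U = res L le_top t := by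
  change ((L.unitHomEquiv (homOf t)).val (op U) : Γ(L, U)) = _
  rw [homOf, Equiv.apply_symm_apply]
  rfl

/-- A section generates over its generating locus. -/
theorem isGen_genLocus (s : Coh.structureModule X ⟶ L) :
    IsGen (val s (CohB1.genLocus L s)) := by
  intro V hV
  choose U hxU hU using fun x : V => (mem_genLocus_iff s).mp (hV x.2)
  have inj : ∀ W : X.Opens, W ≤ V → ∀ c d : Γ(X, W), c • val s W = d • val s W → c = d := by
    intro W hW c d h
    refine TopCat.Sheaf.eq_of_locally_eq' X.sheaf (fun x : W => U ⟨x, hW x.2⟩ ⊓ W) W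
      (fun x => homOfLE inf_le_right) (fun x hx => Opens.mem_iSup.mpr ⟨⟨x, hx⟩, hxU _, hx⟩) _ _
      fun x => (hU ⟨x, hW x.2⟩ _ inf_le_left).1 ?_
    have h' := congrArg (res L (inf_le_right : U ⟨x, hW x.2⟩ ⊓ W ≤ W)) h
    rw [res_smul, res_smul, res_val] at h'
    simp only [res_val]
    exact h'
  simp only [res_val]
  refine ⟨inj V le_rfl, fun m => ?_⟩
  choose c hc using fun x : V => (hU x (U x ⊓ V) inf_le_left).2 (res L inf_le_right m)
  simp only [res_val] at hc
  obtain ⟨a, ha, -⟩ := TopCat.Sheaf.existsUnique_gluing' X.sheaf (fun x : V => U x ⊓ V) V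
    (fun x => homOfLE inf_le_right) (fun x hx => Opens.mem_iSup.mpr ⟨⟨x, hx⟩, hxU _, hx⟩) c
    (fun x y => inj _ (inf_le_left.trans inf_le_right)
      (resO X (inf_le_left : (U x ⊓ V) ⊓ (U y ⊓ V) ≤ U x ⊓ V) (c x))
      (resO X (inf_le_right : (U x ⊓ V) ⊓ (U y ⊓ V) ≤ U y ⊓ V) (c y)) (by
      conv_lhs => rw [← res_val s (inf_le_left : (U x ⊓ V) ⊓ (U y ⊓ V) ≤ U x ⊓ V), ← res_smul, hc, res_res]
      conv_rhs => rw [← res_val s (inf_le_right : (U x ⊓ V) ⊓ (U y ⊓ V) ≤ U y ⊓ V), ← res_smul, hc, res_res]))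
  refine ⟨a, Groth.Agent.QC.section_eq_of_locally fun x hx =>
    ⟨U ⟨x, hx⟩ ⊓ V, inf_le_right, ⟨hxU _, hx⟩, ?_⟩⟩
  have ha' : resO X (inf_le_right : U ⟨x, hx⟩ ⊓ V ≤ V) a = c ⟨x, hx⟩ := ha ⟨x, hx⟩
  change res L _ (HSMul.hSMul (α := Γ(X, V)) a (val s V)) = _
  rw [res_smul, res_val, ha', hc]

theorem isAffineHom_ι_genLocus (hL : PicF.IsInvertible L) (s : Coh.structureModule X ⟶ L) :
    IsAffineHom (CohB1.genLocus L s).ι := by
  choose U e c hU hxU _ he hc using fun x : X => exists_coeff hL s (W := ⊤) (x := x) trivial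
  refine isAffineHom_of_forall_exists_isAffineOpen _ fun i => ⟨U i, hxU i, hU i, ?_⟩
  rw [← (CohB1.genLocus L s).ι.isAffineOpen_iff_of_isOpenImmersion]
  rw [Scheme.Hom.image_preimage_eq_opensRange_inf, Scheme.Opens.opensRange_ι, inf_comm,
    genLocus_inf s (he i) (hc i)]
  exact (hU i).basicOpen _

theorem isAffineOpen_inf_genLocus (hL : PicF.IsInvertible L) (s : Coh.structureModule X ⟶ L)
    {U : X.Opens} (hU : IsAffineOpen U) : IsAffineOpen (U ⊓ CohB1.genLocus L s) := by
  have := isAffineHom_ι_genLocus hL s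
  have h := (hU.preimage (CohB1.genLocus L s).ι).image_of_isOpenImmersion (CohB1.genLocus L s).ι
  rwa [Scheme.Hom.image_preimage_eq_opensRange_inf, Scheme.Opens.opensRange_ι, inf_comm] at h

/-- A property of the diagonal from its restrictions to products of charts. -/
theorem diagonal_of_charts (P : MorphismProperty Scheme.{u}) [IsZariskiLocalAtTarget P]
    {ι : Type u} (U : ι → X.Opens) (hcov : ⨆ i, U i = ⊤)
    (h : ∀ i j, ∀ m : ((U i ⊓ U j : X.Opens) : Scheme) ⟶
        pullback ((U i).ι ≫ terminal.from X) ((U j).ι ≫ terminal.from X),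
      m ≫ pullback.fst _ _ = X.homOfLE inf_le_left → m ≫ pullback.snd _ _ = X.homOfLE inf_le_right →
        P m) :
    P (pullback.diagonal (terminal.from X)) := by
  let 𝒰 := X.openCoverOfIsOpenCover U hcov
  apply IsZariskiLocalAtTarget.of_openCover (P := P)
    (Scheme.Pullback.openCoverOfLeftRight 𝒰 𝒰 (terminal.from X) (terminal.from X))
  rintro ⟨i, j⟩
  let e := (pullback_map_diagonal_isPullback (U i).ι (U j).ι (terminal.from X)).isoPullback
  let k := (isPullback_opens_inf (U i) (U j)).isoPullback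
  refine (MorphismProperty.cancel_left_of_respectsIso (P := P) (k.hom ≫ e.hom) _).mp ?_
  refine h i j _ ?_ ?_ <;>
  · dsimp only [e, k, 𝒰, Scheme.Cover.pullbackHom]
    simp only [Category.assoc]
    erw [IsPullback.isoPullback_hom_snd_assoc]
    simp

/-- Separatedness from an affine cover with affine intersections and surjective products. -/
theorem isSeparated_of_charts {ι : Type u} (U : ι → X.Opens) (hU : ∀ i, IsAffineOpen (U i))
    (hcov : ⨆ i, U i = ⊤) (hinf : ∀ i j, IsAffineOpen (U i ⊓ U j))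
    (hsurj : ∀ i j (z : Γ(X, U i ⊓ U j)), ∃ (a : Γ(X, U i)) (b : Γ(X, U j)),
      resO X inf_le_left a * resO X inf_le_right b = z) :
    X.IsSeparated := by
  refine ⟨⟨diagonal_of_charts @IsClosedImmersion U hcov fun i j m hm₁ hm₂ => ?_⟩⟩
  have : IsAffine (U i).toScheme := hU i
  have : IsAffine (U j).toScheme := hU j
  have : IsAffine (U i ⊓ U j : X.Opens).toScheme := hinf i j
  refine IsClosedImmersion.of_surjective_of_isAffine m fun z => ?_
  obtain ⟨a, b, hab⟩ := hsurj i j ((U i ⊓ U j).topIso.hom z)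
  refine ⟨(pullback.fst ((U i).ι ≫ terminal.from X) ((U j).ι ≫ terminal.from X)).appTop
      ((U i).topIso.inv a) *
    (pullback.snd ((U i).ι ≫ terminal.from X) ((U j).ι ≫ terminal.from X)).appTop
      ((U j).topIso.inv b), ?_⟩
  apply (U i ⊓ U j).topIso.commRingCatIsoToRingEquiv.injective
  change (U i ⊓ U j).topIso.hom _ = (U i ⊓ U j).topIso.hom z
  rw [map_mul, map_mul, ← hab, ← CommRingCat.comp_apply (f := Scheme.Hom.appTop _) (g := m.appTop),
    ← Scheme.Hom.comp_appTop, ← CommRingCat.comp_apply (f := Scheme.Hom.appTop _) (g := m.appTop),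
    ← Scheme.Hom.comp_appTop, hm₁, hm₂]
  congr 1 <;>
  · simp [Scheme.Hom.appTop, Scheme.Opens.topIso, resO, ← CommRingCat.comp_apply, ← Functor.map_comp]

/-- Sections over the intersection of two generating loci are products. -/
theorem exists_mul_eq (s t : Coh.structureModule X ⟶ L) {U V : X.Opens}
    (hU : CohB1.genLocus L s = U) (hV : CohB1.genLocus L t = V) (hUa : IsAffineOpen U)
    (z : Γ(X, U ⊓ V)) :
    ∃ (a : Γ(X, U)) (b : Γ(X, V)), resO X inf_le_left a * resO X inf_le_right b = z := by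
  subst hU hV
  obtain ⟨f, hf⟩ := (isGen_genLocus s _ le_rfl).2 (val t (CohB1.genLocus L s))
  obtain ⟨g, hg⟩ := (isGen_genLocus t _ le_rfl).2 (val s (CohB1.genLocus L t))
  simp only [res_val] at hf hg
  have hW := genLocus_inf t (isGen_genLocus s) hf.symm
  have hfg : resO X inf_le_left f * resO X inf_le_right g =
      (1 : Γ(X, CohB1.genLocus L s ⊓ CohB1.genLocus L t)) := by
    refine (isGen_genLocus s _ inf_le_left).1 ?_
    simp only [res_val, one_smul]
    rw [mul_comm, mul_smul, ← res_val s (inf_le_left : CohB1.genLocus L s ⊓ _ ≤ _),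
      ← res_smul, hf, res_val, ← res_val t (inf_le_right : CohB1.genLocus L s ⊓ _ ≤ _),
      ← res_smul, hg, res_val, res_val]
  have := hUa.isLocalization_basicOpen f
  obtain ⟨⟨a, ⟨_, n, rfl⟩⟩, ha⟩ := IsLocalization.surj (Submonoid.powers f) (resO X hW.ge z)
  refine ⟨a, g ^ n, ?_⟩
  have ha' : resO X hW.ge z * resO X (X.basicOpen_le f) (f ^ n) = resO X (X.basicOpen_le f) a := ha
  have h2 := congrArg (resO X hW.le) ha'
  rw [map_mul, resO_resO, resO_resO, resO_resO, Groth.Agent.QC.resO_self] at h2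
  rw [← h2, mul_assoc, map_pow, map_pow, ← mul_pow, hfg, one_pow, mul_one]

/-- Positive powers of positive powers. -/
theorem exists_genLocus_pow (hL : PicF.IsInvertible L) {n N : ℕ} (h : n + 1 ∣ N + 1)
    (s : Coh.structureModule X ⟶ CohB1.tensorPow L (n + 1)) :
    ∃ t : Coh.structureModule X ⟶ CohB1.tensorPow L (N + 1),
      CohB1.genLocus _ t = CohB1.genLocus _ s := by
  obtain ⟨_ | k, hk⟩ := h
  · omega
  obtain ⟨e⟩ := nonempty_powMulIso L (n + 1) (k + 1)
  rw [hk]
  exact ⟨SecTwist.powHom s (k + 1) ≫ e.hom,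
    (genLocus_comp _ e.hom).trans (genLocus_powHom (isInvertible_tensorPow hL _) s k)⟩

theorem isSeparated_of_forall (hL : PicF.IsInvertible L)
    (h : ∀ x : X, ∃ (n : ℕ) (s : Coh.structureModule X ⟶ CohB1.tensorPow L (n + 1)),
      x ∈ CohB1.genLocus _ s ∧ IsAffineOpen (CohB1.genLocus _ s)) : X.IsSeparated := by
  choose n s hx hs using h
  refine isSeparated_of_charts (fun x : X => CohB1.genLocus _ (s x)) hs
    (top_le_iff.mp fun x _ => Opens.mem_iSup.mpr ⟨x, hx x⟩)
    (fun i j => isAffineOpen_inf_genLocus (isInvertible_tensorPow hL _) _ (hs i)) fun i j z => ?_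
  have hd : (n i + 1) * (n j + 1) = n i * n j + n i + n j + 1 := by ring
  obtain ⟨s', hs'⟩ := exists_genLocus_pow hL (N := n i * n j + n i + n j)
    (hd ▸ Dvd.intro _ rfl) (s i)
  obtain ⟨t', ht'⟩ := exists_genLocus_pow hL (N := n i * n j + n i + n j)
    (hd ▸ Dvd.intro_left _ rfl) (s j)
  exact exists_mul_eq s' t' hs' ht' (hs i) z

/-- An affine generating locus inside an affine open. -/
theorem isAffineOpen_genLocus_of_le (hL : PicF.IsInvertible L) (s : Coh.structureModule X ⟶ L)
    {U : X.Opens} (hU : IsAffineOpen U) (h : CohB1.genLocus L s ≤ U) :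
    IsAffineOpen (CohB1.genLocus L s) := by
  have := isAffineOpen_inf_genLocus hL s hU
  rwa [inf_eq_right.mpr h] at this

end TMul
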