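import Groth.Agent.TMul.RelAmple
import Mathlib.AlgebraicGeometry.Morphisms.Separated

/-!
Operations on relatively ample modules: base change, composition, tensor products, inverse images.
-/

set_option autoImplicit false
set_option backward.isDefEq.respectTransparency false

universe u

open CategoryTheory CategoryTheory.Limits AlgebraicGeometry TopologicalSpace Opposite
open Groth.Agent.QC (res resO res_res res_smul resO_resO app_res)

noncomputable section

namespace TMul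

variable {X Y Z X' : Scheme.{u}} {L L' : X.Modules} {f : X ⟶ Y}

/-- The domain of an open immersion versus its range. -/
theorem isAmple_range_iff (j : Z ⟶ X) [IsOpenImmersion j] {U : X.Opens} (hU : j.opensRange = U) :
    CohB1.IsAmple (L.restrict U.ι) ↔ CohB1.IsAmple (L.restrict j) := by
  have hr : Set.range j.base = Set.range U.ι.base := by
    rw [Scheme.Opens.range_ι, ← hU]; rfl
  let e := IsOpenImmersion.isoOfRangeEq j U.ι hr
  constructor
  · intro h
    have := h.2.1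
    have : CompactSpace Z := (Scheme.homeoOfIso e).symm.compactSpace
    obtain ⟨i⟩ := nonempty_restrictRestrictIso U.ι e.hom j
      (IsOpenImmersion.isoOfRangeEq_hom_fac _ _ _) L
    exact isAmple_congr i (isAmple_restrict e.hom h)
  · intro h
    have := h.2.1
    have : CompactSpace (U : Scheme.{u}) := (Scheme.homeoOfIso e).compactSpace
    obtain ⟨i⟩ := nonempty_restrictRestrictIso j e.inv U.ι
      (IsOpenImmersion.isoOfRangeEq_inv_fac _ _ _) L
    exact isAmple_congr i (isAmple_restrict e.inv h)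

theorem isRelAmple_congr (e : L ≅ L') (h : RelAmple.IsRelAmple f L) : RelAmple.IsRelAmple f L' :=
  ⟨h.1, fun V => isAmple_congr ((Scheme.Modules.restrictFunctor _).mapIso e) (h.2 V)⟩

theorem isRelAmple_of_comp (g : Y ⟶ Z) [QuasiCompact f] (h : RelAmple.IsRelAmple (f ≫ g) L) :
    RelAmple.IsRelAmple f L := by
  refine isRelAmple_of_exists (isInvertible_of_isRelAmple h) fun y => ?_
  obtain ⟨W, hW, hyW, -⟩ := exists_isAffineOpen_mem_and_subset (x := g.base y) (U := ⊤) trivial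
  obtain ⟨V, hV, hyV, hVW⟩ := exists_isAffineOpen_mem_and_subset (x := y) (U := g ⁻¹ᵁ W) hyW
  exact ⟨V, hyV, isAmple_restrict_of_le (show f ⁻¹ᵁ V ≤ (f ≫ g) ⁻¹ᵁ W from fun x hx => hVW hx)
    (f.isCompact_preimage hV.isCompact) (h.2 ⟨W, hW⟩)⟩

theorem isRelAmple_baseChange [QuasiCompact f] (g : Z ⟶ Y) (h : RelAmple.IsRelAmple f L) :
    RelAmple.IsRelAmple (pullback.snd f g) ((Scheme.Modules.pullback (pullback.fst f g)).obj L) := by
  refine isRelAmple_of_exists (PicLoc.isInvertible_pullback _ (isInvertible_of_isRelAmple h))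
    fun z => ?_
  obtain ⟨W, hW, hzW, -⟩ := exists_isAffineOpen_mem_and_subset (x := g.base z) (U := ⊤) trivial
  obtain ⟨V, hV, hzV, hVW⟩ := exists_isAffineOpen_mem_and_subset (x := z) (U := g ⁻¹ᵁ W) hzW
  refine ⟨V, hzV, ?_⟩
  let p := pullback.fst f g
  let q := pullback.snd f g
  have hle : q ⁻¹ᵁ V ≤ p ⁻¹ᵁ (f ⁻¹ᵁ W) := fun x hx => by
    have h1 : g.base (q.base x) ∈ W := hVW hx
    change (p ≫ f).base x ∈ W
    rw [pullback.condition]
    exact h1
  let i : ((q ⁻¹ᵁ V : (pullback f g).Opens) : Scheme.{u}) ⟶ (f ⁻¹ᵁ W : X.Opens) :=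
    IsOpenImmersion.lift (f ⁻¹ᵁ W).ι ((q ⁻¹ᵁ V).ι ≫ p) (by
      rw [Scheme.Opens.range_ι]
      rintro _ ⟨x, rfl⟩
      exact hle x.2)
  have hi : i ≫ (f ⁻¹ᵁ W).ι = (q ⁻¹ᵁ V).ι ≫ p := IsOpenImmersion.lift_fac _ _ _
  have : IsAffineHom i := by
    have : IsAffine V.toScheme := hV
    have : IsAffine W.toScheme := hW
    let φ : (V : Scheme.{u}) ⟶ W := g.resLE W V hVW
    have hsq : IsPullback i (q ∣_ V) (f ∣_ W) φ := by
      refine IsPullback.of_right (t := (isPullback_morphismRestrict f W).flip) ?_ ?_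
      · rw [hi, show φ ≫ W.ι = V.ι ≫ g from Scheme.Hom.resLE_comp_ι _ _]
        exact (isPullback_morphismRestrict q V).flip.paste_horiz (IsPullback.of_hasPullback f g)
      · rw [← cancel_mono W.ι, Category.assoc, Category.assoc, morphismRestrict_ι, reassoc_of% hi,
          show φ ≫ W.ι = V.ι ≫ g from Scheme.Hom.resLE_comp_ι _ _, morphismRestrict_ι_assoc,
          pullback.condition]
    exact MorphismProperty.of_isPullback hsq.flip (isAffineHom_of_isAffine φ)
  refine isAmple_congr ?_ (isAmple_pullback_of_isAffineHom i (h.2 ⟨W, hW⟩))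
  exact (Scheme.Modules.pullback i).mapIso ((Scheme.Modules.restrictFunctorIsoPullback _).app L) ≪≫
    (Scheme.Modules.pullbackComp _ _).app L ≪≫ (Scheme.Modules.pullbackCongr hi).app L ≪≫
    ((Scheme.Modules.pullbackComp _ _).app L).symm ≪≫
    ((Scheme.Modules.restrictFunctorIsoPullback (q ⁻¹ᵁ V).ι).app _).symm

theorem isSeparated_of_isRelAmple (h : RelAmple.IsRelAmple f L) : IsSeparated f := by
  rw [HasAffineProperty.iff_of_iSup_eq_top (P := @IsSeparated) (fun V : Y.affineOpens => V)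
    (iSup_affineOpens_eq_top Y)]
  exact fun V => isSeparated_of_isAmple (h.2 V)

theorem isRelAmple_tensorMod (h : RelAmple.IsRelAmple f L) (h' : RelAmple.IsRelAmple f L') :
    RelAmple.IsRelAmple f (CohB1.tensorMod L L') := by
  refine ⟨h.1, fun V => ?_⟩
  obtain ⟨e⟩ := nonempty_restrictTensorIso (f ⁻¹ᵁ V.1).ι L L'
  refine isAmple_congr e (isAmple_tensorMod (h.2 V) (h'.2 V).1 fun x => ?_)
  obtain ⟨n, s, hx, -⟩ := (h'.2 V).2.2 x
  exact ⟨n, s, hx⟩

theorem isRelAmple_tensorPow_iff [QuasiCompact f] (hL : PicF.IsInvertible L) {n : ℕ} (hn : 0 < n) :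
    RelAmple.IsRelAmple f L ↔ RelAmple.IsRelAmple f (CohB1.tensorPow L n) := by
  constructor <;> intro h <;> refine ⟨inferInstance, fun V => ?_⟩ <;>
    obtain ⟨e⟩ := nonempty_restrictPowIso (f ⁻¹ᵁ V.1).ι L n
  · exact isAmple_congr e (isAmple_tensorPow (h.2 V) hn)
  · exact isAmple_of_tensorPow (isInvertible_restrict _ hL) hn (isAmple_congr e.symm (h.2 V))

theorem isRelAmple_id (hL : PicF.IsInvertible L) : RelAmple.IsRelAmple (𝟙 X) L := by
  refine ⟨inferInstance, fun V => ?_⟩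
  have : IsAffine ((𝟙 X : X ⟶ X) ⁻¹ᵁ V.1).toScheme := V.2
  exact isAmple_of_isQuasiAffine (isInvertible_restrict _ hL)

theorem isQuasiAffine_iff_isRelAmple [QuasiCompact f] :
    Mor2.IsQuasiAffine f ↔ RelAmple.IsRelAmple f (Coh.structureModule X) := by
  constructor
  · intro h
    refine ⟨inferInstance, fun V => ?_⟩
    have := h.2 V.1 V.2
    exact isAmple_of_isQuasiAffine (isInvertible_restrict _ isInvertible_structureModule)
  · intro h
    exact ⟨inferInstance, fun V hV => isQuasiAffine_of_isAmple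
      (isAmple_congr (Scheme.Modules.restrictUnitIso _) (h.2 ⟨V, hV⟩))⟩

/-- Inverse image along a morphism with quasi-affine preimages of affines. -/
theorem isAmple_pullback_of_isQuasiAffine (g : X' ⟶ X) (hg : Mor2.IsQuasiAffine g)
    (hL : CohB1.IsAmple L) : CohB1.IsAmple ((Scheme.Modules.pullback g).obj L) := by
  have := hL.2.1
  have := hg.1
  have : CompactSpace X' := QuasiCompact.compactSpace_of_compactSpace g
  have : IsSeparated g := by
    rw [HasAffineProperty.iff_of_iSup_eq_top (P := @IsSeparated) (fun V : X.affineOpens => V)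
      (iSup_affineOpens_eq_top X)]
    intro V
    have := hg.2 V.1 V.2
    infer_instance
  have := isSeparated_of_isAmple hL
  have : X'.IsSeparated := ⟨by rw [← terminal.comp_from g]; infer_instance⟩
  have hgL := PicLoc.isInvertible_pullback g hL.1
  refine ⟨hgL, inferInstance, fun x => ?_⟩
  obtain ⟨n, s, hxs, hs⟩ := hL.2.2 (g.base x)
  obtain ⟨t, ht⟩ := exists_pullback_section g hL.1 s
  have : (CohB1.genLocus _ t).toScheme.IsQuasiAffine := ht ▸ hg.2 _ hs
  obtain ⟨W, ⟨r, hr, rfl⟩, hxr, -⟩ := Opens.isBasis_iff_nbhd.mp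
    (Scheme.IsQuasiAffine.isBasis_basicOpen (CohB1.genLocus _ t).toScheme)
    (show (⟨x, ht.ge hxs⟩ : (CohB1.genLocus _ t).toScheme) ∈ (⊤ : Opens _) from trivial)
  let r' := (CohB1.genLocus _ t).topIso.hom r
  have hr' : (CohB1.genLocus _ t).ι ''ᵁ (CohB1.genLocus _ t).toScheme.basicOpen r = X'.basicOpen r' := by
    rw [Scheme.image_basicOpen]
    simp [r', Scheme.Opens.topIso]
    exact (X'.basicOpen_res_eq _ _).symm
  obtain ⟨k, t', ht'⟩ := exists_genLocus_eq_basicOpen (isInvertible_tensorPow hgL _) t r'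
  obtain ⟨e⟩ := nonempty_powMulIso ((Scheme.Modules.pullback g).obj L) (n + 1) (k + 1)
  let e' := e ≪≫ eqToIso (congrArg (CohB1.tensorPow _)
    (show (n + 1) * (k + 1) = n * k + n + k + 1 by ring))
  refine ⟨n * k + n + k, t' ≫ e'.hom, ?_⟩
  rw [genLocus_comp, ht', ← hr']
  exact ⟨⟨_, hxr, rfl⟩, hr.image_of_isOpenImmersion _⟩

theorem isRelAmple_pullback_of_isQuasiAffine [QuasiCompact f] (g : X' ⟶ X)
    (hg : Mor2.IsQuasiAffine g) (h : RelAmple.IsRelAmple f L) :
    RelAmple.IsRelAmple (g ≫ f) ((Scheme.Modules.pullback g).obj L) := by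
  have := hg.1
  refine ⟨inferInstance, fun V => ?_⟩
  have hg' : Mor2.IsQuasiAffine (g ∣_ (f ⁻¹ᵁ V.1)) := by
    refine ⟨inferInstance, fun W hW => ?_⟩
    have := hg.2 _ (hW.image_of_isOpenImmersion (f ⁻¹ᵁ V.1).ι)
    rw [← image_morphismRestrict_preimage] at this
    have : CompactSpace ((g ∣_ (f ⁻¹ᵁ V.1)) ⁻¹ᵁ W : (g ⁻¹ᵁ (f ⁻¹ᵁ V.1) : Scheme.{u}).Opens).toScheme :=
      isCompact_iff_compactSpace.mp ((g ∣_ (f ⁻¹ᵁ V.1)).isCompact_preimage hW.isCompact)
    exact Scheme.IsQuasiAffine.of_isImmersion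
      ((g ⁻¹ᵁ (f ⁻¹ᵁ V.1)).ι.isoImage ((g ∣_ (f ⁻¹ᵁ V.1)) ⁻¹ᵁ W)).hom
  exact isAmple_congr ((Groth.Agent.DerPerf.pullRestrictIso g (f ⁻¹ᵁ V.1)).app L).symm
    (isAmple_pullback_of_isQuasiAffine _ hg' (h.2 V))

theorem isRelAmple_pullback_of_isInducing [QuasiCompact f] (j : X' ⟶ X) [QuasiCompact j]
    (hj : Topology.IsInducing j.base) (h : RelAmple.IsRelAmple f L) :
    RelAmple.IsRelAmple (j ≫ f) ((Scheme.Modules.pullback j).obj L) := by
  refine ⟨inferInstance, fun V => ?_⟩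
  have := (h.2 V).2.1
  have : CompactSpace (j ⁻¹ᵁ (f ⁻¹ᵁ V.1) : Scheme.{u}) :=
    isCompact_iff_compactSpace.mp (show IsCompact ((j ⁻¹ᵁ (f ⁻¹ᵁ V.1) : X'.Opens) : Set X') from
      (j ≫ f).isCompact_preimage V.2.isCompact)
  have : CompactSpace ((j ≫ f) ⁻¹ᵁ V.1 : X'.Opens).toScheme := ‹CompactSpace (j ⁻¹ᵁ (f ⁻¹ᵁ V.1) : Scheme.{u})›
  refine isAmple_congr ((Groth.Agent.DerPerf.pullRestrictIso j (f ⁻¹ᵁ V.1)).app L).symm
    (isAmple_pullback _ ?_ (h.2 V))
  refine (f ⁻¹ᵁ V.1).ι.isOpenEmbedding.isInducing.of_comp_iff.mp ?_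
  have he : (f ⁻¹ᵁ V.1).ι.base ∘ (j ∣_ (f ⁻¹ᵁ V.1)).base =
      j.base ∘ (j ⁻¹ᵁ (f ⁻¹ᵁ V.1)).ι.base := funext fun x => by
    rw [Function.comp_apply, Function.comp_apply, ← Scheme.Hom.comp_apply, morphismRestrict_ι,
      Scheme.Hom.comp_apply]
  exact (congrArg Topology.IsInducing he).mpr (hj.comp (j ⁻¹ᵁ (f ⁻¹ᵁ V.1)).ι.isOpenEmbedding.isInducing)

end TMul
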