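import Groth.Agent.TMul.GlobGen
import Groth.Agent.TMul.RelAmpleOps

/-!
Ampleness along compositions.
-/

set_option autoImplicit false
set_option backward.isDefEq.respectTransparency false

universe u

open CategoryTheory CategoryTheory.Limits AlgebraicGeometry TopologicalSpace Opposite
open Groth.Agent.QC (res resO res_res res_smul resO_resO app_res)

noncomputable section

namespace TMul

variable {X Y Z : Scheme.{u}} {L M N : X.Modules}

/-- A section on the generating locus of `σ` extends with the same locus, twisted by high powers. -/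
theorem exists_genLocus_extend_pow [CompactSpace X] [QuasiSeparatedSpace X]
    (hM : PicF.IsInvertible M) (hN : PicF.IsInvertible N) (σ : Coh.structureModule X ⟶ N)
    {U : X.Opens} (hσ : CohB1.genLocus N σ = U)
    (s : Coh.structureModule (U : Scheme.{u}) ⟶ M.restrict U.ι) :
    ∃ k₀ : ℕ, ∀ k, k₀ ≤ k → ∃ t : Coh.structureModule X ⟶ CohB1.tensorMod M (CohB1.tensorPow N k),
      U.ι ''ᵁ CohB1.genLocus _ s = CohB1.genLocus _ t := by
  have : M.IsQuasicoherent := isQCoh_of_isInvertible hM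
  have hle : CohB1.genLocus _ σ ≤ U.ι ''ᵁ ⊤ := by
    rw [hσ, Scheme.Hom.image_top_eq_opensRange, Scheme.Opens.opensRange_ι]
  obtain ⟨k₀, hk₀⟩ := exists_twist_extends_ge (F := M) hN σ
    (res M hle (val s ⊤ : Γ(M, U.ι ''ᵁ ⊤)))
  refine ⟨k₀ + 1, fun k hk => ?_⟩
  obtain ⟨m, rfl⟩ : ∃ m, k = m + 1 := ⟨k - 1, by omega⟩
  obtain ⟨t', ht'⟩ := hk₀ m (by omega)
  refine ⟨SecTwist.tmulHom (homOf t') σ ≫ (assocIso M (CohB1.tensorPow N m) N).hom, ?_⟩
  refine Eq.trans ?_ (genLocus_comp (SecTwist.tmulHom (homOf t') σ)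
    (assocIso M (CohB1.tensorPow N m) N).hom).symm
  rw [genLocus_tmulHom (isInvertible_tensorMod hM (isInvertible_tensorPow hN m)) hN]
  have hgσ : ∀ {V : X.Opens} (_ : V ≤ CohB1.genLocus _ σ), IsGen (val σ V) := fun h =>
    res_val σ h ▸ (isGen_genLocus σ).res h
  have hval : ∀ {V : X.Opens} (h : V ≤ CohB1.genLocus _ σ), val (homOf t') V =
      tm (res M (h.trans hle) (val s ⊤ : Γ(M, U.ι ''ᵁ ⊤))) (pw (val σ V) m) := fun {V} h => by
    rw [val_homOf, ← res_res _ h le_top, ht', res_twist, twist_eq_tm σ (one_smul _ _).symm, one_pow,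
      one_smul, res_res]
  apply le_antisymm
  · rintro _ ⟨y, hy, rfl⟩
    obtain ⟨W, hyW, hW⟩ := (mem_genLocus_iff s).mp hy
    have hWσ : U.ι ''ᵁ W ≤ CohB1.genLocus _ σ := hσ.symm ▸ U.ι_image_le W
    have hy' : U.ι.base y ∈ U.ι ''ᵁ W := ⟨y, hyW, rfl⟩
    refine ⟨(mem_genLocus_iff _).mpr ⟨U.ι ''ᵁ W, hy', ?_⟩, hWσ hy'⟩
    rw [hval hWσ]
    exact isGen_tm ((isGen_restrict_iff U.ι s W).mp hW) (isGen_pw (hgσ hWσ) m)
  · rintro x ⟨hxt, hxσ⟩
    obtain ⟨W, hW, hxW, hg⟩ :=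
      exists_isGen_left hM (isGen_pw (hgσ le_rfl) m) _ (homOf t') (hval le_rfl) hxσ hxt
    have hx : x ∈ U := hσ.le hxσ
    refine ⟨⟨x, hx⟩, (mem_genLocus_iff s).mpr ⟨U.ι ⁻¹ᵁ W, hxW, ?_⟩, rfl⟩
    refine (isGen_restrict_iff U.ι s _).mpr ?_
    have hle' : U.ι ''ᵁ (U.ι ⁻¹ᵁ W) ≤ W := by rintro _ ⟨y, hy, rfl⟩; exact hy
    have h2 := hg.res hle'
    rwa [res_res, res_res] at h2

/-- The key step at a point. -/
theorem exists_section_tensor_pow [CompactSpace X] [QuasiSeparatedSpace X] (f : X ⟶ Y)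
    (hL : PicF.IsInvertible L) {K : Y.Modules} (hK : PicF.IsInvertible K) {a b : ℕ}
    (σ : Coh.structureModule Y ⟶ CohB1.tensorPow K (a + 1))
    (s : Coh.structureModule ((f ⁻¹ᵁ CohB1.genLocus _ σ : X.Opens) : Scheme.{u}) ⟶
      CohB1.tensorPow (L.restrict (f ⁻¹ᵁ CohB1.genLocus _ σ).ι) (b + 1)) :
    ∃ k₀ : ℕ, ∀ n, k₀ ≤ n → ∃ (c : ℕ) (t : Coh.structureModule X ⟶ CohB1.tensorPow
        (CohB1.tensorMod L ((Scheme.Modules.pullback f).obj (CohB1.tensorPow K n))) (c + 1)),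
      CohB1.genLocus _ t = (f ⁻¹ᵁ CohB1.genLocus _ σ).ι ''ᵁ CohB1.genLocus _ s := by
  let U := f ⁻¹ᵁ CohB1.genLocus _ σ
  let fK := (Scheme.Modules.pullback f).obj K
  have hfK : PicF.IsInvertible fK := PicLoc.isInvertible_pullback f hK
  obtain ⟨σ', hσ'⟩ := exists_pullback_section f hK σ
  obtain ⟨N, hN⟩ : ∃ N, N + 1 = (a + 1) * (b + 1) := ⟨a * b + a + b, by ring⟩
  obtain ⟨s', hs'⟩ := exists_genLocus_pow (isInvertible_restrict U.ι hL) (N := N)
    ⟨a + 1, by rw [hN, mul_comm]⟩ s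
  obtain ⟨e⟩ := nonempty_restrictPowIso U.ι L (N + 1)
  obtain ⟨k₀, hk₀⟩ := exists_genLocus_extend_pow (isInvertible_tensorPow hL (N + 1))
    (isInvertible_tensorPow hfK (a + 1)) σ' hσ' (s' ≫ e.hom)
  refine ⟨k₀, fun n hn => ?_⟩
  obtain ⟨t, ht⟩ := hk₀ (n * (b + 1)) (hn.trans (Nat.le_mul_of_pos_right n (Nat.succ_pos _)))
  obtain ⟨i₁⟩ := nonempty_powMulIso fK (a + 1) (n * (b + 1))
  obtain ⟨i₂⟩ := nonempty_powMulIso fK n (N + 1)
  obtain ⟨i₃⟩ := nonempty_pullPowIso f K n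
  obtain ⟨i₄⟩ := nonempty_powCongr i₃ (N + 1)
  obtain ⟨i₅⟩ := nonempty_powTensorIso L ((Scheme.Modules.pullback f).obj (CohB1.tensorPow K n)) (N + 1)
  let φ := PicGrp.tensorModIso (Iso.refl (CohB1.tensorPow L (N + 1)))
    (i₁ ≪≫ eqToIso (congrArg (CohB1.tensorPow fK)
      (show (a + 1) * (n * (b + 1)) = n * (N + 1) by rw [hN]; ring)) ≪≫ i₂.symm ≪≫ i₄) ≪≫ i₅.symm
  refine ⟨N, t ≫ φ.hom, ?_⟩
  rw [genLocus_comp, ← ht, genLocus_comp, hs']

/-- A relatively ample module twisted by high powers of an ample module of the base is ample. -/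
theorem exists_isAmple_tensor_pullback (f : X ⟶ Y) (hL : RelAmple.IsRelAmple f L) {K : Y.Modules}
    (hK : CohB1.IsAmple K) :
    ∃ n₀ : ℕ, ∀ n, n₀ ≤ n →
      CohB1.IsAmple (CohB1.tensorMod L ((Scheme.Modules.pullback f).obj (CohB1.tensorPow K n))) := by
  have := hL.1
  have := hK.2.1
  have := isSeparated_of_isRelAmple hL
  have := isSeparated_of_isAmple hK
  have : CompactSpace X := QuasiCompact.compactSpace_of_compactSpace f
  have : X.IsSeparated := ⟨by rw [← terminal.comp_from f]; infer_instance⟩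
  have hLi := isInvertible_of_isRelAmple hL
  choose a σ hxσ hσ using fun x : X => hK.2.2 (f.base x)
  choose b s hxs hs using fun x : X => (hL.2 ⟨_, hσ x⟩).2.2 ⟨x, hxσ x⟩
  choose k hk using fun x : X => exists_section_tensor_pow f hLi hK.1 (σ x) (s x)
  let O : X → X.Opens := fun x => (f ⁻¹ᵁ CohB1.genLocus _ (σ x)).ι ''ᵁ CohB1.genLocus _ (s x)
  obtain ⟨S, hS⟩ := isCompact_univ.elim_finite_subcover (fun x : X => (O x : Set X))
    (fun x => (O x).2) (fun x _ => Set.mem_iUnion.mpr ⟨x, ⟨_, hxs x, rfl⟩⟩)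
  refine ⟨S.sup k, fun n hn => ⟨isInvertible_tensorMod hLi
    (PicLoc.isInvertible_pullback f (isInvertible_tensorPow hK.1 n)), inferInstance, fun x => ?_⟩⟩
  obtain ⟨y, hy, hxy⟩ := Set.mem_iUnion₂.mp (hS (Set.mem_univ x))
  obtain ⟨c, t, ht⟩ := hk y n ((Finset.le_sup (f := k) hy).trans hn)
  exact ⟨c, t, ht.ge hxy, ht ▸ (hs y).image_of_isOpenImmersion _⟩

theorem isRelAmple_morphismRestrict {f : X ⟶ Y} (h : RelAmple.IsRelAmple f L) (U : Y.Opens) :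
    RelAmple.IsRelAmple (f ∣_ U) (L.restrict (f ⁻¹ᵁ U).ι) := by
  have := h.1
  refine ⟨inferInstance, fun V => ?_⟩
  have hr : (((f ∣_ U) ⁻¹ᵁ V.1).ι ≫ (f ⁻¹ᵁ U).ι).opensRange = f ⁻¹ᵁ (U.ι ''ᵁ V.1) := by
    rw [Scheme.Hom.opensRange_comp, Scheme.Opens.opensRange_ι]
    exact image_morphismRestrict_preimage f U V.1
  obtain ⟨e⟩ := nonempty_restrictRestrictIso (f ⁻¹ᵁ U).ι ((f ∣_ U) ⁻¹ᵁ V.1).ι _ rfl L
  exact isAmple_congr e.symm ((isAmple_range_iff _ hr).mp (h.2 ⟨_, V.2.image_of_isOpenImmersion U.ι⟩))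

/-- Composition, over a quasi-compact base. -/
theorem exists_isRelAmple_comp [CompactSpace Z] (f : X ⟶ Y) (g : Y ⟶ Z) {K : Y.Modules}
    (hL : RelAmple.IsRelAmple f L) (hK : RelAmple.IsRelAmple g K) :
    ∃ n₀ : ℕ, 0 < n₀ ∧ ∀ n, n₀ ≤ n → RelAmple.IsRelAmple (f ≫ g)
      (CohB1.tensorMod L ((Scheme.Modules.pullback f).obj (CohB1.tensorPow K n))) := by
  have := hL.1
  have := hK.1
  choose W hW hzW _ using fun z : Z => exists_isAffineOpen_mem_and_subset (x := z) (U := ⊤) trivial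
  obtain ⟨S, hS⟩ := isCompact_univ.elim_finite_subcover (fun z => (W z : Set Z))
    (fun z => (W z).2) (fun z _ => Set.mem_iUnion.mpr ⟨z, hzW z⟩)
  choose n₁ hn₁ using fun z : Z => exists_isAmple_tensor_pullback (f ∣_ (g ⁻¹ᵁ W z))
    (isRelAmple_morphismRestrict hL _) (hK.2 ⟨W z, hW z⟩)
  refine ⟨S.sup n₁ + 1, Nat.succ_pos _, fun n hn => isRelAmple_of_exists (isInvertible_tensorMod
    (isInvertible_of_isRelAmple hL)
    (PicLoc.isInvertible_pullback f (isInvertible_tensorPow (isInvertible_of_isRelAmple hK) n)))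
    fun z => ?_⟩
  obtain ⟨w, hw, hzw⟩ := Set.mem_iUnion₂.mp (hS (Set.mem_univ z))
  refine ⟨W w, hzw, ?_⟩
  obtain ⟨e₁⟩ := nonempty_restrictPowIso (g ⁻¹ᵁ W w).ι K n
  obtain ⟨e₂⟩ := nonempty_restrictTensorIso (f ⁻¹ᵁ (g ⁻¹ᵁ W w)).ι L
    ((Scheme.Modules.pullback f).obj (CohB1.tensorPow K n))
  exact isAmple_congr (PicGrp.tensorModIso (Iso.refl _)
    ((Scheme.Modules.pullback (f ∣_ (g ⁻¹ᵁ W w))).mapIso e₁ ≪≫
      ((Groth.Agent.DerPerf.pullRestrictIso f (g ⁻¹ᵁ W w)).app (CohB1.tensorPow K n)).symm) ≪≫ e₂)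
    (hn₁ w n ((Finset.le_sup (f := n₁) hw).trans ((Nat.le_succ _).trans hn)))

end TMul
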