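import Groth.Agent.TMul.GenLocus
import Groth.Agent.QC.Localisation

/-!
Powers of a section of an invertible module; twisting sections of quasi-coherent modules.
-/

set_option autoImplicit false
set_option backward.isDefEq.respectTransparency false

universe u

open CategoryTheory CategoryTheory.Limits AlgebraicGeometry TopologicalSpace Opposite
open Groth.Agent.QC (res resO res_res res_smul resO_resO res_self resO_self app_res)

noncomputable section

namespace TMul

variable {X : Scheme.{u}} {L F : X.Modules}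

/-- An invertible module has local generators. -/
lemma exists_isGen (hL : PicF.IsInvertible L) (x : X) :
    ∃ (U : X.Opens) (e : Γ(L, U)), x ∈ U ∧ IsGen e := by
  obtain ⟨U, hx, ⟨φ⟩⟩ := hL x
  let e : Γ(L, U.ι ''ᵁ ⊤) := φ.inv.app ⊤ (1 : Γ(U, ⊤))
  refine ⟨U.ι ''ᵁ ⊤, e, ⟨⟨x, hx⟩, trivial, rfl⟩, fun V hV => ?_⟩
  have key : ∀ W : (U : Scheme.{u}).Opens,
      Function.Bijective fun c : Γ(X, U.ι ''ᵁ W) => c • res L (U.ι.image_mono le_top) e := fun W => by
    have hb : Function.Bijective (φ.inv.app W) := ConcreteCategory.bijective_of_isIso (φ.inv.app W)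
    have hfun : (fun c : Γ(U, W) => φ.inv.app W c) = fun c : Γ(U, W) =>
        ((U.ι.appIso W).inv.hom c • res L (U.ι.image_mono le_top) e : Γ(L, U.ι ''ᵁ W)) := by
      funext c
      refine (app_eq_smul φ.inv c).trans ?_
      exact congrArg (fun w : Γ(L.restrict U.ι, W) => c • w)
        (res_val φ.inv (le_top : W ≤ ⊤)).symm
    replace hb : Function.Bijective fun c : Γ(U, W) => φ.inv.app W c := hb
    rw [hfun] at hb
    exact (Function.Bijective.of_comp_iff _
      (ConcreteCategory.bijective_of_isIso (U.ι.appIso W).inv)).mp hb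
  obtain ⟨W, rfl⟩ : ∃ W, U.ι ''ᵁ W = V := ⟨U.ι ⁻¹ᵁ V, by
    rw [Scheme.Hom.image_preimage_eq_opensRange_inf, inf_eq_right.mpr]
    exact hV.trans (U.ι.image_le_opensRange _)⟩
  exact key W

/-- Powers of a section over an open. -/
def pw {U : X.Opens} (e : Γ(L, U)) : (n : ℕ) → Γ(CohB1.tensorPow L n, U)
  | 0 => (1 : Γ(X, U))
  | n + 1 => tm (pw e n) e

lemma res_pw {U V : X.Opens} (h : V ≤ U) (e : Γ(L, U)) :
    ∀ n : ℕ, res (CohB1.tensorPow L n) h (pw e n) = pw (res L h e) n
  | 0 => map_one (resO X h)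
  | n + 1 => (res_tm (M := CohB1.tensorPow L n) (N := L) h (pw e n) e).trans
      (congrArg (fun q => tm q (res L h e)) (res_pw h e n))

lemma pw_smul {U : X.Opens} (c : Γ(X, U)) (e : Γ(L, U)) :
    ∀ n : ℕ, pw (c • e) n = c ^ n • pw e n
  | 0 => by rw [pow_zero, one_smul]; rfl
  | n + 1 => by
    change tm (pw (c • e) n) (c • e) = c ^ (n + 1) • tm (pw e n) e
    rw [pw_smul c e n, tm_smul, smul_tm, smul_smul, pow_succ']

lemma pow_eq_pw (s : Coh.structureModule X ⟶ L) (U : X.Opens) :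
    ∀ n : ℕ, SecTwist.pow s n U = pw (val s U) n
  | 0 => rfl
  | n + 1 => congrArg (fun q => tm q (val s U)) (pow_eq_pw s U n)

lemma isGen_pw {U : X.Opens} {e : Γ(L, U)} (he : IsGen e) : ∀ n : ℕ, IsGen (pw e n)
  | 0 => fun V hV => by
    have : (fun c : Γ(X, V) => c • res (Coh.structureModule X) hV (pw e 0)) = id := by
      funext c
      change HMul.hMul (α := Γ(X, V)) (β := Γ(X, V)) (γ := Γ(X, V)) c (resO X hV (1 : Γ(X, U))) = c
      rw [map_one, mul_one]
    exact this ▸ Function.bijective_id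
  | n + 1 => isGen_tm (isGen_pw he n) he

/-- `t ⊗ s ^ n`, as an element of `Γ(F ⊗ L^n, U)`. -/
def tw (s : Coh.structureModule X ⟶ L) (n : ℕ) (F : X.Modules) (U : X.Opens) (t : Γ(F, U)) :
    Γ(CohB1.tensorMod F (CohB1.tensorPow L n), U) :=
  SecTwist.twist s n F U t

/-- `t ⊗ s ^ n` in terms of a generator. -/
lemma twist_eq_tm (s : Coh.structureModule X ⟶ L) {U : X.Opens} {e : Γ(L, U)} {c : Γ(X, U)}
    (hc : val s U = c • e) (n : ℕ) (t : Γ(F, U)) :
    tw s n F U t = tm (c ^ n • t) (pw e n) := by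
  change tm t (SecTwist.pow s n U) = _
  rw [pow_eq_pw, hc, pw_smul, tm_smul, smul_tm]

lemma res_twist (s : Coh.structureModule X ⟶ L) (n : ℕ) {U V : X.Opens} (h : V ≤ U) (t : Γ(F, U)) :
    res (CohB1.tensorMod F (CohB1.tensorPow L n)) h (tw s n F U t) =
      tw s n F V (res F h t) :=
  SecTwist.map_twist s n F (homOfLE h) t

/-- `X_s` on a chart. -/
lemma genLocus_inf (s : Coh.structureModule X ⟶ L) {U : X.Opens} {e : Γ(L, U)} (he : IsGen e)
    {c : Γ(X, U)} (hc : val s U = c • e) :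
    U ⊓ CohB1.genLocus L s = X.basicOpen c := by
  apply le_antisymm
  · rintro x ⟨hxU, hxs⟩
    obtain ⟨V, hxV, hV⟩ := (mem_genLocus_iff s).mp hxs
    obtain ⟨d, hd⟩ := (hV (U ⊓ V) inf_le_right).2 (res L inf_le_left e)
    simp only [res_val, ← res_val s (inf_le_left : U ⊓ V ≤ U), hc, res_smul, smul_smul] at hd
    have hu : d * resO X inf_le_left c = 1 :=
      (he (U ⊓ V) inf_le_left).1 (hd.trans (one_smul _ _).symm)
    have h1 : X.basicOpen (resO X (inf_le_left : U ⊓ V ≤ U) c) = U ⊓ V :=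
      X.basicOpen_of_isUnit (IsUnit.of_mul_eq_one_right _ hu)
    exact Groth.Agent.QC.basicOpen_resO_le inf_le_left c (h1.ge ⟨hxU, hxV⟩)
  · refine le_inf (X.basicOpen_le c) (le_genLocus s fun W hW => ?_)
    have hu : IsUnit (resO X (hW.trans (X.basicOpen_le c)) c) := by
      rw [← resO_resO hW (X.basicOpen_le c)]
      exact (RingedSpace.isUnit_res_basicOpen _ c).map _
    obtain ⟨v, hv⟩ := hu
    have hfun : (fun d : Γ(X, W) => d • res L hW (val s (X.basicOpen c))) =
        (fun d : Γ(X, W) => d • res L (hW.trans (X.basicOpen_le c)) e) ∘ fun d => d * (v : Γ(X, W)) := by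
      funext d
      rw [Function.comp_apply, res_val, ← res_val s (hW.trans (X.basicOpen_le c)), hc, res_smul,
        hv, smul_smul]
    rw [hfun]
    exact (he W _).comp v.mulRight.bijective

/-- Affine charts with generators. -/
lemma exists_charts [CompactSpace X] (hL : PicF.IsInvertible L) (s : Coh.structureModule X ⟶ L) :
    ∃ (ι : Type u) (_ : Fintype ι) (U : ι → X.Opens) (e : ∀ i, Γ(L, U i)) (c : ∀ i, Γ(X, U i)),
      (∀ i, IsAffineOpen (U i)) ∧ (∀ x, ∃ i, x ∈ U i) ∧ (∀ i, IsGen (e i)) ∧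
      (∀ i, val s (U i) = c i • e i) := by
  choose V e hx he using fun x : X => exists_isGen hL x
  choose W hW hxW hWV using fun x : X => X.isBasis_affineOpens.exists_subset_of_mem_open (hx x) (V x).2
  obtain ⟨F, hF⟩ := isCompact_univ.elim_finite_subcover (fun x => W x)
    (fun x => X.isBasis_affineOpens.isOpen (hW x)) (fun x _ => Set.mem_iUnion.mpr ⟨x, hxW x⟩)
  choose U hU hUW using fun x : X => hW x
  have hUV : ∀ x, U x ≤ V x := fun x y hy => hWV x (hUW x ▸ hy)
  let e' : ∀ x, Γ(L, U x) := fun x => res L (hUV x) (e x)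
  have he' : ∀ x, IsGen (e' x) := fun x => (he x).res (hUV x)
  choose c hc using fun x : X => (he' x (U x) le_rfl).2 (val s (U x))
  refine ⟨{x // x ∈ F}, inferInstance, fun i => U i.1, fun i => e' i.1, fun i => c i.1,
    fun i => hU i.1, fun x => ?_, fun i => he' i.1, fun i => ?_⟩
  · obtain ⟨y, hyF, hxy⟩ := Set.mem_iUnion₂.mp (hF (Set.mem_univ x))
    exact ⟨⟨y, hyF⟩, show x ∈ (U y : Set X) from (hUW y).symm ▸ hxy⟩
  · rw [← hc i.1, res_self]

theorem exists_twist_eq_zero [CompactSpace X] [hF : F.IsQuasicoherent] (hL : PicF.IsInvertible L)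
    (s : Coh.structureModule X ⟶ L) (t : Γ(F, ⊤))
    (ht : res F (le_top : CohB1.genLocus L s ≤ ⊤) t = 0) :
    ∃ n : ℕ, 0 < n ∧ tw s n F ⊤ t = 0 := by
  obtain ⟨ι, hι, U, e, c, hU, hcov, he, hc⟩ := exists_charts hL s
  have hn : ∀ i, ∃ n : ℕ, c i ^ n • res F (le_top : U i ≤ ⊤) t = 0 := fun i => by
    refine (Groth.Agent.QC.isLoc_of_isQCoh (hU i) (M := F)).exists_pow_smul_eq_zero _ _ ?_
    rw [res_res, ← res_res F ((genLocus_inf s (he i) (hc i)).ge.trans inf_le_right) le_top, ht,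
      map_zero]
  choose n hn using hn
  refine ⟨Finset.univ.sup n + 1, Nat.succ_pos _, Groth.Agent.QC.section_eq_of_locally fun x _ => ?_⟩
  obtain ⟨i, hi⟩ := hcov x
  refine ⟨U i, le_top, hi, ?_⟩
  rw [res_twist, map_zero, twist_eq_tm s (hc i)]
  obtain ⟨k, hk⟩ := Nat.exists_eq_add_of_le
    (show n i ≤ Finset.univ.sup n + 1 from
      (Finset.le_sup (f := n) (Finset.mem_univ i)).trans (Nat.le_succ _))
  rw [hk, pow_add, mul_comm, mul_smul, hn i, smul_zero, zero_tm]

theorem exists_twist_extends [CompactSpace X] [QuasiSeparatedSpace X] [hF : F.IsQuasicoherent]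
    (hL : PicF.IsInvertible L) (s : Coh.structureModule X ⟶ L) (t : Γ(F, CohB1.genLocus L s)) :
    ∃ n : ℕ, 0 < n ∧ ∃ t' : Γ(CohB1.tensorMod F (CohB1.tensorPow L n), ⊤),
      res _ (le_top : CohB1.genLocus L s ≤ ⊤) t' =
        tw s n F (CohB1.genLocus L s) t := by
  obtain ⟨ι, hι, U, e, c, hU, hcov, he, hc⟩ := exists_charts hL s
  have hb : ∀ i, X.basicOpen (c i) ≤ CohB1.genLocus L s := fun i =>
    (genLocus_inf s (he i) (hc i)).ge.trans inf_le_right
  choose n a ha using fun i => (Groth.Agent.QC.isLoc_of_isQCoh (hU i) (M := F)).exists_extend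
    (c i) (res F (hb i) t)
  let N := Finset.univ.sup n + 1
  obtain ⟨b, hbt⟩ : ∃ b : ∀ i, Γ(F, U i), ∀ i (V : X.Opens) (hV : V ≤ U i)
      (hVs : V ≤ CohB1.genLocus L s), res F hV (b i) = resO X hV (c i) ^ N • res F hVs t := by
    refine ⟨fun i => c i ^ (N - n i) • a i, fun i V hV hVs => ?_⟩
    have hVc : V ≤ X.basicOpen (c i) := (le_inf hV hVs).trans (genLocus_inf s (he i) (hc i)).le
    have h2 := congrArg (res F hVc) (ha i)
    rw [res_res, res_smul, map_pow, resO_resO, res_res] at h2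
    rw [res_smul, map_pow, h2, smul_smul, ← pow_add,
      Nat.sub_add_cancel ((Finset.le_sup (f := n) (Finset.mem_univ i)).trans (Nat.le_succ _))]
  have hov : ∀ i j, ∃ (u : Γ(X, U i ⊓ U j)) (k : ℕ),
      res L (inf_le_right : U i ⊓ U j ≤ U j) (e j) = u • res L (inf_le_left : U i ⊓ U j ≤ U i) (e i) ∧
      u * resO X (inf_le_right : U i ⊓ U j ≤ U j) (c j) = resO X (inf_le_left : U i ⊓ U j ≤ U i) (c i) ∧
      resO X (inf_le_left : U i ⊓ U j ≤ U i) (c i) ^ k •
        (res F (inf_le_left : U i ⊓ U j ≤ U i) (b i) -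
          u ^ N • res F (inf_le_right : U i ⊓ U j ≤ U j) (b j)) = 0 := by
    intro i j
    obtain ⟨u, hu⟩ := (he i (U i ⊓ U j) inf_le_left).2 (res L inf_le_right (e j))
    have huc : u * resO X inf_le_right (c j) = resO X inf_le_left (c i) := by
      refine (he i (U i ⊓ U j) inf_le_left).1 ?_
      change (u * _) • res L inf_le_left (e i) = _ • res L inf_le_left (e i)
      rw [mul_comm, mul_smul, show u • res L inf_le_left (e i) = _ from hu, ← res_smul, ← res_smul,
        ← hc, ← hc, res_val, res_val]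
    have hcpt : IsCompact ((U i ⊓ U j : X.Opens) : Set X) :=
      QuasiSeparatedSpace.inter_isCompact _ _ (U i).2 (hU i).isCompact (U j).2 (hU j).isCompact
    obtain ⟨k, hk⟩ := Groth.Agent.QC.exists_pow_smul_eq_zero_of_isCompact hcpt
      (resO X inf_le_left (c i)) (res F inf_le_left (b i) - u ^ N • res F inf_le_right (b j)) (by
        have hW1 : X.basicOpen (resO X (inf_le_left : U i ⊓ U j ≤ U i) (c i)) ≤ U i ⊓ U j :=
          X.basicOpen_le _
        have hW2 := (Groth.Agent.QC.basicOpen_resO_le (inf_le_left : U i ⊓ U j ≤ U i) (c i)).trans (hb i)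
        rw [map_sub, res_smul, res_res, res_res, hbt i _ _ hW2, hbt j _ _ hW2, smul_smul, map_pow,
          ← mul_pow, ← resO_resO hW1 inf_le_right, ← map_mul, huc, resO_resO, sub_self])
    exact ⟨u, k, hu.symm, huc, hk⟩
  choose u k hue huc hk using hov
  let K := Finset.univ.sup fun p : ι × ι => k p.1 p.2
  let σ : ∀ i, Γ(CohB1.tensorMod F (CohB1.tensorPow L (N + K)), U i) := fun i =>
    tm (c i ^ K • b i) (pw (e i) (N + K))
  obtain ⟨t', ht', -⟩ := TopCat.Sheaf.existsUnique_gluing'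
    (Groth.Agent.QC.abSheaf (CohB1.tensorMod F (CohB1.tensorPow L (N + K)))) U ⊤
    (fun i => homOfLE le_top) (fun x _ => Opens.mem_iSup.mpr (hcov x)) σ (fun i j => by
      change res _ (inf_le_left : U i ⊓ U j ≤ U i) (tm _ _) =
        res _ (inf_le_right : U i ⊓ U j ≤ U j) (tm _ _)
      rw [res_tm, res_tm, res_pw, res_pw, hue, pw_smul, tm_smul, ← smul_tm, res_smul, res_smul,
        smul_smul, map_pow, map_pow]
      congr 1
      have h0 : resO X (inf_le_left : U i ⊓ U j ≤ U i) (c i) ^ K •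
          (res F (inf_le_left : U i ⊓ U j ≤ U i) (b i) -
            u i j ^ N • res F (inf_le_right : U i ⊓ U j ≤ U j) (b j)) = 0 := by
        obtain ⟨l, hl⟩ := Nat.exists_eq_add_of_le (Finset.le_sup
          (f := fun p : ι × ι => k p.1 p.2) (Finset.mem_univ (i, j)))
        rw [show K = k i j + l from hl, pow_add, mul_comm, mul_smul, hk, smul_zero]
      rw [smul_sub, sub_eq_zero, smul_smul] at h0
      refine h0.trans ?_
      rw [← huc]
      congr 1
      ring)
  refine ⟨N + K, Nat.add_pos_left (Nat.succ_pos _) _, t',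
    Groth.Agent.QC.section_eq_of_locally fun x hx => ?_⟩
  obtain ⟨i, hi⟩ := hcov x
  refine ⟨U i ⊓ CohB1.genLocus L s, inf_le_right, ⟨hi, hx⟩, ?_⟩
  have hti : res _ (le_top : U i ≤ ⊤) t' = σ i := ht' i
  rw [res_res, ← res_res _ (inf_le_left : U i ⊓ CohB1.genLocus L s ≤ U i) le_top, hti, res_twist,
    twist_eq_tm s (e := res L inf_le_left (e i)) (c := resO X inf_le_left (c i))
      (by rw [← res_smul, ← hc, res_val]), res_tm, res_pw, res_smul, hbt i _ inf_le_left inf_le_right,
    smul_smul, map_pow, ← pow_add, add_comm]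

end TMul
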