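import Groth.Prelude.Def_SecTwist
import Groth.Agent.InvGen.Basic
import Mathlib.CategoryTheory.Sites.LocallyBijective
import Mathlib.Topology.Sheaves.LocallySurjective

/-!
Sections of tensor products of modules on a scheme: bilinearity, universal property,
tensor with a module having a local generator.
-/

set_option autoImplicit false
set_option backward.isDefEq.respectTransparency false

universe u

open CategoryTheory AlgebraicGeometry TopologicalSpace Opposite
open Groth.Agent.QC (res resO res_res res_smul resO_resO app_res)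
open scoped TensorProduct

noncomputable section

namespace TMul

variable {X : Scheme.{u}} {M N P : X.Modules}

/-- The section of `M ⊗ N` given by a tensor. -/
def tt (M N : X.Modules) (U : X.Opens) : Γ(M, U) ⊗[Γ(X, U)] Γ(N, U) →+ Γ(CohB1.tensorMod M N, U) where
  toFun p := ((SecTwist.toTensor M N).app (op U)).hom p
  map_zero' := map_zero ((SecTwist.toTensor M N).app (op U)).hom
  map_add' p q := map_add ((SecTwist.toTensor M N).app (op U)).hom p q

/-- Restriction of tensors. -/
def resT (M N : X.Modules) {V U : X.Opens} (h : V ≤ U) :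
    Γ(M, U) ⊗[Γ(X, U)] Γ(N, U) →+ Γ(M, V) ⊗[Γ(X, V)] Γ(N, V) where
  toFun p := ((CohB1.tensorPre M N).map (homOfLE h).op).hom p
  map_zero' := map_zero ((CohB1.tensorPre M N).map (homOfLE h).op).hom
  map_add' p q := map_add ((CohB1.tensorPre M N).map (homOfLE h).op).hom p q

lemma resT_tmul {V U : X.Opens} (h : V ≤ U) (m : Γ(M, U)) (n : Γ(N, U)) :
    resT M N h (m ⊗ₜ n) = res M h m ⊗ₜ res N h n := rfl

lemma res_tt {V U : X.Opens} (h : V ≤ U) (p : Γ(M, U) ⊗[Γ(X, U)] Γ(N, U)) :
    res (CohB1.tensorMod M N) h (tt M N U p) = tt M N V (resT M N h p) :=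
  (PresheafOfModules.naturality_apply (SecTwist.toTensor M N) (homOfLE h).op p).symm

/-- `tmul`, with sections as `Γ(M, U)`. -/
def tm {U : X.Opens} (m : Γ(M, U)) (n : Γ(N, U)) : Γ(CohB1.tensorMod M N, U) :=
  SecTwist.tmul M N U m n

lemma tt_tmul {U : X.Opens} (m : Γ(M, U)) (n : Γ(N, U)) : tt M N U (m ⊗ₜ n) = tm m n := rfl

lemma tt_smul {U : X.Opens} (r : Γ(X, U)) (p : Γ(M, U) ⊗[Γ(X, U)] Γ(N, U)) :
    tt M N U (r • p) = r • tt M N U p :=
  ((SecTwist.toTensor M N).app (op U)).hom.map_smul r p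

lemma res_tm {V U : X.Opens} (h : V ≤ U) (m : Γ(M, U)) (n : Γ(N, U)) :
    res (CohB1.tensorMod M N) h (tm m n) = tm (res M h m) (res N h n) := by
  rw [← tt_tmul, res_tt, resT_tmul, tt_tmul]

lemma tm_add {U : X.Opens} (m m' : Γ(M, U)) (n : Γ(N, U)) : tm (m + m') n = tm m n + tm m' n := by
  rw [← tt_tmul, TensorProduct.add_tmul, map_add, tt_tmul, tt_tmul]

lemma add_tm {U : X.Opens} (m : Γ(M, U)) (n n' : Γ(N, U)) : tm m (n + n') = tm m n + tm m n' := by
  rw [← tt_tmul, TensorProduct.tmul_add, map_add, tt_tmul, tt_tmul]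

lemma zero_tm {U : X.Opens} (n : Γ(N, U)) : tm (0 : Γ(M, U)) n = 0 := by
  rw [← tt_tmul, TensorProduct.zero_tmul, map_zero]

lemma sub_tm {U : X.Opens} (m m' : Γ(M, U)) (n : Γ(N, U)) : tm (m - m') n = tm m n - tm m' n := by
  rw [← tt_tmul, TensorProduct.sub_tmul, map_sub, tt_tmul, tt_tmul]

lemma smul_tm {U : X.Opens} (r : Γ(X, U)) (m : Γ(M, U)) (n : Γ(N, U)) :
    tm (r • m) n = r • tm m n := by
  rw [← tt_tmul, ← TensorProduct.smul_tmul', tt_smul, tt_tmul]

lemma tm_smul {U : X.Opens} (r : Γ(X, U)) (m : Γ(M, U)) (n : Γ(N, U)) :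
    tm m (r • n) = r • tm m n := by
  rw [← tt_tmul, TensorProduct.tmul_smul, tt_smul, tt_tmul]

lemma toPresheaf_toTensor (M N : X.Modules) :
    (PresheafOfModules.toPresheaf _).map (SecTwist.toTensor M N) =
      CategoryTheory.toSheafify (Opens.grothendieckTopology X) _ :=
  PresheafOfModules.toPresheaf_map_sheafificationAdjunction_unit_app.{u, u, u, u}
    (J := Opens.grothendieckTopology X) (𝟙 X.ringCatSheaf.obj) _

/-- Sections are locally given by tensors. -/
lemma exists_tt {U : X.Opens} (s : Γ(CohB1.tensorMod M N, U)) {x : X} (hx : x ∈ U) :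
    ∃ (V : X.Opens) (h : V ≤ U) (p : Γ(M, V) ⊗[Γ(X, V)] Γ(N, V)),
      x ∈ V ∧ tt M N V p = res (CohB1.tensorMod M N) h s := by
  haveI : Presheaf.IsLocallySurjective (Opens.grothendieckTopology X)
      ((PresheafOfModules.toPresheaf _).map (SecTwist.toTensor M N)) := by
    rw [toPresheaf_toTensor]; infer_instance
  obtain ⟨V, i, ⟨p, hp⟩, hxV⟩ := Presheaf.imageSieve_mem (Opens.grothendieckTopology X)
    ((PresheafOfModules.toPresheaf _).map (SecTwist.toTensor M N)) (U := op U) s x hx
  exact ⟨V, leOfHom i, p, hxV, hp⟩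

/-- Tensors with the same section are locally equal. -/
lemma exists_resT_eq {U : X.Opens} {p q : Γ(M, U) ⊗[Γ(X, U)] Γ(N, U)}
    (h : tt M N U p = tt M N U q) {x : X} (hx : x ∈ U) :
    ∃ (V : X.Opens) (hV : V ≤ U), x ∈ V ∧ resT M N hV p = resT M N hV q := by
  haveI : Presheaf.IsLocallyInjective (Opens.grothendieckTopology X)
      ((PresheafOfModules.toPresheaf _).map (SecTwist.toTensor M N)) := by
    rw [toPresheaf_toTensor]; infer_instance
  obtain ⟨V, i, hi, hxV⟩ := Presheaf.equalizerSieve_mem (Opens.grothendieckTopology X)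
    ((PresheafOfModules.toPresheaf _).map (SecTwist.toTensor M N)) (X := op U) p q h x hx
  exact ⟨V, leOfHom i, hxV, hi⟩

/-- A section of `N` generating freely below `U`. -/
def IsGen {U : X.Opens} (e : Γ(N, U)) : Prop :=
  ∀ (V : X.Opens) (hV : V ≤ U), Function.Bijective fun c : Γ(X, V) => c • res N hV e

/-- Coefficient with respect to a generator. -/
def coeffEquiv {U : X.Opens} {e : Γ(N, U)} (he : IsGen e) {V : X.Opens} (hV : V ≤ U) :
    Γ(X, V) ≃ₗ[Γ(X, V)] Γ(N, V) :=
  LinearEquiv.ofBijective (LinearMap.toSpanSingleton Γ(X, V) Γ(N, V) (res N hV e)) (he V hV)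

/-- Tensor with a generator is an isomorphism on sections. -/
theorem tm_bijective {U : X.Opens} {e : Γ(N, U)} (he : IsGen e) (V : X.Opens) (hV : V ≤ U) :
    Function.Bijective fun m : Γ(M, V) => tm m (res N hV e) := by
  have pure : ∀ (W : X.Opens) (hW : W ≤ U) (p : Γ(M, W) ⊗[Γ(X, W)] Γ(N, W)),
      ∃ m, p = m ⊗ₜ res N hW e := fun W hW p => by
    induction p using TensorProduct.induction_on with
    | zero => exact ⟨0, (TensorProduct.zero_tmul _ _).symm⟩
    | tmul m n =>
      obtain ⟨c, rfl⟩ := (he W hW).2 n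
      exact ⟨c • m, TensorProduct.tmul_smul c m _⟩
    | add p q hp hq =>
      obtain ⟨m, rfl⟩ := hp
      obtain ⟨m', rfl⟩ := hq
      exact ⟨m + m', (TensorProduct.add_tmul _ _ _).symm⟩
  have inj : ∀ (W : X.Opens) (hW : W ≤ U),
      Function.Injective fun m : Γ(M, W) => tm m (res N hW e) := fun W hW m m' h => by
    refine Groth.Agent.QC.section_eq_of_locally fun x hx => ?_
    obtain ⟨V', hV', hxV', hp⟩ := exists_resT_eq (M := M) (N := N)
      (p := m ⊗ₜ res N hW e) (q := m' ⊗ₜ res N hW e) h hx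
    refine ⟨V', hV', hxV', ?_⟩
    rw [resT_tmul, resT_tmul, res_res] at hp
    let ψ : Γ(M, V') ⊗[Γ(X, V')] Γ(N, V') →ₗ[Γ(X, V')] Γ(M, V') :=
      TensorProduct.lift (LinearMap.mk₂ _ (fun a n => (coeffEquiv he (hV'.trans hW)).symm n • a)
        (fun a b n => smul_add _ a b) (fun r a n => smul_comm _ r a)
        (fun a n n' => by rw [map_add, add_smul])
        (fun r a n => by rw [map_smul, smul_eq_mul, mul_smul]))
    have h1 : (coeffEquiv he (hV'.trans hW)).symm (res N (hV'.trans hW) e) = 1 :=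
      (LinearEquiv.symm_apply_eq _).mpr (one_smul _ _).symm
    have := congrArg ψ hp
    simpa [ψ, h1] using this
  refine ⟨inj V hV, fun s => ?_⟩
  choose W hW p hxW hp using fun x : V => exists_tt s x.2
  choose m hm using fun x : V => pure (W x) ((hW x).trans hV) (p x)
  obtain ⟨a, ha, -⟩ := TopCat.Sheaf.existsUnique_gluing' (Groth.Agent.QC.abSheaf M) W V
    (fun x => homOfLE (hW x)) (fun x hx => Opens.mem_iSup.mpr ⟨⟨x, hx⟩, hxW _⟩) m (fun x y => by
      have key : ∀ (W' : X.Opens) (h1 : W' ≤ W x) (h2 : W' ≤ W y),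
          res M h1 (m x) = res M h2 (m y) := fun W' h1 h2 => by
        apply inj W' ((h1.trans (hW x)).trans hV)
        have e1 := congrArg (res (CohB1.tensorMod M N) h1) (hp x)
        have e2 := congrArg (res (CohB1.tensorMod M N) h2) (hp y)
        rw [hm, tt_tmul, res_tm, res_res, res_res] at e1 e2
        exact e1.trans e2.symm
      exact key _ inf_le_left inf_le_right)
  refine ⟨a, Groth.Agent.QC.section_eq_of_locally fun x hx =>
    ⟨W ⟨x, hx⟩, hW _, hxW _, ?_⟩⟩
  have h2 : res M (hW ⟨x, hx⟩) a = m ⟨x, hx⟩ := ha ⟨x, hx⟩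
  change res _ _ (tm a (res N hV e)) = _
  rw [res_tm, res_res, h2, ← tt_tmul, ← hm, hp]

/-- A tensor product of generators is a generator. -/
theorem isGen_tm {U : X.Opens} {a : Γ(M, U)} {b : Γ(N, U)} (ha : IsGen a) (hb : IsGen b) :
    IsGen (tm a b) := fun V hV => by
  have : (fun c : Γ(X, V) => c • res (CohB1.tensorMod M N) hV (tm a b)) =
      (fun m => tm m (res N hV b)) ∘ fun c : Γ(X, V) => c • res M hV a := by
    funext c
    rw [Function.comp_apply, res_tm, smul_tm]
  rw [this]
  exact (tm_bijective hb V hV).comp (ha V hV)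

lemma IsGen.res {U V : X.Opens} {e : Γ(N, U)} (he : IsGen e) (h : V ≤ U) :
    IsGen (Groth.Agent.QC.res N h e) := fun W hW => by
  rw [show (fun c : Γ(X, W) => c • Groth.Agent.QC.res N hW (Groth.Agent.QC.res N h e)) =
    fun c : Γ(X, W) => c • Groth.Agent.QC.res N (hW.trans h) e from funext fun c => by rw [res_res]]
  exact he W (hW.trans h)

/-- The morphism out of `M ⊗ N` given by compatible bilinear maps. -/
def lift (B : ∀ U : X.Opens, Γ(M, U) →ₗ[Γ(X, U)] Γ(N, U) →ₗ[Γ(X, U)] Γ(P, U))
    (hB : ∀ {V U : X.Opens} (h : V ≤ U) (m : Γ(M, U)) (n : Γ(N, U)),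
      res P h (B U m n) = B V (res M h m) (res N h n)) :
    CohB1.tensorMod M N ⟶ P :=
  ((PresheafOfModules.sheafificationAdjunction.{u, u, u, u}
    (J := Opens.grothendieckTopology X) (𝟙 X.ringCatSheaf.obj)).homEquiv _ _).symm
    (PresheafOfModules.homMk
      { app := fun U => AddCommGrpCat.ofHom
          (TensorProduct.lift (B U.unop)).toAddMonoidHom
        naturality := fun U V h => by
          ext p
          suffices key : ∀ p : Γ(M, U.unop) ⊗[Γ(X, U.unop)] Γ(N, U.unop),
              TensorProduct.lift (B V.unop) (resT M N (leOfHom h.unop) p) =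
                res P (leOfHom h.unop) (TensorProduct.lift (B U.unop) p) from key p
          intro p
          induction p using TensorProduct.induction_on with
          | zero => simp
          | tmul m n => rw [resT_tmul, TensorProduct.lift.tmul, TensorProduct.lift.tmul, hB]
          | add p q hp hq => simp only [map_add, hp, hq] }
      fun U r p => (TensorProduct.lift (B U.unop)).map_smul r p)

lemma lift_tm (B : ∀ U : X.Opens, Γ(M, U) →ₗ[Γ(X, U)] Γ(N, U) →ₗ[Γ(X, U)] Γ(P, U))
    (hB : ∀ {V U : X.Opens} (h : V ≤ U) (m : Γ(M, U)) (n : Γ(N, U)),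
      res P h (B U m n) = B V (res M h m) (res N h n))
    {U : X.Opens} (m : Γ(M, U)) (n : Γ(N, U)) :
    (lift B hB).app U (tm m n) = B U m n := by
  let adj := PresheafOfModules.sheafificationAdjunction.{u, u, u, u}
    (J := Opens.grothendieckTopology X) (𝟙 X.ringCatSheaf.obj)
  have h := adj.homEquiv_unit (f := lift B hB)
  rw [lift, Equiv.apply_symm_apply] at h
  let p : Γ(M, U) ⊗[Γ(X, U)] Γ(N, U) := m ⊗ₜ n
  exact (congrArg (fun φ => (PresheafOfModules.Hom.app φ (op U)).hom p) h).symm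

end TMul
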