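import Groth.Agent.TMul.CounitGen
import Groth.Agent.TMul.GlobGen
import Groth.Agent.QC.FTIdeal

/-!
Ampleness from generation of twisted ideals.
-/

set_option autoImplicit false
set_option backward.isDefEq.respectTransparency false

universe u

open CategoryTheory CategoryTheory.Limits AlgebraicGeometry TopologicalSpace Opposite
open Groth.Agent.KFlat (pgerm pgerm_res pgerm_smul exists_pgerm sky toSky)
open Groth.Agent.QC (res resO res_res res_smul resO_resO app_res)

noncomputable section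

namespace TMul

variable {X : Scheme.{u}} {G : X.Modules}

/-- Out of an epimorphism from a free module some component generates near a point with a generator. -/
theorem exists_isGen_of_epi_free {κ : Type*} [HasCoproduct fun _ : κ => Coh.structureModule X]
    (p : (∐ fun _ : κ => Coh.structureModule X) ⟶ G) [Epi p]
    {V : X.Opens} {g : Γ(G, V)} (hg : IsGen g) {x : X} (hxV : x ∈ V) :
    ∃ (t : Γ(G, ⊤)) (W : X.Opens), x ∈ W ∧ W ≤ V ∧ IsGen (res G (le_top : W ≤ ⊤) t) := by
  by_contra hn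
  push Not at hn
  let R := X.presheaf.stalk x
  let P : ModuleCat.{u} R := ModuleCat.of R
    ((DerSch.stalkFunctor X x).obj G ⧸ ((IsLocalRing.maximalIdeal R) • ⊤ :
      Submodule R ((DerSch.stalkFunctor X x).obj G)))
  let φ : (DerSch.stalkFunctor X x).obj G ⟶ P := ModuleCat.ofHom (Submodule.mkQ _)
  have hzero : ∀ t : Γ(G, ⊤), φ.hom (gm G (show x ∈ (⊤ : X.Opens) from trivial) t) = 0 := by
    intro t
    refine (Submodule.Quotient.mk_eq_zero _).mpr ?_
    obtain ⟨c, hc⟩ := (hg V le_rfl).2 (res G le_top t)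
    simp only [Groth.Agent.QC.res_self] at hc
    rw [← gm_res (le_top : V ≤ ⊤) hxV, ← hc, gm_smul]
    refine Submodule.smul_mem_smul (fun hu => ?_) trivial
    refine hn t (X.basicOpen c) ((X.mem_basicOpen c x hxV).mpr hu) (X.basicOpen_le c) ?_
    rw [← res_res G (X.basicOpen_le c) le_top, ← hc, res_smul]
    exact isGen_smul (hg.res _) (RingedSpace.isUnit_res_basicOpen _ c)
  have h0 : p ≫ toSky x φ = 0 := by
    refine Sigma.hom_ext _ _ fun j => ?_
    rw [comp_zero, ← Category.assoc]
    let s : Coh.structureModule X ⟶ G :=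
      Sigma.ι (fun _ : κ => Coh.structureModule X) j ≫ p
    change s ≫ toSky x φ = 0
    refine hom_ext_val ?_
    refine (congrArg ((toSky x φ).app ⊤) rfl).trans ?_
    exact funext fun h => hzero (val s ⊤)
  have h1 : toSky x φ = 0 := by rw [← cancel_epi p, h0, comp_zero]
  have hφ : φ.hom (gm G hxV g) = 0 :=
    congrFun (congrArg (fun q : G ⟶ (sky x).obj P => q.app V g) h1) ⟨hxV⟩
  have hmem := (Submodule.Quotient.mk_eq_zero _).mp hφ
  have hspan : ∀ z : (DerSch.stalkFunctor X x).obj G, ∃ r : R, z = r • gm G hxV g := by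
    intro z
    obtain ⟨W, hxW, s, rfl⟩ := exists_gm z
    obtain ⟨c, hc⟩ := (hg (W ⊓ V) inf_le_right).2 (res G inf_le_left s)
    refine ⟨X.presheaf.germ (W ⊓ V) x ⟨hxW, hxV⟩ c, ?_⟩
    rw [← gm_res (inf_le_left : W ⊓ V ≤ W) ⟨hxW, hxV⟩, ← hc, gm_smul, gm_res]
  obtain ⟨c, hcm, hc⟩ : ∃ c ∈ IsLocalRing.maximalIdeal R, gm G hxV g = c • gm G hxV g := by
    suffices ∀ z ∈ (IsLocalRing.maximalIdeal R • ⊤ : Submodule R ((DerSch.stalkFunctor X x).obj G)),
        ∃ c ∈ IsLocalRing.maximalIdeal R, z = c • gm G hxV g from this _ hmem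
    intro z hz
    induction hz using Submodule.smul_induction_on' with
    | smul a ha n _ =>
      obtain ⟨r, rfl⟩ := hspan n
      exact ⟨a * r, Ideal.mul_mem_right _ _ ha, (mul_smul _ _ _).symm⟩
    | add a _ b _ ha hb =>
      obtain ⟨c, hc, rfl⟩ := ha
      obtain ⟨d, hd, rfl⟩ := hb
      exact ⟨c + d, Ideal.add_mem _ hc hd, (add_smul _ _ _).symm⟩
  have hu : IsUnit (1 - c) := IsLocalRing.isUnit_one_sub_self_of_mem_nonunits c hcm
  have hg0 : gm G hxV g = 0 := by
    refine hu.smul_eq_zero.mp ?_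
    rw [sub_smul, one_smul, ← hc, sub_self]
  obtain ⟨W, hW, hxW, hWg⟩ := gm_eq_zero hxV g hg0
  have h10 : (1 : Γ(X, W)) = 0 := (hg W hW).1 (by simp only [hWg, smul_zero])
  have := congrArg (X.presheaf.germ W x hxW) h10
  rw [map_one, map_zero] at this
  exact one_ne_zero this

/-- The function named by a section of a submodule of the structure sheaf. -/
def fnOf {J : X.Modules} (i : J ⟶ Coh.structureModule X) {V : X.Opens} (m : Γ(J, V)) : Γ(X, V) :=
  i.app V m

lemma fnOf_add {J : X.Modules} (i : J ⟶ Coh.structureModule X) {V : X.Opens} (m m' : Γ(J, V)) :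
    fnOf i (m + m') = fnOf i m + fnOf i m' := map_add (i.app V).hom m m'

lemma fnOf_smul {J : X.Modules} (i : J ⟶ Coh.structureModule X) {V : X.Opens} (c : Γ(X, V))
    (m : Γ(J, V)) : fnOf i (c • m) = c * fnOf i m := app_smul i c m

lemma fnOf_res {J : X.Modules} (i : J ⟶ Coh.structureModule X) {W V : X.Opens} (h : W ≤ V)
    (m : Γ(J, V)) : fnOf i (res J h m) = resO X h (fnOf i m) := (app_res i h m).symm

/-- A global section of `J ⊗ P` generating near a point off the support gives a section of `P`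
with generating locus near it inside the complement of the support. -/
theorem exists_genLocus_le_compl {J P : X.Modules} (i : J ⟶ Coh.structureModule X)
    (hP : PicF.IsInvertible P) (I : X.IdealSheafData)
    (hI : ∀ V : X.affineOpens, I.ideal V = Groth.Agent.QC.idealOf i V.1)
    {U : X.Opens} (hU : (I.support : Set X) = (U : Set X)ᶜ) {x : X} (hx : x ∈ U) {κ : Type*}
    [HasCoproduct fun _ : κ => Coh.structureModule X]
    (p : (∐ fun _ : κ => Coh.structureModule X) ⟶ CohB1.tensorMod J P) [Epi p]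
    (hi : ∀ (V : X.Opens), V ≤ U → Function.Injective (i.app V)) :
    ∃ s : Coh.structureModule X ⟶ P, x ∈ CohB1.genLocus P s ∧ CohB1.genLocus P s ≤ U := by
  classical
  let β : BilOn J P P ⊤ :=
    { B := fun V _ => LinearMap.mk₂ Γ(X, V) (fun m n => fnOf i m • n)
        (fun m m' n => by rw [fnOf_add, add_smul])
        (fun r m n => by rw [fnOf_smul, mul_smul])
        (fun m n n' => smul_add _ _ _)
        (fun r m n => smul_comm _ _ _)
      compat := fun {W V} h _ m n => by
        simp only [LinearMap.mk₂_apply]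
        rw [res_smul, fnOf_res] }
  have hval : ∀ (t : Γ(CohB1.tensorMod J P, ⊤)) {V : X.Opens} (m : Γ(J, V)) (e : Γ(P, V)),
      res _ (le_top : V ≤ ⊤) t = tm m e →
        val (homOf (β.eval t)) V = fnOf i m • e := fun t V m e h => by
    rw [val_homOf, β.eval_eq le_top (p := m ⊗ₜ e) (by rw [tt_tmul, h]), TensorProduct.lift.tmul]
    rfl
  obtain ⟨D, hD, hxD, hDU⟩ := exists_isAffineOpen_mem_and_subset hx
  have h1 : (1 : Γ(X, D)) ∈ I.ideal ⟨D, hD⟩ := by
    by_contra h
    obtain ⟨m, hm, hIm⟩ := Ideal.exists_le_maximal (I.ideal ⟨D, hD⟩) (fun e => h (by rw [e]; trivial))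
    have hxm : hD.fromSpec ⟨m, hm.isPrime⟩ ∈ D := by
      rw [← SetLike.mem_coe, ← IsAffineOpen.range_fromSpec hD]
      exact ⟨_, rfl⟩
    have : hD.fromSpec ⟨m, hm.isPrime⟩ ∈ (I.support : Set X) := by
      rw [SetLike.mem_coe, Scheme.IdealSheafData.mem_support_iff_of_mem (U := ⟨D, hD⟩) hxm,
        Scheme.mem_zeroLocus_iff]
      intro c hc hcx
      have : (⟨m, hm.isPrime⟩ : PrimeSpectrum Γ(X, D)) ∈ hD.fromSpec ⁻¹ᵁ X.basicOpen c := hcx
      rw [IsAffineOpen.fromSpec_preimage_basicOpen, PrimeSpectrum.mem_basicOpen] at this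
      exact this (hIm hc)
    rw [hU] at this
    exact this (hDU hxm)
  rw [hI] at h1
  obtain ⟨u, hu⟩ := h1
  obtain ⟨V₀, e₀, hxV₀, he₀⟩ := exists_isGen hP x
  let V := D ⊓ V₀
  have hgen : IsGen (tm (res J (inf_le_left : V ≤ D) u) (res P (inf_le_right : V ≤ V₀) e₀)) := by
    refine isGen_tm (fun W hW => ?_) (he₀.res _)
    have hWu : fnOf i (res J hW (res J inf_le_left u)) = 1 := by
      rw [res_res, fnOf_res]
      exact (congrArg (resO X (hW.trans inf_le_left)) hu).trans (map_one _)
    have hc : ∀ c : Γ(X, W), fnOf i (c • res J hW (res J inf_le_left u)) = c := fun c => by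
      rw [fnOf_smul, hWu, mul_one]
    refine ⟨fun c d h => ?_, fun a => ⟨fnOf i a, hi W (hW.trans (inf_le_left.trans hDU)) (hc _)⟩⟩
    have := congrArg (fnOf i) h
    simpa only [hc] using this
  obtain ⟨t, W, hxW, hWV, htW⟩ := exists_isGen_of_epi_free p hgen (x := x) ⟨hxD, hxV₀⟩
  refine ⟨homOf (β.eval t), ?_, fun y hy => ?_⟩
  · obtain ⟨c, hc⟩ := (hgen W hWV).2 (res _ le_top t)
    rw [res_tm, res_res, res_res] at hc
    have hWu : fnOf i (res J (hWV.trans inf_le_left) u) = 1 :=
      (fnOf_res i _ u).trans ((congrArg (resO X (hWV.trans inf_le_left)) hu).trans (map_one _))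
    have hcu : IsUnit (X.presheaf.germ W x hxW c) := by
      obtain ⟨d, hd⟩ := (htW W le_rfl).2 (tm (res J (hWV.trans inf_le_left) u) (res P (hWV.trans inf_le_right) e₀))
      simp only [Groth.Agent.QC.res_self] at hd
      rw [← hc, smul_smul] at hd
      have : d * c = 1 := (hgen W hWV).1 (by
        change (d * c) • res _ hWV _ = (1 : Γ(X, W)) • res _ hWV _
        rw [res_tm, res_res, res_res, hd, one_smul])
      exact (IsUnit.of_mul_eq_one_right _ this).map _
    have hv := hval t (c • res J (hWV.trans inf_le_left) u) (res P (hWV.trans inf_le_right) e₀)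
      (by rw [smul_tm]; exact hc.symm)
    refine (mem_genLocus_iff_isUnit _ (he₀.res (hWV.trans inf_le_right)) hv hxW).mpr ?_
    rw [fnOf_smul, hWu, mul_one]
    exact hcu
  · by_contra hyU
    obtain ⟨V₁, e₁, hyV₁, he₁⟩ := exists_isGen hP y
    obtain ⟨E, hE, hyE, hEV₁⟩ := exists_isAffineOpen_mem_and_subset hyV₁
    obtain ⟨m, hm⟩ := (tm_bijective (M := J) (he₁.res (hEV₁ : E ≤ V₁)) E le_rfl).2
      (res _ (le_top : E ≤ ⊤) t)
    simp only [Groth.Agent.QC.res_self] at hm
    have hv := hval t m (res P hEV₁ e₁) hm.symm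
    have hu' := (mem_genLocus_iff_isUnit _ (he₁.res hEV₁) hv hyE).mp hy
    have hys : y ∈ I.support := hU.ge hyU
    rw [Scheme.IdealSheafData.mem_support_iff_of_mem (U := ⟨E, hE⟩) hyE, Scheme.mem_zeroLocus_iff] at hys
    exact hys _ (by rw [hI]; exact ⟨m, rfl⟩) ((X.mem_basicOpen _ y hyE).mpr hu')

end TMul
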