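import Groth.Agent.TMul.Assoc
import Groth.Agent.KFlat.PullTensor
import Groth.Agent.LocFree.Props

/-!
Frames: sections whose germs form bases of the stalks; sections of tensor products with a framed module;
frames of inverse images; frames of finite locally free modules.
-/

set_option autoImplicit false
set_option backward.isDefEq.respectTransparency false

universe u

open CategoryTheory CategoryTheory.Limits AlgebraicGeometry TopologicalSpace Opposite
open Groth.Agent.QC (res resO res_res res_smul resO_resO app_res)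
open Groth.Agent.WeakAssLib (mgerm mgerm_smul mgerm_res)
open scoped TensorProduct

noncomputable section

namespace TMul

variable {X Y : Scheme.{u}} {M N : X.Modules} {n : ℕ}

/-- The germs of `e` form a basis of every stalk over `U`. -/
def IsFrame {U : X.Opens} (e : Fin n → Γ(N, U)) : Prop :=
  ∀ (x : X) (hx : x ∈ U),
    Function.Bijective fun c : Fin n → X.presheaf.stalk x => ∑ i, c i • mgerm N hx (e i)

variable {U : X.Opens} {e : Fin n → Γ(N, U)}

lemma germ_comb {V : X.Opens} (hV : V ≤ U) {x : X} (hx : x ∈ V) (c : Fin n → Γ(X, V)) :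
    mgerm N hx (∑ i, c i • res N hV (e i)) =
      ∑ i, (X.presheaf.germ V x hx).hom (c i) • mgerm N (hV hx) (e i) := by
  rw [map_sum]
  exact Finset.sum_congr rfl fun i _ => by rw [mgerm_smul, mgerm_res]

theorem IsFrame.comb_injective (he : IsFrame e) {V : X.Opens} (hV : V ≤ U) :
    Function.Injective fun c : Fin n → Γ(X, V) => ∑ i, c i • res N hV (e i) := fun c c' h => by
  funext i
  refine TopCat.Presheaf.section_ext X.sheaf V _ _ fun x hx => ?_
  have h' := congrArg (mgerm N hx) h
  rw [germ_comb hV hx, germ_comb hV hx] at h'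
  exact congrFun ((he x (hV hx)).1 h') i

theorem IsFrame.comb_surjective (he : IsFrame e) {V : X.Opens} (hV : V ≤ U) (s : Γ(N, V)) :
    ∃ c : Fin n → Γ(X, V), ∑ i, c i • res N hV (e i) = s := by
  classical
  have hloc : ∀ x : V, ∃ (W : X.Opens) (h : W ≤ V) (c : Fin n → Γ(X, W)), (x : X) ∈ W ∧
      ∑ i, c i • res N (h.trans hV) (e i) = res N h s := by
    rintro ⟨x, hx⟩
    obtain ⟨σ, hσ⟩ := (he x (hV hx)).2 (mgerm N hx s)
    choose W hxW c hc using fun i => X.presheaf.exists_germ_eq (x := x) (σ i)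
    let W' : X.Opens := Finset.univ.inf W ⊓ V
    have hxW' : x ∈ W' := ⟨by
      have : x ∈ ((Finset.univ.inf W : X.Opens) : Set X) := by
        rw [Opens.coe_finset_inf, Finset.inf_set_eq_iInter, Set.mem_iInter₂]
        exact fun i _ => hxW i
      exact this, hx⟩
    let c' : Fin n → Γ(X, W') := fun i =>
      resO X (show W' ≤ W i from inf_le_left.trans (Finset.inf_le (Finset.mem_univ i))) (c i)
    have h0 : mgerm N hxW' (∑ i, c' i • res N ((inf_le_right : W' ≤ V).trans hV) (e i)) =
        mgerm N hxW' (res N inf_le_right s) := by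
      rw [germ_comb, mgerm_res, ← hσ]
      refine Finset.sum_congr rfl fun i _ => ?_
      rw [← hc i]
      exact congrArg (· • _) (TopCat.Presheaf.germ_res_apply X.presheaf _ x hxW' (c i))
    obtain ⟨W'', hxW'', i₁, i₂, heq⟩ := TopCat.Presheaf.germ_eq N.presheaf x hxW' hxW' _ _ h0
    refine ⟨W'', i₁.le.trans inf_le_right, fun i => resO X i₁.le (c' i), hxW'', ?_⟩
    have heq' : res N i₁.le (∑ i, c' i • res N ((inf_le_right : W' ≤ V).trans hV) (e i)) =
        res N i₁.le (res N inf_le_right s) := heq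
    rw [res_res, map_sum] at heq'
    rw [← heq']
    exact Finset.sum_congr rfl fun i _ => by rw [res_smul, res_res]
  choose W hW c hxW hc using hloc
  have hcomp : ∀ (x y : V) (W' : X.Opens) (h1 : W' ≤ W x) (h2 : W' ≤ W y),
      (fun i => resO X h1 (c x i)) = fun i => resO X h2 (c y i) := fun x y W' h1 h2 => by
    apply he.comb_injective ((h1.trans (hW x)).trans hV)
    have e1 := congrArg (res N h1) (hc x)
    have e2 := congrArg (res N h2) (hc y)
    simp only [map_sum, res_smul, res_res] at e1 e2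
    exact e1.trans e2.symm
  choose a ha using fun i => (TopCat.Sheaf.existsUnique_gluing' X.sheaf W V
    (fun x => homOfLE (hW x)) (fun x hx => Opens.mem_iSup.mpr ⟨⟨x, hx⟩, hxW _⟩) (fun x => c x i)
    (fun x y => congrFun (hcomp x y _ inf_le_left inf_le_right) i)).exists
  refine ⟨a, Groth.Agent.QC.section_eq_of_locally fun x hx => ⟨W ⟨x, hx⟩, hW _, hxW _, ?_⟩⟩
  rw [map_sum, ← hc]
  refine Finset.sum_congr rfl fun i _ => ?_
  rw [res_smul, res_res]
  exact congrArg (· • _) (ha i ⟨x, hx⟩)

/-- Coordinates with respect to a frame. -/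
def IsFrame.equiv (he : IsFrame e) {V : X.Opens} (hV : V ≤ U) :
    (Fin n → Γ(X, V)) ≃ₗ[Γ(X, V)] Γ(N, V) :=
  LinearEquiv.ofBijective
    { toFun := fun c : Fin n → Γ(X, V) => ∑ i, c i • res N hV (e i)
      map_add' := fun a b => by simp only [Pi.add_apply, add_smul, Finset.sum_add_distrib]
      map_smul' := fun r a => by simp only [Pi.smul_apply, smul_eq_mul, mul_smul, Finset.smul_sum, RingHom.id_apply] }
    ⟨he.comb_injective hV, he.comb_surjective hV⟩

lemma IsFrame.equiv_symm_res (he : IsFrame e) {V : X.Opens} (hV : V ≤ U) (i j : Fin n) :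
    (he.equiv hV).symm (res N hV (e i)) j = if i = j then 1 else 0 := by
  classical
  have h : (he.equiv hV).symm (res N hV (e i)) = fun j => if i = j then (1 : Γ(X, V)) else 0 :=
    (LinearEquiv.symm_apply_eq _).2 (by
      change res N hV (e i) = ∑ k, (if i = k then (1 : Γ(X, V)) else 0) • res N hV (e k)
      simp)
  rw [h]

/-- Sections of a tensor product with a framed module. -/
theorem IsFrame.tm_bijective (he : IsFrame e) (V : X.Opens) (hV : V ≤ U) :
    Function.Bijective fun m : Fin n → Γ(M, V) => ∑ i, tm (res N hV (e i)) (m i) := by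
  classical
  have pure : ∀ (W : X.Opens) (hW : W ≤ U) (p : Γ(N, W) ⊗[Γ(X, W)] Γ(M, W)),
      ∃ m : Fin n → Γ(M, W), p = ∑ i, res N hW (e i) ⊗ₜ m i := fun W hW p => by
    induction p using TensorProduct.induction_on with
    | zero => exact ⟨0, by simp⟩
    | tmul a b =>
      obtain ⟨c, rfl⟩ := he.comb_surjective hW a
      exact ⟨fun i => c i • b, by simp only [TensorProduct.sum_tmul, TensorProduct.smul_tmul]⟩
    | add p q hp hq =>
      obtain ⟨m, rfl⟩ := hp
      obtain ⟨m', rfl⟩ := hq
      exact ⟨m + m', by simp only [Pi.add_apply, TensorProduct.tmul_add, Finset.sum_add_distrib]⟩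
  have hsum : ∀ {W : X.Opens} (hW : W ≤ U) (m : Fin n → Γ(M, W)),
      tt N M W (∑ i, res N hW (e i) ⊗ₜ m i) = ∑ i, tm (res N hW (e i)) (m i) := fun hW m => by
    simp only [map_sum, tt_tmul]
  have hres : ∀ {W W' : X.Opens} (h : W' ≤ W) (hW : W ≤ U) (m : Fin n → Γ(M, W)),
      res (CohB1.tensorMod N M) h (∑ i, tm (res N hW (e i)) (m i)) =
        ∑ i, tm (res N (h.trans hW) (e i)) (res M h (m i)) := fun h hW m => by
    rw [map_sum]
    exact Finset.sum_congr rfl fun i _ => by rw [res_tm, res_res]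
  have inj : ∀ (W : X.Opens) (hW : W ≤ U),
      Function.Injective fun m : Fin n → Γ(M, W) => ∑ i, tm (res N hW (e i)) (m i) := fun W hW m m' h => by
    funext j
    refine Groth.Agent.QC.section_eq_of_locally fun x hx => ?_
    have h' : tt N M W (∑ i, res N hW (e i) ⊗ₜ m i) = tt N M W (∑ i, res N hW (e i) ⊗ₜ m' i) := by
      rw [hsum, hsum]; exact h
    obtain ⟨V', hV', hxV', hp⟩ := exists_resT_eq (M := N) (N := M) h' hx
    refine ⟨V', hV', hxV', ?_⟩
    let ψ : Γ(N, V') ⊗[Γ(X, V')] Γ(M, V') →ₗ[Γ(X, V')] Γ(M, V') :=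
      TensorProduct.lift (LinearMap.mk₂ _ (fun a b => (he.equiv (hV'.trans hW)).symm a j • b)
        (fun a a' b => by simp only [map_add, Pi.add_apply, add_smul])
        (fun r a b => by simp only [map_smul, Pi.smul_apply, smul_eq_mul, mul_smul])
        (fun a b b' => smul_add _ b b') (fun r a b => smul_comm _ r b))
    have := congrArg ψ hp
    simpa [ψ, resT_tmul, res_res, he.equiv_symm_res] using this
  refine ⟨inj V hV, fun s => ?_⟩
  choose W hW p hxW hp using fun x : V => exists_tt s x.2
  choose m hm using fun x : V => pure (W x) ((hW x).trans hV) (p x)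
  have hcomp : ∀ (x y : V) (W' : X.Opens) (h1 : W' ≤ W x) (h2 : W' ≤ W y),
      (fun i => res M h1 (m x i)) = fun i => res M h2 (m y i) := fun x y W' h1 h2 => by
    apply inj W' ((h1.trans (hW x)).trans hV)
    have e1 := congrArg (res (CohB1.tensorMod N M) h1) (hp x)
    have e2 := congrArg (res (CohB1.tensorMod N M) h2) (hp y)
    rw [hm, hsum, hres, res_res] at e1 e2
    exact e1.trans e2.symm
  choose a ha using fun i => (TopCat.Sheaf.existsUnique_gluing' (Groth.Agent.QC.abSheaf M) W V
    (fun x => homOfLE (hW x)) (fun x hx => Opens.mem_iSup.mpr ⟨⟨x, hx⟩, hxW _⟩) (fun x => m x i)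
    (fun x y => congrFun (hcomp x y _ inf_le_left inf_le_right) i)).exists
  refine ⟨a, Groth.Agent.QC.section_eq_of_locally fun x hx => ⟨W ⟨x, hx⟩, hW _, hxW _, ?_⟩⟩
  change res _ _ (∑ i, tm (res N hV (e i)) (a i)) = _
  rw [hres, ← hp, hm, hsum]
  exact Finset.sum_congr rfl fun i _ => congrArg (tm _) (ha i ⟨x, hx⟩)

open Groth.Agent.KFlat in
/-- The inverse image of a frame is a frame. -/
theorem IsFrame.pullback (f : X ⟶ Y) {E : Y.Modules} {U₀ : Y.Opens} {e₀ : Fin n → Γ(E, U₀)}
    (he : IsFrame e₀) :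
    IsFrame (X := X) (N := (Scheme.Modules.pullback f).obj E) (U := f ⁻¹ᵁ U₀)
      fun i => ((Scheme.Modules.pullbackPushforwardAdjunction f).unit.app E).app U₀ (e₀ i) := by
  classical
  intro x hx
  let S := X.presheaf.stalk x
  let b : (Fin n → Y.presheaf.stalk (f.base x)) ≃ₗ[Y.presheaf.stalk (f.base x)] E.presheaf.stalk (f.base x) :=
    LinearEquiv.ofBijective
      { toFun := fun c => ∑ i, c i • mgerm E (show f.base x ∈ U₀ from hx) (e₀ i)
        map_add' := fun a b => by simp only [Pi.add_apply, add_smul, Finset.sum_add_distrib]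
        map_smul' := fun r a => by simp only [Pi.smul_apply, smul_eq_mul, mul_smul, Finset.smul_sum, RingHom.id_apply] }
      (he (f.base x) hx)
  let φ := (f.stalkMap x).hom
  let h : (DerSch.stalkFunctor Y (f.base x)).obj E ⟶
      (ModuleCat.restrictScalars φ).obj (ModuleCat.of S (Fin n → S)) :=
    ModuleCat.ofHom (Y := (ModuleCat.restrictScalars φ).obj (ModuleCat.of S (Fin n → S)))
      { toFun := fun m => fun i => φ (b.symm m i)
        map_add' := fun m m' => funext fun i => by simp only [map_add, Pi.add_apply]; rfl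
        map_smul' := fun r m => funext fun i => by
          simp only [map_smul, Pi.smul_apply, smul_eq_mul, map_mul, RingHom.id_apply]
          rfl }
  obtain ⟨g, hg⟩ := exists_pull_stalk_desc f x E h
  let v : Fin n → ((Scheme.Modules.pullback f).obj E).presheaf.stalk x := fun i =>
    kap f x E (mgerm E (show f.base x ∈ U₀ from hx) (e₀ i))
  have hv : ∀ i, mgerm ((Scheme.Modules.pullback f).obj E) hx
      (((Scheme.Modules.pullbackPushforwardAdjunction f).unit.app E).app U₀ (e₀ i)) = v i := fun i =>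
    (kap_germ f x E U₀ hx (e₀ i)).symm
  let s : (Fin n → S) →ₗ[S] ((Scheme.Modules.pullback f).obj E).presheaf.stalk x :=
    { toFun := fun c => ∑ i, c i • v i
      map_add' := fun a b => by simp only [Pi.add_apply, add_smul, Finset.sum_add_distrib]
      map_smul' := fun r a => by simp only [Pi.smul_apply, smul_eq_mul, mul_smul, Finset.smul_sum, RingHom.id_apply] }
  have h1 : g ≫ ModuleCat.ofHom s = 𝟙 _ := pull_stalk_ext f x E fun m => by
    show s (g.hom (kap f x E m)) = kap f x E m
    rw [hg]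
    show (∑ i, φ (b.symm m i) • v i) = kap f x E m
    conv_rhs => rw [← b.apply_symm_apply m]
    show _ = kap f x E (∑ i, b.symm m i • mgerm E (show f.base x ∈ U₀ from hx) (e₀ i))
    refine Eq.trans ?_ (map_sum (kap f x E) _ _).symm
    exact Finset.sum_congr rfl fun i _ => (kap_smul f x E _ _).symm
  have hgv : ∀ i, g.hom (v i) = fun j => if i = j then (1 : S) else 0 := fun i => by
    refine (hg _).trans ?_
    have hb : b.symm (mgerm E (show f.base x ∈ U₀ from hx) (e₀ i)) =
        fun j => if i = j then 1 else 0 := (LinearEquiv.symm_apply_eq _).2 (by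
      show _ = ∑ k, (if i = k then (1 : Y.presheaf.stalk (f.base x)) else 0) • mgerm E _ (e₀ k)
      simp)
    funext j
    show φ (b.symm _ j) = _
    rw [hb]
    dsimp only
    split_ifs <;> simp
  have hfun : (fun c : Fin n → S => ∑ i, c i • mgerm ((Scheme.Modules.pullback f).obj E) hx
      (((Scheme.Modules.pullbackPushforwardAdjunction f).unit.app E).app U₀ (e₀ i))) = ⇑s := by
    funext c
    exact Finset.sum_congr rfl fun i _ => by rw [hv]
  change Function.Bijective fun c : Fin n → S => _
  rw [hfun]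
  refine ⟨fun c c' hcc => ?_, fun t => ⟨g.hom t, congrArg (fun k => k.hom t) h1⟩⟩
  have hgs : ∀ c : Fin n → S, g.hom (s c) = c := fun c => by
    show g.hom (∑ i, c i • v i) = c
    rw [map_sum]
    funext j
    simp [hgv]
  rw [← hgs c, ← hgs c', hcc]

/-- Finite locally free modules have frames. -/
theorem exists_isFrame {E : Y.Modules} (hE : FlatMod.IsFinLocFree E) (y : Y) :
    ∃ (U : Y.Opens) (n : ℕ) (e : Fin n → Γ(E, U)), y ∈ U ∧ IsFrame e := by
  classical
  obtain ⟨W, k, hyW, ⟨φ⟩⟩ := hE y
  obtain ⟨D, hD, hyD, hDW⟩ := exists_isAffineOpen_mem_and_subset (show y ∈ W from hyW)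
  obtain ⟨hfree, hfin⟩ := Groth.Agent.LocFree.free_sections_of_le φ hD hDW
  haveI : Nonempty D := ⟨⟨y, hyD⟩⟩
  let b := (Module.Free.chooseBasis Γ(Y, D) Γ(E, D)).reindex
    (Fintype.equivFin (Module.Free.ChooseBasisIndex Γ(Y, D) Γ(E, D)))
  refine ⟨D, _, b, hyD, fun x hx => ?_⟩
  have hq := Groth.Agent.LocFree.isQCoh_of_isFinLocFree hE
  have hF : Groth.Agent.QC.IsLoc E D := Groth.Agent.QC.isLoc_of_isQCoh hD (hM := hq)
  letI := (Y.presheaf.germ D x hx).hom.toAlgebra
  haveI := hD.isLocalization_stalk ⟨x, hx⟩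
  letI := Module.compHom (E.presheaf.stalk x) (Y.presheaf.germ D x hx).hom
  haveI : IsScalarTower Γ(Y, D) (Y.presheaf.stalk x) (E.presheaf.stalk x) :=
    ⟨fun a c m => mul_smul ((Y.presheaf.germ D x hx).hom a) c m⟩
  let g : Γ(E, D) →ₗ[Γ(Y, D)] E.presheaf.stalk x :=
    { toFun := mgerm E hx
      map_add' := map_add _
      map_smul' := fun a s => mgerm_smul E hx a s }
  haveI : IsLocalizedModule (hD.primeIdealOf ⟨x, hx⟩).asIdeal.primeCompl g := by
    refine ⟨fun a => ?_, fun t => ?_, fun {s s'} hs => ?_⟩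
    · rw [Module.End.isUnit_iff]
      exact (Groth.Agent.WeakAssLib.isUnit_germ hD hx a.2).smul_bijective
    · obtain ⟨a, s, ha, has⟩ := Groth.Agent.WeakAssLib.exists_germ hD hF hx t
      exact ⟨(s, ⟨a, ha⟩), has⟩
    · have h0 : mgerm E hx (s - s') = 0 := by rw [map_sub, sub_eq_zero]; exact hs
      obtain ⟨a, ha, has⟩ := (Groth.Agent.WeakAssLib.germ_eq_zero_iff hD hF hx _).1 h0
      exact ⟨⟨a, ha⟩, by change a • s = a • s'; rw [← sub_eq_zero, ← smul_sub, has]⟩
  let bs := b.ofIsLocalizedModule (Y.presheaf.stalk x) (hD.primeIdealOf ⟨x, hx⟩).asIdeal.primeCompl g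
  have : (fun c : Fin _ → Y.presheaf.stalk x => ∑ i, c i • mgerm E hx (b i)) = bs.equivFun.symm := by
    funext c
    rw [Module.Basis.equivFun_symm_apply]
    exact Finset.sum_congr rfl fun i _ => by rw [Module.Basis.ofIsLocalizedModule_apply]; rfl
  rw [this]
  exact bs.equivFun.symm.bijective

end TMul
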