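import Groth.Agent.TMul.CounitGen
import Groth.Agent.TMul.GlobGen
import Groth.Agent.TMul.AmpleCrit
import Groth.Agent.QC.IdealMod

/-!
Epimorphic counit `f^* f_* F ⟶ F` versus local generation by sections over preimages of affines.
-/

set_option autoImplicit false
set_option backward.isDefEq.respectTransparency false

universe u

open CategoryTheory CategoryTheory.Limits AlgebraicGeometry TopologicalSpace Opposite
open Groth.Agent.QC (res resO res_res res_smul resO_resO app_res)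
open Groth.Agent.KFlat (pgerm sky toSky)

noncomputable section

namespace TMul

variable {X Y : Scheme.{u}} {F : X.Modules}

/-- Locally inside `Z` every section is a combination of sections over `Z`. -/
def SecGen (F : X.Modules) (Z : X.Opens) : Prop :=
  ∀ x ∈ Z, ∀ (U : X.Opens) (t : Γ(F, U)), x ∈ U → ∃ (W : X.Opens) (hU : W ≤ U) (hZ : W ≤ Z),
    x ∈ W ∧ res F hU t ∈ Submodule.span Γ(X, W) (Set.range (res F hZ))

lemma res_mem_span_range {V W W' : X.Opens} (h : W' ≤ W) (hWV : W ≤ V) {t : Γ(F, W)}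
    (ht : t ∈ Submodule.span Γ(X, W) (Set.range (res F hWV))) :
    res F h t ∈ Submodule.span Γ(X, W') (Set.range (res F (h.trans hWV))) := by
  induction ht using Submodule.span_induction with
  | mem a ha =>
    obtain ⟨b, rfl⟩ := ha
    exact Submodule.subset_span ⟨b, (res_res F h hWV b).symm⟩
  | zero => rw [map_zero]; exact Submodule.zero_mem _
  | add a b _ _ ha hb => rw [map_add]; exact Submodule.add_mem _ ha hb
  | smul c a _ ha => rw [res_smul]; exact Submodule.smul_mem _ _ ha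

/-- An epimorphic counit gives local generation by sections over small preimages. -/
theorem exists_mem_span_of_epi_counit (f : X ⟶ Y)
    (hepi : Epi ((Scheme.Modules.pullbackPushforwardAdjunction f).counit.app F))
    {U : X.Opens} (t : Γ(F, U)) {x : X} (hx : x ∈ U) :
    ∃ (W : X.Opens) (hW : W ≤ U), x ∈ W ∧ res F hW t ∈ Submodule.span Γ(X, W)
      {s | ∃ (V : Y.Opens) (_ : f.base x ∈ V) (h : W ≤ f ⁻¹ᵁ V), s ∈ Set.range (res F h)} := by
  let R := X.presheaf.stalk x
  let S : Submodule R ((DerSch.stalkFunctor X x).obj F) := Submodule.span R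
    {z | ∃ (V : Y.Opens) (hV : f.base x ∈ V) (s : Γ(F, f ⁻¹ᵁ V)),
      z = gm F (show x ∈ f ⁻¹ᵁ V from hV) s}
  let P : ModuleCat.{u} R := ModuleCat.of R ((DerSch.stalkFunctor X x).obj F ⧸ S)
  let φ : (DerSch.stalkFunctor X x).obj F ⟶ P := ModuleCat.ofHom (Submodule.mkQ S)
  let adj := Scheme.Modules.pullbackPushforwardAdjunction f
  have h0 : adj.counit.app F ≫ toSky x φ = 0 := by
    apply (adj.homEquiv _ _).injective
    rw [adj.homEquiv_naturality_right, Adjunction.homEquiv_unit, Adjunction.homEquiv_unit,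
      adj.right_triangle_components]
    refine Scheme.Modules.hom_ext _ _ fun V => ?_
    ext s
    simp only [Functor.map_zero, comp_zero, Category.id_comp]
    exact funext fun h => (Submodule.Quotient.mk_eq_zero S).mpr
      (Submodule.subset_span ⟨V, h.down, s, rfl⟩)
  have h1 : toSky x φ = 0 := by
    rw [← cancel_epi (adj.counit.app F), h0, comp_zero]
  have hφ : φ.hom (gm F hx t) = 0 :=
    congrFun (congrArg (fun q : F ⟶ (sky x).obj P => q.app U t) h1) ⟨hx⟩
  have hmem : gm F hx t ∈ S := (Submodule.Quotient.mk_eq_zero S).mp hφ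
  suffices key : ∀ z ∈ S, ∃ (W : X.Opens) (hxW : x ∈ W) (w : Γ(F, W)), gm F hxW w = z ∧
      w ∈ Submodule.span Γ(X, W)
        {s | ∃ (V : Y.Opens) (_ : f.base x ∈ V) (h : W ≤ f ⁻¹ᵁ V), s ∈ Set.range (res F h)} by
    obtain ⟨W, hxW, w, hw, hwS⟩ := key _ hmem
    obtain ⟨W', hW', hxW', he⟩ := gm_eq_zero (N := F) (U := U ⊓ W) ⟨hx, hxW⟩
      (res F inf_le_left t - res F inf_le_right w) (by
        rw [map_sub, gm_res inf_le_left, gm_res inf_le_right, hw, sub_self])
    rw [map_sub, sub_eq_zero, res_res, res_res] at he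
    refine ⟨W', hW'.trans inf_le_left, hxW', he ▸ ?_⟩
    clear he hw
    induction hwS using Submodule.span_induction with
    | mem a ha =>
      obtain ⟨V, hV, h, b, rfl⟩ := ha
      exact Submodule.subset_span ⟨V, hV, (hW'.trans inf_le_right).trans h, b,
        (res_res F _ h b).symm⟩
    | zero => rw [map_zero]; exact Submodule.zero_mem _
    | add a b _ _ ha hb => rw [map_add]; exact Submodule.add_mem _ ha hb
    | smul c a _ ha => rw [res_smul]; exact Submodule.smul_mem _ _ ha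
  intro z hz
  induction hz using Submodule.span_induction with
  | mem z hz =>
    obtain ⟨V, hV, s, rfl⟩ := hz
    exact ⟨f ⁻¹ᵁ V, hV, s, rfl, Submodule.subset_span ⟨V, hV, le_rfl, s,
      Groth.Agent.QC.res_self F le_rfl s⟩⟩
  | zero => exact ⟨U, hx, 0, map_zero _, Submodule.zero_mem _⟩
  | add a b _ _ ha hb =>
    obtain ⟨W₁, h₁, w₁, rfl, m₁⟩ := ha
    obtain ⟨W₂, h₂, w₂, rfl, m₂⟩ := hb
    have hres : ∀ {W : X.Opens} {w : Γ(F, W)} (hle : W₁ ⊓ W₂ ≤ W),
        w ∈ Submodule.span Γ(X, W)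
          {s | ∃ (V : Y.Opens) (_ : f.base x ∈ V) (h : W ≤ f ⁻¹ᵁ V), s ∈ Set.range (res F h)} →
        res F hle w ∈ Submodule.span Γ(X, (W₁ ⊓ W₂ : X.Opens))
          {s | ∃ (V : Y.Opens) (_ : f.base x ∈ V) (h : W₁ ⊓ W₂ ≤ f ⁻¹ᵁ V),
            s ∈ Set.range (res F h)} := by
      intro W w hle m
      induction m using Submodule.span_induction with
      | mem a ha =>
        obtain ⟨V, hV, h, b, rfl⟩ := ha
        exact Submodule.subset_span ⟨V, hV, hle.trans h, b, (res_res F _ h b).symm⟩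
      | zero => rw [map_zero]; exact Submodule.zero_mem _
      | add a b _ _ ha hb => rw [map_add]; exact Submodule.add_mem _ ha hb
      | smul c a _ ha => rw [res_smul]; exact Submodule.smul_mem _ _ ha
    exact ⟨W₁ ⊓ W₂, ⟨h₁, h₂⟩, res F inf_le_left w₁ + res F inf_le_right w₂,
      by rw [map_add, gm_res inf_le_left, gm_res inf_le_right],
      Submodule.add_mem _ (hres _ m₁) (hres _ m₂)⟩
  | smul r a _ ha =>
    obtain ⟨W, hW, w, rfl, m⟩ := ha
    obtain ⟨W', hW', c, rfl⟩ := TopCat.Presheaf.exists_germ_eq X.presheaf (x := x) r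
    refine ⟨W' ⊓ W, ⟨hW', hW⟩,
      (resO X (inf_le_left : W' ⊓ W ≤ W') c) • res F (inf_le_right : W' ⊓ W ≤ W) w, ?_, ?_⟩
    · rw [gm_smul, gm_res inf_le_right]
      congr 1
      exact X.presheaf.germ_res_apply (homOfLE inf_le_left) x ⟨hW', hW⟩ c
    · refine Submodule.smul_mem _ _ ?_
      clear * - m
      induction m using Submodule.span_induction with
      | mem a ha =>
        obtain ⟨V, hV, h, b, rfl⟩ := ha
        exact Submodule.subset_span ⟨V, hV, (inf_le_right : W' ⊓ W ≤ W).trans h, b,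
          (res_res F _ h b).symm⟩
      | zero => rw [map_zero]; exact Submodule.zero_mem _
      | add a b _ _ ha hb => rw [map_add]; exact Submodule.add_mem _ ha hb
      | smul c a _ ha => rw [res_smul]; exact Submodule.smul_mem _ _ ha

/-- Over an affine open of the base one can use the sections over the whole preimage. -/
theorem secGen_of_epi_counit (f : X ⟶ Y) [QuasiCompact f] [QuasiSeparated f] [F.IsQuasicoherent]
    (hepi : Epi ((Scheme.Modules.pullbackPushforwardAdjunction f).counit.app F))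
    (V : Y.affineOpens) : SecGen F (f ⁻¹ᵁ V.1) := by
  intro x hx U t hxU
  obtain ⟨W, hW, hxW, hm⟩ := exists_mem_span_of_epi_counit f hepi t hxU
  have : IsAffine V.1.toScheme := V.2
  have : CompactSpace ((f ⁻¹ᵁ V.1 : X.Opens) : Scheme.{u}) :=
    isCompact_iff_compactSpace.mp (f.isCompact_preimage V.2.isCompact)
  have : QuasiSeparatedSpace ((f ⁻¹ᵁ V.1 : X.Opens) : Scheme.{u}) :=
    quasiSeparatedSpace_of_quasiSeparated (f ∣_ V.1)
  have hqs : IsQuasiSeparated ((f ⁻¹ᵁ V.1 : X.Opens) : Set X) :=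
    isQuasiSeparated_iff_quasiSeparatedSpace _ (f ⁻¹ᵁ V.1).2 |>.mpr this
  suffices key : ∀ w ∈ Submodule.span Γ(X, W)
      {s | ∃ (U' : Y.Opens) (_ : f.base x ∈ U') (h : W ≤ f ⁻¹ᵁ U'), s ∈ Set.range (res F h)},
      ∃ (W' : X.Opens) (h : W' ≤ W) (hV : W' ≤ f ⁻¹ᵁ V.1), x ∈ W' ∧
        res F h w ∈ Submodule.span Γ(X, W') (Set.range (res F hV)) by
    obtain ⟨W', h, hV, hxW', hm'⟩ := key _ hm
    exact ⟨W', h.trans hW, hV, hxW', by rwa [res_res] at hm'⟩
  intro w hw
  induction hw using Submodule.span_induction with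
  | mem w hw =>
    obtain ⟨U', hxU', h, s, rfl⟩ := hw
    obtain ⟨a, ha, hxa⟩ := V.2.exists_basicOpen_le ⟨f.base x, hxU'⟩ hx
    have hD : X.basicOpen (f.app V.1 a) = f ⁻¹ᵁ Y.basicOpen a :=
      (Scheme.preimage_basicOpen f a).symm
    have hle : X.basicOpen (f.app V.1 a) ≤ f ⁻¹ᵁ U' := hD.le.trans (f.preimage_mono ha)
    obtain ⟨n, s', hs'⟩ := Groth.Agent.QC.exists_pow_smul_extends_of_isCompact (M := F)
      (f.isCompact_preimage V.2.isCompact) hqs (f.app V.1 a) (res F hle s)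
    refine ⟨W ⊓ X.basicOpen (f.app V.1 a), inf_le_left,
      inf_le_right.trans (X.basicOpen_le _), ⟨hxW, hD.ge hxa⟩, ?_⟩
    have hu : IsUnit (resO X (X.basicOpen_le (f.app V.1 a)) (f.app V.1 a)) :=
      X.toRingedSpace.isUnit_res_basicOpen (f.app V.1 a)
    obtain ⟨v, hv⟩ := (hu.pow n).exists_left_inv
    have h3 : res F hle s = v • res F (X.basicOpen_le _) s' := by
      rw [hs', smul_smul]; erw [hv, one_smul]
    have h4 : res F hle s ∈ Submodule.span Γ(X, X.basicOpen (f.app V.1 a))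
        (Set.range (res F (X.basicOpen_le (f.app V.1 a)))) := by
      rw [h3]; exact Submodule.smul_mem _ _ (Submodule.subset_span ⟨s', rfl⟩)
    have h2 : res F (inf_le_right : W ⊓ X.basicOpen (f.app V.1 a) ≤ _) (res F hle s) ∈
        Submodule.span Γ(X, (W ⊓ X.basicOpen (f.app V.1 a) : X.Opens))
          (Set.range (res F ((inf_le_right : W ⊓ X.basicOpen (f.app V.1 a) ≤ _).trans
            (X.basicOpen_le (f.app V.1 a))))) :=
      res_mem_span_range _ _ h4
    rw [res_res] at h2 ⊢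
    exact h2
  | zero =>
    exact ⟨W ⊓ f ⁻¹ᵁ V.1, inf_le_left, inf_le_right, ⟨hxW, hx⟩,
      by rw [map_zero]; exact Submodule.zero_mem _⟩
  | add a b _ _ ha hb =>
    obtain ⟨W₁, h₁, k₁, x₁, m₁⟩ := ha
    obtain ⟨W₂, h₂, k₂, x₂, m₂⟩ := hb
    refine ⟨W₁ ⊓ W₂, inf_le_left.trans h₁, inf_le_left.trans k₁, ⟨x₁, x₂⟩, ?_⟩
    have e₁ := res_mem_span_range (inf_le_left : W₁ ⊓ W₂ ≤ W₁) _ m₁
    have e₂ := res_mem_span_range (inf_le_right : W₁ ⊓ W₂ ≤ W₂) _ m₂
    rw [res_res] at e₁ e₂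
    rw [map_add]
    exact Submodule.add_mem _ e₁ e₂
  | smul c a _ ha =>
    obtain ⟨W₁, h₁, k₁, x₁, m₁⟩ := ha
    exact ⟨W₁, h₁, k₁, x₁, by rw [res_smul]; exact Submodule.smul_mem _ _ m₁⟩

/-- Local generation by sections over preimages makes the counit an epimorphism. -/
theorem epi_counit_of_secGen (f : X ⟶ Y)
    (h : ∀ x : X, ∃ V : Y.Opens, f.base x ∈ V ∧ SecGen F (f ⁻¹ᵁ V)) :
    Epi ((Scheme.Modules.pullbackPushforwardAdjunction f).counit.app F) := by
  let adj := Scheme.Modules.pullbackPushforwardAdjunction f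
  refine InvGen.epi_of_locally _ fun U t x hxU => ?_
  obtain ⟨V, hxV, hg⟩ := h x
  obtain ⟨W, hW, hWV, hxW, hm⟩ := hg x hxV U t hxU
  suffices key : ∀ w ∈ Submodule.span Γ(X, W) (Set.range (res F hWV)),
      ∃ z, (adj.counit.app F).app W z = w from ⟨W, hW, hxW, key _ hm⟩
  intro w hm
  induction hm using Submodule.span_induction with
  | mem a ha =>
    obtain ⟨s, rfl⟩ := ha
    let u : Γ((Scheme.Modules.pullback f).obj ((Scheme.Modules.pushforward f).obj F), f ⁻¹ᵁ V) :=
      (adj.unit.app ((Scheme.Modules.pushforward f).obj F)).app V s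
    refine ⟨res _ hWV u, ?_⟩
    refine (app_res (adj.counit.app F) hWV u).symm.trans ?_
    refine congrArg (res F hWV) ?_
    exact congrArg (fun q : (Scheme.Modules.pushforward f).obj F ⟶ _ => q.app V s)
      (adj.right_triangle_components F)
  | zero => exact ⟨0, map_zero _⟩
  | add a b _ _ ha hb =>
    obtain ⟨p, hp⟩ := ha
    obtain ⟨q, hq⟩ := hb
    exact ⟨p + q, by rw [map_add, hp, hq]⟩
  | smul c a _ ha =>
    obtain ⟨p, hp⟩ := ha
    exact ⟨c • p, by rw [app_smul, hp]⟩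

/-- Sections over a quasi-affine open generate. -/
theorem secGen_of_isQuasiAffine [hF : F.IsQuasicoherent] (Z : X.Opens)
    [Scheme.IsQuasiAffine (Z : Scheme.{u})] : SecGen F Z := by
  intro x hx U t hxU
  obtain ⟨_, ⟨_, ⟨r, hr, rfl⟩, rfl⟩, hxr, hrU⟩ :=
    (Scheme.IsQuasiAffine.isBasis_basicOpen (Z : Scheme.{u})).exists_subset_of_mem_open
      (show (⟨x, hx⟩ : Z.1) ∈ Z.ι ⁻¹ᵁ U from hxU) (Z.ι ⁻¹ᵁ U).2
  let r' : Γ(X, Z) := Z.topIso.hom r
  have hb : X.basicOpen r' = Z.ι ''ᵁ ((Z : Scheme.{u}).basicOpen r) := by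
    rw [Scheme.image_basicOpen]
    simp [r', Scheme.Opens.topIso]
    exact X.basicOpen_res_eq r (eqToHom _)
  have hxr' : x ∈ X.basicOpen r' := hb.ge ⟨⟨x, hx⟩, hxr, rfl⟩
  have hrU' : X.basicOpen r' ≤ U := hb.le.trans (by rintro _ ⟨y, hy, rfl⟩; exact hrU hy)
  have hc : CompactSpace (Z : Scheme.{u}) := inferInstance
  obtain ⟨n, s, hs⟩ := Groth.Agent.QC.exists_pow_smul_extends_of_isCompact (M := F)
    (W := Z) (isCompact_iff_compactSpace.mpr hc)
    (isQuasiSeparated_iff_quasiSeparatedSpace _ Z.2 |>.mpr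
      (inferInstanceAs (QuasiSeparatedSpace (Z : Scheme.{u})))) r' (res F hrU' t)
  refine ⟨X.basicOpen r', hrU', X.basicOpen_le r', hxr', ?_⟩
  have hu : IsUnit (resO X (X.basicOpen_le r') r') := X.toRingedSpace.isUnit_res_basicOpen r'
  obtain ⟨v, hv⟩ := (hu.pow n).exists_left_inv
  have hmem : v • res F (X.basicOpen_le r') s ∈
      Submodule.span Γ(X, X.basicOpen r') (Set.range (res F (X.basicOpen_le r'))) :=
    Submodule.smul_mem _ _ (Submodule.subset_span ⟨s, rfl⟩)
  rw [hs, smul_smul] at hmem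
  erw [hv, one_smul] at hmem
  exact hmem

/-- Preimages of affine opens are quasi-affine when ideal modules are generated by their sections. -/
theorem isQuasiAffine_opens_of_secGen (Z : X.Opens) (hZ : IsCompact (Z : Set X))
    (h : ∀ I : X.IdealSheafData, SecGen (ClSub.idealMod I) Z) :
    Scheme.IsQuasiAffine (Z : Scheme.{u}) := by
  have : CompactSpace (Z : Scheme.{u}) := isCompact_iff_compactSpace.mp hZ
  refine Scheme.IsQuasiAffine.of_forall_exists_mem_basicOpen _ fun ⟨x, hx⟩ => ?_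
  obtain ⟨D, hD, hxD, hDZ⟩ := exists_isAffineOpen_mem_and_subset (x := x) (U := Z) hx
  let C : Closeds X := ⟨(D : Set X)ᶜ, D.2.isClosed_compl⟩
  let I := Scheme.IdealSheafData.vanishingIdeal C
  have hsupp : (I.support : Set X) = (D : Set X)ᶜ := by
    simp [I, C]
  have h1 : (1 : Γ(X, D)) ∈ Set.range ((ClSub.idealModι I).app D) := by
    refine (Groth.Agent.QC.mem_range_idealModι_affine I ⟨D, hD⟩ 1).mpr ?_
    rw [Scheme.IdealSheafData.vanishingIdeal_ideal]
    refine (PrimeSpectrum.mem_vanishingIdeal _ _).mpr fun p hp => ?_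
    exact absurd (show hD.fromSpec p ∈ D by
      rw [← SetLike.mem_coe, ← IsAffineOpen.range_fromSpec hD]; exact ⟨_, rfl⟩) hp
  obtain ⟨u, hu⟩ := h1
  obtain ⟨W, hWD, hWZ, hxW, hm⟩ := h I x hx D u hxD
  obtain ⟨s, hs⟩ : ∃ s : Γ(ClSub.idealMod I, Z),
      IsUnit (X.presheaf.germ W x hxW (fnOf (ClSub.idealModι I) (res _ hWZ s))) := by
    by_contra hn
    push Not at hn
    have key : ∀ w ∈ Submodule.span Γ(X, W) (Set.range (res (ClSub.idealMod I) hWZ)),
        ¬ IsUnit (X.presheaf.germ W x hxW (fnOf (ClSub.idealModι I) w)) := by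
      intro w hw
      induction hw using Submodule.span_induction with
      | mem a ha => obtain ⟨b, rfl⟩ := ha; exact hn b
      | zero => simp [fnOf]
      | add a b _ _ ha hb => rw [fnOf_add, map_add]; exact IsLocalRing.nonunits_add ha hb
      | smul c a _ ha => rw [fnOf_smul, map_mul]; exact fun h => ha (isUnit_of_mul_isUnit_right h)
    refine key _ hm ?_
    rw [fnOf_res, show fnOf (ClSub.idealModι I) u = 1 from hu, map_one, map_one]
    exact isUnit_one
  let g : Γ(X, Z) := fnOf (ClSub.idealModι I) s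
  have hxg : x ∈ X.basicOpen g := by
    rw [X.mem_basicOpen g x hx]
    have := hs
    rw [fnOf_res] at this
    rwa [← X.presheaf.germ_res_apply (homOfLE hWZ) x hxW g]
  have hgD : X.basicOpen g ≤ D := by
    intro y hy
    by_contra hyD
    have hyZ : y ∈ Z := X.basicOpen_le g hy
    obtain ⟨E, hE, hyE, hEZ⟩ := exists_isAffineOpen_mem_and_subset hyZ
    have hmem : resO X hEZ g ∈ I.ideal ⟨E, hE⟩ :=
      (Groth.Agent.QC.mem_range_idealModι_affine I ⟨E, hE⟩ _).mp
        ⟨res _ hEZ s, fnOf_res (ClSub.idealModι I) hEZ s⟩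
    have hys : y ∈ (I.support : Set X) := by rw [hsupp]; exact hyD
    rw [SetLike.mem_coe, Scheme.IdealSheafData.mem_support_iff_of_mem (U := ⟨E, hE⟩) hyE,
      Scheme.mem_zeroLocus_iff] at hys
    exact hys _ hmem ((X.basicOpen_res g (homOfLE hEZ).op).ge ⟨hyE, hy⟩)
  have hb : Z.ι ''ᵁ ((Z : Scheme.{u}).basicOpen (Z.topIso.inv g)) = X.basicOpen g := by
    rw [Scheme.image_basicOpen]
    simp [Scheme.Opens.topIso]
    exact X.basicOpen_res_eq _ _
  refine ⟨Z.topIso.inv g, ?_, ?_⟩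
  · rw [← Z.ι.isAffineOpen_iff_of_isOpenImmersion, hb]
    have e : X.basicOpen g = X.basicOpen (resO X (inf_le_left : Z ⊓ D ≤ Z) g) := by
      rw [Scheme.basicOpen_res, inf_comm Z D, inf_assoc, inf_eq_right.mpr (X.basicOpen_le g),
        inf_eq_right.mpr hgD]
    have hZD : Z ⊓ D = D := inf_eq_right.mpr hDZ
    rw [e]
    revert e
    generalize resO X (inf_le_left : Z ⊓ D ≤ Z) g = g'
    revert g'
    rw [hZD]
    exact fun g' _ => hD.basicOpen g'
  · obtain ⟨z, hz, hzx⟩ := hb.ge hxg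
    exact Z.ι.isOpenEmbedding.injective (a₂ := ⟨x, hx⟩) hzx ▸ hz

end TMul
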