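import Groth.Agent.TMul.RelAmpleOps
import Groth.Agent.KFlat.Skyscraper

/-!
An epimorphic counit `f^* f_* N ⟶ N` for invertible `N` gives generating sections over preimages.
-/

set_option autoImplicit false
set_option backward.isDefEq.respectTransparency false

universe u

open CategoryTheory CategoryTheory.Limits AlgebraicGeometry TopologicalSpace Opposite
open Groth.Agent.QC (res resO res_res res_smul resO_resO app_res)
open Groth.Agent.KFlat (pgerm pgerm_res pgerm_smul exists_pgerm sky toSky)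

noncomputable section

namespace TMul

variable {X Y : Scheme.{u}} {N : X.Modules}

/-- A section of a restriction generates iff it does as a section of the module. -/
lemma isGen_of_isGen_image (j : Y ⟶ X) [IsOpenImmersion j] {W : Y.Opens} (e : Γ(N, j ''ᵁ W))
    (he : IsGen e) : IsGen (N := N.restrict j) (U := W) e := fun W' hW' =>
  (he (j ''ᵁ W') (j.image_mono hW')).comp (ConcreteCategory.bijective_of_isIso (j.appIso W').inv)

/-- Germs of sections of a module. -/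
def gm (N : X.Modules) {U : X.Opens} {x : X} (hx : x ∈ U) :
    Γ(N, U) →+ (DerSch.stalkFunctor X x).obj N :=
  pgerm (DCoh.toP.obj N) x U hx

lemma gm_res {U W : X.Opens} {x : X} (h : W ≤ U) (hx : x ∈ W) (s : Γ(N, U)) :
    gm N hx (res N h s) = gm N (h hx) s :=
  pgerm_res (DCoh.toP.obj N) x h hx s

lemma gm_smul {U : X.Opens} {x : X} (hx : x ∈ U) (c : Γ(X, U)) (s : Γ(N, U)) :
    gm N hx (c • s) = X.presheaf.germ U x hx c • gm N hx s :=
  pgerm_smul (DCoh.toP.obj N) x hx c s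

lemma exists_gm {x : X} (z : (DerSch.stalkFunctor X x).obj N) :
    ∃ (U : X.Opens) (hx : x ∈ U) (s : Γ(N, U)), gm N hx s = z := by
  obtain ⟨U, hx, s, rfl⟩ := exists_pgerm (DCoh.toP.obj N) x z
  exact ⟨U, hx, s, rfl⟩

lemma gm_eq_zero {U : X.Opens} {x : X} (hx : x ∈ U) (s : Γ(N, U)) (h : gm N hx s = 0) :
    ∃ (W : X.Opens) (hW : W ≤ U), x ∈ W ∧ res N hW s = 0 := by
  obtain ⟨W, hxW, i, j, hW⟩ := TopCat.Presheaf.germ_eq N.presheaf x hx hx s 0
    (h.trans (map_zero _).symm)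
  exact ⟨W, leOfHom i, hxW, hW.trans (map_zero _)⟩

theorem exists_section_of_epi_counit (f : X ⟶ Y) (hN : PicF.IsInvertible N)
    (hepi : Epi ((Scheme.Modules.pullbackPushforwardAdjunction f).counit.app N)) (x : X) :
    ∃ (U : Y.Opens) (t : Γ(N, f ⁻¹ᵁ U)) (W : X.Opens) (h : W ≤ f ⁻¹ᵁ U),
      f.base x ∈ U ∧ x ∈ W ∧ IsGen (res N h t) := by
  by_contra hn
  push Not at hn
  obtain ⟨V, g, hxV, hg⟩ := exists_isGen hN x
  let R := X.presheaf.stalk x
  let P : ModuleCat.{u} R := ModuleCat.of R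
    ((DerSch.stalkFunctor X x).obj N ⧸ ((IsLocalRing.maximalIdeal R) • ⊤ :
      Submodule R ((DerSch.stalkFunctor X x).obj N)))
  let φ : (DerSch.stalkFunctor X x).obj N ⟶ P := ModuleCat.ofHom (Submodule.mkQ _)
  have hzero : ∀ (U : Y.Opens) (hU : f.base x ∈ U) (t : Γ(N, f ⁻¹ᵁ U)),
      φ.hom (gm N (show x ∈ f ⁻¹ᵁ U from hU) t) = 0 := by
    intro U hU t
    refine (Submodule.Quotient.mk_eq_zero _).mpr ?_
    obtain ⟨c, hc⟩ := (hg (f ⁻¹ᵁ U ⊓ V) inf_le_right).2 (res N inf_le_left t)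
    have hx : x ∈ f ⁻¹ᵁ U ⊓ V := ⟨hU, hxV⟩
    rw [← gm_res (inf_le_left : f ⁻¹ᵁ U ⊓ V ≤ f ⁻¹ᵁ U) hx, ← hc, gm_smul]
    refine Submodule.smul_mem_smul (fun hu => ?_) trivial
    refine hn U t (X.basicOpen c) ((X.basicOpen_le c).trans inf_le_left) hU
      ((X.mem_basicOpen c x hx).mpr hu) ?_
    rw [← res_res N (X.basicOpen_le c) inf_le_left, ← hc, res_smul, res_res]
    exact isGen_smul (hg.res _) (RingedSpace.isUnit_res_basicOpen _ c)
  let adj := Scheme.Modules.pullbackPushforwardAdjunction f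
  have h0 : adj.counit.app N ≫ toSky x φ = 0 := by
    apply (adj.homEquiv _ _).injective
    rw [adj.homEquiv_naturality_right, Adjunction.homEquiv_unit, Adjunction.homEquiv_unit,
      adj.right_triangle_components]
    refine Scheme.Modules.hom_ext _ _ fun U => ?_
    ext t
    simp only [Functor.map_zero, comp_zero, Category.id_comp]
    exact funext fun h => hzero U h.down t
  have h1 : toSky x φ = 0 := by
    rw [← cancel_epi (adj.counit.app N), h0, comp_zero]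
  have hφ : φ.hom (gm N hxV g) = 0 :=
    congrFun (congrArg (fun q : N ⟶ (sky x).obj P => q.app V g) h1) ⟨hxV⟩
  have hmem := (Submodule.Quotient.mk_eq_zero _).mp hφ
  have hspan : ∀ z : (DerSch.stalkFunctor X x).obj N, ∃ r : R, z = r • gm N hxV g := by
    intro z
    obtain ⟨W, hxW, s, rfl⟩ := exists_gm z
    obtain ⟨c, hc⟩ := (hg (W ⊓ V) inf_le_right).2 (res N inf_le_left s)
    refine ⟨X.presheaf.germ (W ⊓ V) x ⟨hxW, hxV⟩ c, ?_⟩
    rw [← gm_res (inf_le_left : W ⊓ V ≤ W) ⟨hxW, hxV⟩, ← hc, gm_smul, gm_res]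
  obtain ⟨c, hcm, hc⟩ : ∃ c ∈ IsLocalRing.maximalIdeal R, gm N hxV g = c • gm N hxV g := by
    suffices ∀ z ∈ (IsLocalRing.maximalIdeal R • ⊤ : Submodule R ((DerSch.stalkFunctor X x).obj N)),
        ∃ c ∈ IsLocalRing.maximalIdeal R, z = c • gm N hxV g from this _ hmem
    intro z hz
    induction hz using Submodule.smul_induction_on' with
    | smul a ha n _ =>
      obtain ⟨r, rfl⟩ := hspan n
      exact ⟨a * r, Ideal.mul_mem_right _ _ ha, (mul_smul _ _ _).symm⟩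
    | add a _ b _ ha hb =>
      obtain ⟨c, hc, rfl⟩ := ha
      obtain ⟨d, hd, rfl⟩ := hb
      exact ⟨c + d, Ideal.add_mem _ hc hd, (add_smul _ _ _).symm⟩
  have hu : IsUnit (1 - c) := IsLocalRing.isUnit_one_sub_self_of_mem_nonunits c hcm
  have hg0 : gm N hxV g = 0 := by
    refine hu.smul_eq_zero.mp ?_
    rw [sub_smul, one_smul, ← hc, sub_self]
  obtain ⟨W, hW, hxW, hWg⟩ := gm_eq_zero hxV g hg0
  have h10 : (1 : Γ(X, W)) = 0 := (hg W hW).1 (by simp only [hWg, smul_zero])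
  have := congrArg (X.presheaf.germ W x hxW) h10
  rw [map_one, map_zero] at this
  exact one_ne_zero this

/-- Over an affine open of the base the generating sections can be taken on the whole preimage. -/
theorem exists_genLocus_of_epi_counit (f : X ⟶ Y) [QuasiCompact f] [QuasiSeparated f]
    (hN : PicF.IsInvertible N)
    (hepi : Epi ((Scheme.Modules.pullbackPushforwardAdjunction f).counit.app N))
    (V : Y.affineOpens) (x : X) (hx : f.base x ∈ V.1) :
    ∃ t : Coh.structureModule ((f ⁻¹ᵁ V.1 : X.Opens) : Scheme.{u}) ⟶ N.restrict (f ⁻¹ᵁ V.1).ι,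
      ⟨x, hx⟩ ∈ CohB1.genLocus _ t := by
  obtain ⟨U, t₀, W, hW, hxU, hxW, hgen⟩ := exists_section_of_epi_counit f hN hepi x
  obtain ⟨a, ha, hxa⟩ := V.2.exists_basicOpen_le ⟨f.base x, hxU⟩ hx
  let X' := f ⁻¹ᵁ V.1
  have : CompactSpace (X' : Scheme.{u}) :=
    isCompact_iff_compactSpace.mp (f.isCompact_preimage V.2.isCompact)
  have : IsAffine V.1.toScheme := V.2
  have : QuasiSeparatedSpace (X' : Scheme.{u}) :=
    quasiSeparatedSpace_of_quasiSeparated (f ∣_ V.1)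
  let b : Γ((X' : Scheme.{u}), ⊤) := X'.topIso.inv (f.app V.1 a)
  let D := (X' : Scheme.{u}).basicOpen b
  have hD : X'.ι ''ᵁ D = f ⁻¹ᵁ Y.basicOpen a := by
    simp only [D]
    rw [Scheme.preimage_basicOpen, Scheme.image_basicOpen]
    simp [b, X', Scheme.Opens.topIso]
    exact X.basicOpen_res_eq _ _
  have hle : X'.ι ''ᵁ (D.ι ''ᵁ ⊤) ≤ f ⁻¹ᵁ U := by
    rw [Scheme.Hom.image_top_eq_opensRange, Scheme.Opens.opensRange_ι, hD]
    exact f.preimage_mono ha
  let s : Coh.structureModule (D : Scheme.{u}) ⟶ (N.restrict X'.ι).restrict D.ι :=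
    homOf (L := (N.restrict X'.ι).restrict D.ι) (res N hle t₀)
  obtain ⟨t, ht⟩ := exists_genLocus_extend (isInvertible_restrict X'.ι hN) b rfl s
  refine ⟨t, ht.le ⟨⟨⟨x, hx⟩, ?_⟩, ?_, rfl⟩⟩
  · obtain ⟨z, hz, hzx⟩ := hD.ge (show x ∈ f ⁻¹ᵁ Y.basicOpen a from hxa)
    exact X'.ι.isOpenEmbedding.injective (a₂ := ⟨x, hx⟩) hzx ▸ hz
  · refine (mem_genLocus_iff s).mpr ⟨(D.ι ≫ X'.ι) ⁻¹ᵁ W, hxW, ?_⟩
    rw [val_homOf]
    have hle' : X'.ι ''ᵁ (D.ι ''ᵁ ((D.ι ≫ X'.ι) ⁻¹ᵁ W)) ≤ W := by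
      rintro _ ⟨_, ⟨y, hy, rfl⟩, rfl⟩
      exact hy
    have hA : X'.ι ''ᵁ (D.ι ''ᵁ ((D.ι ≫ X'.ι) ⁻¹ᵁ W)) ≤ X'.ι ''ᵁ (D.ι ''ᵁ ⊤) :=
      X'.ι.image_mono (D.ι.image_mono le_top)
    have h2 : IsGen (N := N) (res N hA (res N hle t₀)) := by
      have h3 := hgen.res hle'
      rw [res_res] at h3 ⊢
      exact h3
    exact isGen_of_isGen_image (N := N.restrict X'.ι) D.ι
      (res N hA (res N hle t₀) : Γ(N.restrict X'.ι, D.ι ''ᵁ ((D.ι ≫ X'.ι) ⁻¹ᵁ W)))
      (isGen_of_isGen_image (N := N) X'.ι (res N hA (res N hle t₀)) h2)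

theorem isRelAmple_tensorMod_of_epi_counit {L L' : X.Modules} (f : X ⟶ Y) [QuasiCompact f]
    (hL : RelAmple.IsRelAmple f L) (hL' : PicF.IsInvertible L') {n : ℕ} (hn : 0 < n)
    (hepi : Epi ((Scheme.Modules.pullbackPushforwardAdjunction f).counit.app (CohB1.tensorPow L' n))) :
    RelAmple.IsRelAmple f (CohB1.tensorMod L L') := by
  have := isSeparated_of_isRelAmple hL
  refine ⟨inferInstance, fun V => ?_⟩
  obtain ⟨e⟩ := nonempty_restrictTensorIso (f ⁻¹ᵁ V.1).ι L L'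
  refine isAmple_congr e (isAmple_tensorMod (hL.2 V) (isInvertible_restrict _ hL') fun x => ?_)
  obtain ⟨m, rfl⟩ : ∃ m, n = m + 1 := ⟨n - 1, by omega⟩
  obtain ⟨t, ht⟩ := exists_genLocus_of_epi_counit f (isInvertible_tensorPow hL' _) hepi V x.1 x.2
  obtain ⟨i⟩ := nonempty_restrictPowIso (f ⁻¹ᵁ V.1).ι L' (m + 1)
  exact ⟨m, t ≫ i.inv, by rw [genLocus_comp]; exact ht⟩

end TMul
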