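import Groth.Agent.TMul.RelAmpleOps
import Mathlib.AlgebraicGeometry.Morphisms.Immersion

/-!
Ampleness of external tensor products.
-/

set_option autoImplicit false
set_option backward.isDefEq.respectTransparency false

universe u

open CategoryTheory CategoryTheory.Limits AlgebraicGeometry TopologicalSpace Opposite
open Groth.Agent.QC (res resO res_res res_smul resO_resO app_res)

noncomputable section

namespace TMul

variable {X Y S P : Scheme.{u}}

/-- External tensor product, with projections `p`, `q`. -/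
abbrev ext (p : P ⟶ X) (q : P ⟶ Y) (L : X.Modules) (N : Y.Modules) : P.Modules :=
  CohB1.tensorMod ((Scheme.Modules.pullback p).obj L) ((Scheme.Modules.pullback q).obj N)

lemma isInvertible_ext (p : P ⟶ X) (q : P ⟶ Y) {L : X.Modules} {N : Y.Modules}
    (hL : PicF.IsInvertible L) (hN : PicF.IsInvertible N) : PicF.IsInvertible (ext p q L N) :=
  isInvertible_tensorMod (PicLoc.isInvertible_pullback p hL) (PicLoc.isInvertible_pullback q hN)

/-- Inverse image of an external tensor product. -/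
lemma nonempty_pullExtIso {Q : Scheme.{u}} (i : Q ⟶ P) (p : P ⟶ X) (q : P ⟶ Y) (p' : Q ⟶ X)
    (q' : Q ⟶ Y) (hp : i ≫ p = p') (hq : i ≫ q = q') (L : X.Modules) (N : Y.Modules) :
    Nonempty ((Scheme.Modules.pullback i).obj (ext p q L N) ≅ ext p' q' L N) := by
  subst hp hq
  obtain ⟨e⟩ := nonempty_pullTensorIso i ((Scheme.Modules.pullback p).obj L)
    ((Scheme.Modules.pullback q).obj N)
  exact ⟨e.symm ≪≫ PicGrp.tensorModIso ((Scheme.Modules.pullbackComp i p).app L)
    ((Scheme.Modules.pullbackComp i q).app N)⟩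

/-- Absolute products. -/
theorem isAmple_ext_prod {L : X.Modules} {N : Y.Modules} (hL : CohB1.IsAmple L)
    (hN : CohB1.IsAmple N) :
    CohB1.IsAmple (ext (pullback.fst (terminal.from X) (terminal.from Y))
      (pullback.snd (terminal.from X) (terminal.from Y)) L N) := by
  have := hL.2.1
  have := hN.2.1
  have : CompactSpace (pullback (terminal.from X) (terminal.from Y) : Scheme.{u}) :=
    QuasiCompact.compactSpace_of_compactSpace (pullback.fst (terminal.from X) (terminal.from Y))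
  refine ⟨isInvertible_ext _ _ hL.1 hN.1, inferInstance, fun z => ?_⟩
  obtain ⟨a, s, hs, hsa⟩ := hL.2.2 ((pullback.fst (terminal.from X) (terminal.from Y)).base z)
  obtain ⟨b, t, ht, hta⟩ := hN.2.2 ((pullback.snd (terminal.from X) (terminal.from Y)).base z)
  obtain ⟨s', hs'⟩ := exists_genLocus_pow hL.1 (N := a * b + a + b) ⟨b + 1, by ring⟩ s
  obtain ⟨t', ht'⟩ := exists_genLocus_pow hN.1 (N := a * b + a + b) ⟨a + 1, by ring⟩ t
  obtain ⟨s'', hs''⟩ := exists_pullback_section (pullback.fst (terminal.from X) (terminal.from Y)) hL.1 s'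
  obtain ⟨t'', ht''⟩ := exists_pullback_section (pullback.snd (terminal.from X) (terminal.from Y)) hN.1 t'
  obtain ⟨e⟩ := nonempty_powTensorIso
    ((Scheme.Modules.pullback (pullback.fst (terminal.from X) (terminal.from Y))).obj L)
    ((Scheme.Modules.pullback (pullback.snd (terminal.from X) (terminal.from Y))).obj N)
    (a * b + a + b + 1)
  refine ⟨_, SecTwist.tmulHom s'' t'' ≫ e.inv, ?_⟩
  rw [genLocus_comp, genLocus_tmulHom
    (isInvertible_tensorPow (PicLoc.isInvertible_pullback _ hL.1) _)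
    (isInvertible_tensorPow (PicLoc.isInvertible_pullback _ hN.1) _), hs'', ht'', hs', ht']
  refine ⟨⟨hs, ht⟩, ?_⟩
  let A := CohB1.genLocus _ s
  let B := CohB1.genLocus _ t
  have : IsAffine A.toScheme := hsa
  have : IsAffine B.toScheme := hta
  have : IsAffine (pullback (terminal.from A.toScheme) (terminal.from B.toScheme)) := inferInstance
  let m := pullback.map (terminal.from A.toScheme) (terminal.from B.toScheme) (terminal.from X)
    (terminal.from Y) A.ι B.ι (𝟙 _) (Subsingleton.elim _ _) (Subsingleton.elim _ _)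
  convert isAffineOpen_opensRange m
  apply SetLike.coe_injective
  refine Eq.trans ?_ (Scheme.Pullback.range_map (terminal.from A.toScheme) (terminal.from B.toScheme)
    (terminal.from X) (terminal.from Y) A.ι B.ι (𝟙 _) (Subsingleton.elim _ _) (Subsingleton.elim _ _)).symm
  simp [A, B]

/-- Pullback to a scheme over the absolute product. -/
theorem isAmple_ext_of_isInducing [CompactSpace P] (p : P ⟶ X) (q : P ⟶ Y)
    (h : Topology.IsInducing (pullback.lift (f := terminal.from X) (g := terminal.from Y) p q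
      (Subsingleton.elim _ _)).base)
    {L : X.Modules} {N : Y.Modules} (hL : CohB1.IsAmple L) (hN : CohB1.IsAmple N) :
    CohB1.IsAmple (ext p q L N) := by
  obtain ⟨e⟩ := nonempty_pullExtIso (pullback.lift p q (Subsingleton.elim _ _))
    (pullback.fst (terminal.from X) (terminal.from Y)) _ p q
    (pullback.lift_fst _ _ _) (pullback.lift_snd _ _ _) L N
  exact isAmple_congr e (isAmple_pullback _ h (isAmple_ext_prod hL hN))

lemma isInducing_lift (f : X ⟶ S) (g : Y ⟶ S) :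
    Topology.IsInducing (pullback.lift (f := terminal.from X) (g := terminal.from Y)
      (pullback.fst f g) (pullback.snd f g) (Subsingleton.elim _ _)).base := by
  let m := pullback.map f g (f ≫ terminal.from S) (g ≫ terminal.from S) (𝟙 X) (𝟙 Y)
    (terminal.from S) (Category.id_comp _).symm (Category.id_comp _).symm
  have : IsImmersion m :=
    MorphismProperty.of_isPullback (pullback_map_diagonal_isPullback f g (terminal.from S)) inferInstance
  let n := (pullback.congrHom (terminal.comp_from f) (terminal.comp_from g)).hom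
  have : pullback.lift (f := terminal.from X) (g := terminal.from Y)
      (pullback.fst f g) (pullback.snd f g) (Subsingleton.elim _ _) = m ≫ n := by
    ext <;> simp [m, n]
  rw [this]
  exact (m ≫ n).isEmbedding.isInducing

theorem isAmple_ext_fibreProd [QuasiSeparatedSpace S] (f : X ⟶ S) (g : Y ⟶ S) {L : X.Modules}
    {N : Y.Modules} (hL : CohB1.IsAmple L) (hN : CohB1.IsAmple N) :
    CohB1.IsAmple (ext (pullback.fst f g) (pullback.snd f g) L N) := by
  have := hL.2.1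
  have := hN.2.1
  have : CompactSpace (pullback f g : Scheme.{u}) :=
    QuasiCompact.compactSpace_of_compactSpace (pullback.fst f g)
  exact isAmple_ext_of_isInducing _ _ (isInducing_lift f g) hL hN

theorem isRelAmple_ext_map {X₁ X₂ Y₁ Y₂ : Scheme.{u}} (a₁ : Y₁ ⟶ S) (a₂ : Y₂ ⟶ S)
    (f₁ : X₁ ⟶ Y₁) (f₂ : X₂ ⟶ Y₂) [QuasiCompact f₁] [QuasiCompact f₂] {L₁ : X₁.Modules}
    {L₂ : X₂.Modules} (h₁ : RelAmple.IsRelAmple f₁ L₁) (h₂ : RelAmple.IsRelAmple f₂ L₂)
    (r : pullback (f₁ ≫ a₁) (f₂ ≫ a₂) ⟶ pullback a₁ a₂) [QuasiCompact r]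
    (hr₁ : r ≫ pullback.fst a₁ a₂ = pullback.fst (f₁ ≫ a₁) (f₂ ≫ a₂) ≫ f₁)
    (hr₂ : r ≫ pullback.snd a₁ a₂ = pullback.snd (f₁ ≫ a₁) (f₂ ≫ a₂) ≫ f₂) :
    RelAmple.IsRelAmple r
      (ext (pullback.fst (f₁ ≫ a₁) (f₂ ≫ a₂)) (pullback.snd (f₁ ≫ a₁) (f₂ ≫ a₂)) L₁ L₂) := by
  refine isRelAmple_of_exists (isInvertible_ext _ _ (isInvertible_of_isRelAmple h₁)
    (isInvertible_of_isRelAmple h₂)) fun y => ?_
  obtain ⟨W₁, hW₁, hy₁, -⟩ := exists_isAffineOpen_mem_and_subset
    (x := (pullback.fst a₁ a₂).base y) (U := ⊤) trivial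
  obtain ⟨W₂, hW₂, hy₂, -⟩ := exists_isAffineOpen_mem_and_subset
    (x := (pullback.snd a₁ a₂).base y) (U := ⊤) trivial
  obtain ⟨V, hV, hyV, hVW⟩ := exists_isAffineOpen_mem_and_subset (x := y)
    (U := pullback.fst a₁ a₂ ⁻¹ᵁ W₁ ⊓ pullback.snd a₁ a₂ ⁻¹ᵁ W₂) ⟨hy₁, hy₂⟩
  refine ⟨V, hyV, ?_⟩
  let π₁ := pullback.fst (f₁ ≫ a₁) (f₂ ≫ a₂)
  let π₂ := pullback.snd (f₁ ≫ a₁) (f₂ ≫ a₂)
  have hle₁ : r ⁻¹ᵁ V ≤ π₁ ⁻¹ᵁ (f₁ ⁻¹ᵁ W₁) := fun x hx => by
    have := (hVW hx).1
    change (π₁ ≫ f₁).base x ∈ W₁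
    rw [← hr₁]
    exact this
  have hle₂ : r ⁻¹ᵁ V ≤ π₂ ⁻¹ᵁ (f₂ ⁻¹ᵁ W₂) := fun x hx => by
    have := (hVW hx).2
    change (π₂ ≫ f₂).base x ∈ W₂
    rw [← hr₂]
    exact this
  let p := π₁.resLE (f₁ ⁻¹ᵁ W₁) (r ⁻¹ᵁ V) hle₁
  let q := π₂.resLE (f₂ ⁻¹ᵁ W₂) (r ⁻¹ᵁ V) hle₂
  have : CompactSpace (r ⁻¹ᵁ V : Scheme.{u}) :=
    isCompact_iff_compactSpace.mp (r.isCompact_preimage hV.isCompact)
  have hind : Topology.IsInducing (pullback.lift (f := terminal.from (f₁ ⁻¹ᵁ W₁).toScheme)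
      (g := terminal.from (f₂ ⁻¹ᵁ W₂).toScheme) p q (Subsingleton.elim _ _)).base := by
    refine Topology.IsInducing.of_comp ?_ (pullback.map (terminal.from (f₁ ⁻¹ᵁ W₁).toScheme)
      (terminal.from (f₂ ⁻¹ᵁ W₂).toScheme) (terminal.from X₁) (terminal.from X₂) (f₁ ⁻¹ᵁ W₁).ι
      (f₂ ⁻¹ᵁ W₂).ι (𝟙 _) (Subsingleton.elim _ _) (Subsingleton.elim _ _)).continuous ?_
    · exact Scheme.Hom.continuous _
    · rw [← TopCat.coe_comp, ← Scheme.Hom.comp_base,
        show pullback.lift p q _ ≫ pullback.map (terminal.from (f₁ ⁻¹ᵁ W₁).toScheme)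
            (terminal.from (f₂ ⁻¹ᵁ W₂).toScheme) (terminal.from X₁) (terminal.from X₂) (f₁ ⁻¹ᵁ W₁).ι
            (f₂ ⁻¹ᵁ W₂).ι (𝟙 _) (Subsingleton.elim _ _) (Subsingleton.elim _ _) =
          (r ⁻¹ᵁ V).ι ≫ pullback.lift π₁ π₂ (Subsingleton.elim _ _) by ext <;> simp [p, q, π₁, π₂],
        Scheme.Hom.comp_base, TopCat.coe_comp]
      exact (isInducing_lift _ _).comp (r ⁻¹ᵁ V).ι.isOpenEmbedding.isInducing
  refine isAmple_congr ?_ (isAmple_ext_of_isInducing p q hind (h₁.2 ⟨W₁, hW₁⟩) (h₂.2 ⟨W₂, hW₂⟩))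
  exact PicGrp.tensorModIso
      ((Scheme.Modules.pullback p).mapIso ((Scheme.Modules.restrictFunctorIsoPullback _).app L₁) ≪≫
        (Scheme.Modules.pullbackComp _ _).app L₁ ≪≫
        (Scheme.Modules.pullbackCongr (Scheme.Hom.resLE_comp_ι π₁ hle₁)).app L₁ ≪≫
        ((Scheme.Modules.pullbackComp _ _).app L₁).symm ≪≫
        ((Scheme.Modules.restrictFunctorIsoPullback (r ⁻¹ᵁ V).ι).app _).symm)
      ((Scheme.Modules.pullback q).mapIso ((Scheme.Modules.restrictFunctorIsoPullback _).app L₂) ≪≫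
        (Scheme.Modules.pullbackComp _ _).app L₂ ≪≫
        (Scheme.Modules.pullbackCongr (Scheme.Hom.resLE_comp_ι π₂ hle₂)).app L₂ ≪≫
        ((Scheme.Modules.pullbackComp _ _).app L₂).symm ≪≫
        ((Scheme.Modules.restrictFunctorIsoPullback (r ⁻¹ᵁ V).ι).app _).symm) ≪≫
    (nonempty_restrictTensorIso (r ⁻¹ᵁ V).ι _ _).some

end TMul
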