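import Groth.Agent.TMul.RelAmpleCrit
import Groth.Agent.QC.FTSup

/-!
Finite type quotients `g^* F ⟶ G` when the counit is an epimorphism.
-/

set_option autoImplicit false
set_option backward.isDefEq.respectTransparency false

universe u

open CategoryTheory CategoryTheory.Limits AlgebraicGeometry TopologicalSpace Opposite
open Groth.Agent.QC (res resO res_res res_smul resO_resO app_res)

noncomputable section

namespace TMul

variable {X Y : Scheme.{u}} {G : X.Modules}

/-- Finitely many sections generate over a quasi-compact open. -/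
theorem exists_finset_secGen [hG : G.IsQuasicoherent] (hFT : CohB1.IsFT G) (Z : X.Opens)
    (hZ : IsCompact (Z : Set X)) (h : SecGen G Z) :
    ∃ T : Finset Γ(G, Z), ∀ x ∈ Z, ∀ (U : X.Opens) (t : Γ(G, U)), x ∈ U →
      ∃ (W : X.Opens) (hU : W ≤ U) (hW : W ≤ Z), x ∈ W ∧
        res G hU t ∈ Submodule.span Γ(X, W) (res G hW '' (T : Set Γ(G, Z))) := by
  classical
  have hpt : ∀ x : Z, ∃ (W : X.Opens) (T : Finset Γ(G, Z)), x.1 ∈ W ∧ W ≤ Z ∧
      ∀ y ∈ W, ∀ (U : X.Opens) (t : Γ(G, U)), y ∈ U →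
      ∃ (W' : X.Opens) (hU : W' ≤ U) (hW : W' ≤ Z), y ∈ W' ∧
        res G hU t ∈ Submodule.span Γ(X, W') (res G hW '' (T : Set Γ(G, Z))) := by
    rintro ⟨x, hx⟩
    obtain ⟨D, hD, hxD, hDZ⟩ := exists_isAffineOpen_mem_and_subset hx
    obtain ⟨E₀, hE₀⟩ := ((Groth.Agent.QC.isFT_iff_finite_sections (M := G)).mp hFT ⟨D, hD⟩).fg_top
    choose W hWD hWZ hxW hm using fun e : Γ(G, D) => h x hx D e hxD
    have hfin : ∀ e, ∃ Te : Finset Γ(G, Z),
        res G (hWD e) e ∈ Submodule.span Γ(X, W e) (res G (hWZ e) '' (Te : Set Γ(G, Z))) := by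
      intro e
      obtain ⟨S, hS, hS'⟩ := Submodule.mem_span_finite_of_mem_span (hm e)
      choose pre hpre using fun s : S => hS s.2
      refine ⟨S.attach.image pre, Submodule.span_mono ?_ hS'⟩
      intro s hs
      exact ⟨pre ⟨s, hs⟩, by simp, hpre _⟩
    choose Te hTe using hfin
    obtain ⟨f, hf, hxf⟩ := hD.exists_basicOpen_le (V := D ⊓ E₀.inf W)
      ⟨x, hxD, (Finset.inf_induction (p := fun U : X.Opens => x ∈ U) trivial
        (fun _ ha _ hb => ⟨ha, hb⟩) fun e _ => hxW e)⟩ hxD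
    refine ⟨X.basicOpen f, E₀.biUnion Te, hxf, (X.basicOpen_le f).trans hDZ, fun y hy U t hyU => ?_⟩
    obtain ⟨g, hg, hyg⟩ := hD.exists_basicOpen_le (V := X.basicOpen f ⊓ U) ⟨y, hy, hyU⟩
      (X.basicOpen_le f hy)
    have hgD : X.basicOpen g ≤ D := X.basicOpen_le g
    refine ⟨X.basicOpen g, hg.trans inf_le_right, hgD.trans hDZ, hyg, ?_⟩
    refine (Submodule.span_le.mpr ?_)
      (Groth.Agent.QC.mem_span_basicOpen hD g hE₀ (res G (hg.trans inf_le_right) t))
    rintro _ ⟨e, he, rfl⟩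
    have hWe : X.basicOpen g ≤ W e :=
      hg.trans (inf_le_left.trans (hf.trans (inf_le_right.trans (Finset.inf_le he))))
    have h' := Groth.Agent.QC.res_mem_span (F := G) hWe (hTe e)
    rw [Groth.Agent.QC.image_res_res, res_res] at h'
    refine Submodule.span_mono (Set.image_mono ?_) h'
    rw [Finset.coe_biUnion]
    exact Set.subset_biUnion_of_mem (u := fun e => (Te e : Set Γ(G, Z))) he
  choose W T hxW hWZ hgen using hpt
  obtain ⟨s, hs⟩ := hZ.elim_finite_subcover (fun x : Z => (W x : Set X)) (fun x => (W x).2)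
    fun x hx => Set.mem_iUnion.mpr ⟨⟨x, hx⟩, hxW ⟨x, hx⟩⟩
  refine ⟨s.biUnion T, fun x hx U t hxU => ?_⟩
  obtain ⟨y, hy, hxy⟩ := Set.mem_iUnion₂.mp (hs hx)
  obtain ⟨W', hU, hW, hxW', hm⟩ := hgen y x hxy U t hxU
  refine ⟨W', hU, hW, hxW', Submodule.span_mono (Set.image_mono ?_) hm⟩
  rw [Finset.coe_biUnion]
  exact Set.subset_biUnion_of_mem (u := fun e => (T e : Set Γ(G, Z))) hy

/-- A quotient of the inverse image of a finite type quasi-coherent module. -/
theorem exists_ft_quotient [CompactSpace Y] [QuasiSeparatedSpace Y] (f : X ⟶ Y) [QuasiCompact f]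
    [QuasiSeparated f] [hG : G.IsQuasicoherent] (hFT : CohB1.IsFT G)
    (hepi : Epi ((Scheme.Modules.pullbackPushforwardAdjunction f).counit.app G)) :
    ∃ (F : Y.Modules) (φ : (Scheme.Modules.pullback f).obj F ⟶ G),
      Coh.IsQCoh F ∧ CohB1.IsFT F ∧ Epi φ := by
  classical
  have hV : ∀ y : Y, ∃ V : Y.affineOpens, y ∈ V.1 := fun y => by
    obtain ⟨V, hV, hxV, -⟩ := exists_isAffineOpen_mem_and_subset (x := y) (U := ⊤) trivial
    exact ⟨⟨V, hV⟩, hxV⟩
  choose V hyV using hV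
  obtain ⟨I, hI⟩ := isCompact_univ.elim_finite_subcover (fun y : Y => ((V y).1 : Set Y))
    (fun y => (V y).1.2) fun y _ => Set.mem_iUnion.mpr ⟨y, hyV y⟩
  choose T hT using fun y : Y => exists_finset_secGen hFT (f ⁻¹ᵁ (V y).1)
    (f.isCompact_preimage (V y).2.isCompact) (secGen_of_epi_counit f hepi (V y))
  let P := (Scheme.Modules.pushforward f).obj G
  have : P.IsQuasicoherent := Groth.Agent.QC.isQCoh_pushforward (M := G) f
  obtain ⟨S, hS, hmem⟩ := Groth.Agent.QC.exists_sub_containing (F := P) I (fun y => (V y).1)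
    (fun y => (V y).2) (fun y => T y)
  obtain ⟨hq, hft⟩ := Groth.Agent.QC.Sub.isCoh_toModules hS
  let adj := Scheme.Modules.pullbackPushforwardAdjunction f
  refine ⟨S.toModules, (adj.homEquiv _ _).symm S.ι, hq, hft,
    InvGen.epi_of_locally _ fun U t x hxU => ?_⟩
  obtain ⟨y, hy, hxy⟩ := Set.mem_iUnion₂.mp (hI (Set.mem_univ (f.base x)))
  obtain ⟨W, hU, hW, hxW, hm⟩ := hT y x hxy U t hxU
  suffices key : ∀ w ∈ Submodule.span Γ(X, W) (res G hW '' (T y : Set Γ(G, f ⁻¹ᵁ (V y).1))),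
      ∃ z, ((adj.homEquiv _ _).symm S.ι).app W z = w from ⟨W, hU, hxW, key _ hm⟩
  intro w hw
  induction hw using Submodule.span_induction with
  | mem w hw =>
    obtain ⟨s, hs, rfl⟩ := hw
    obtain ⟨a, ha⟩ := (S.range_ι_app _ _).mpr (hmem y hy s hs)
    let u : Γ((Scheme.Modules.pullback f).obj S.toModules, f ⁻¹ᵁ (V y).1) :=
      (adj.unit.app S.toModules).app (V y).1 a
    refine ⟨res _ hW u, (app_res _ hW u).symm.trans (congrArg (res G hW) ?_)⟩
    have h1 : adj.unit.app S.toModules ≫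
        (Scheme.Modules.pushforward f).map ((adj.homEquiv _ _).symm S.ι) = S.ι :=
      (Adjunction.homEquiv_unit _ _ _ _).symm.trans (Equiv.apply_symm_apply _ _)
    exact (congrArg (fun q : S.toModules ⟶ P => q.app (V y).1 a) h1).trans ha
  | zero => exact ⟨0, map_zero _⟩
  | add a b _ _ ha hb =>
    obtain ⟨p, hp⟩ := ha
    obtain ⟨q, hq⟩ := hb
    exact ⟨p + q, by rw [map_add, hp, hq]⟩
  | smul c a _ ha =>
    obtain ⟨p, hp⟩ := ha
    exact ⟨c • p, by rw [app_smul, hp]⟩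

end TMul
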