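import Groth.Agent.TMul.SecGen

/-!
Relative ampleness by epimorphic counits on twists of finite type ideals, and conversely.
-/

set_option autoImplicit false
set_option backward.isDefEq.respectTransparency false

universe u

open CategoryTheory CategoryTheory.Limits AlgebraicGeometry TopologicalSpace Opposite
open Groth.Agent.QC (res resO res_res res_smul resO_resO app_res)

noncomputable section

namespace TMul

variable {X Y : Scheme.{u}} {L F : X.Modules}

/-- Generation by sections of a restriction on affine opens gives local generation. -/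
theorem secGen_of_genOn [hF : F.IsQuasicoherent] (Z : X.Opens)
    (h : ∀ z : (Z : Scheme.{u}), ∃ D : (Z : Scheme.{u}).Opens, IsAffineOpen D ∧ z ∈ D ∧
      GenOn (F.restrict Z.ι) D) : SecGen F Z := by
  intro x hx U t hxU
  obtain ⟨D, hD, hxD, hgen⟩ := h ⟨x, hx⟩
  obtain ⟨f, hf, hxf⟩ := hD.exists_basicOpen_le (V := Z.ι ⁻¹ᵁ U) ⟨⟨x, hx⟩, hxU⟩ hxD
  have hU' : Z.ι ''ᵁ ((Z : Scheme.{u}).basicOpen f) ≤ U := by
    rintro _ ⟨y, hy, rfl⟩; exact hf hy
  have hZ' : Z.ι ''ᵁ ((Z : Scheme.{u}).basicOpen f) ≤ Z := Z.ι_image_le _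
  refine ⟨_, hU', hZ', ⟨⟨x, hx⟩, hxf, rfl⟩, ?_⟩
  have : (F.restrict Z.ι).IsQuasicoherent := Groth.Agent.QC.isQCoh_restrict Z.ι hF
  have hmem := Groth.Agent.QC.mem_span_basicOpen (F := F.restrict Z.ι) hD f hgen
    (res F hU' t : Γ(F.restrict Z.ι, (Z : Scheme.{u}).basicOpen f))
  suffices key : ∀ w ∈ Submodule.span Γ((Z : Scheme.{u}), (Z : Scheme.{u}).basicOpen f)
      (res (F.restrict Z.ι) ((Z : Scheme.{u}).basicOpen_le f) ''
        Set.range (res (F.restrict Z.ι) (le_top : D ≤ ⊤))),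
      (w : Γ(F, Z.ι ''ᵁ ((Z : Scheme.{u}).basicOpen f))) ∈
        Submodule.span Γ(X, Z.ι ''ᵁ ((Z : Scheme.{u}).basicOpen f)) (Set.range (res F hZ'))
    from key _ hmem
  intro w hw
  induction hw using Submodule.span_induction with
  | mem w hw =>
    obtain ⟨_, ⟨b, rfl⟩, rfl⟩ := hw
    have htop : Z ≤ Z.ι ''ᵁ ⊤ := Z.ι_image_top.ge
    refine Submodule.subset_span ⟨res F htop (b : Γ(F, Z.ι ''ᵁ ⊤)), ?_⟩
    rw [res_res, res_res]
    rfl
  | zero => exact Submodule.zero_mem _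
  | add a b _ _ ha hb => exact Submodule.add_mem _ ha hb
  | smul c a _ ha =>
    exact Submodule.smul_mem _ ((Z.ι.appIso ((Z : Scheme.{u}).basicOpen f)).inv c) ha

/-- Powers of a relatively ample module generate over preimages of affines. -/
theorem exists_secGen_twist (f : X ⟶ Y) (hL : RelAmple.IsRelAmple f L) [hF : F.IsQuasicoherent]
    (hFT : CohB1.IsFT F) (V : Y.affineOpens) :
    ∃ n₀ : ℕ, ∀ n, n₀ ≤ n → SecGen (CohB1.tensorMod F (CohB1.tensorPow L n)) (f ⁻¹ᵁ V.1) := by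
  let Z := f ⁻¹ᵁ V.1
  have : (F.restrict Z.ι).IsQuasicoherent := Groth.Agent.QC.isQCoh_restrict Z.ι hF
  obtain ⟨n₀, h⟩ := exists_forall_genOn (F := F.restrict Z.ι) (hL.2 V)
    (Groth.Agent.QC.isFT_restrict Z.ι hFT)
  refine ⟨n₀, fun n hn => ?_⟩
  have := isQCoh_tensor (F := F) (isInvertible_tensorPow (isInvertible_of_isRelAmple hL) n)
  refine secGen_of_genOn (hF := this) _ fun z => ?_
  obtain ⟨D, hD, hzD, hgen⟩ := h n hn z
  obtain ⟨e₁⟩ := nonempty_restrictPowIso Z.ι L n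
  obtain ⟨e₂⟩ := nonempty_restrictTensorIso Z.ι F (CohB1.tensorPow L n)
  exact ⟨D, hD, hzD, hgen.congr (PicGrp.tensorModIso (Iso.refl _) e₁ ≪≫ e₂)⟩

theorem exists_forall_epi_counit (f : X ⟶ Y) [CompactSpace X] (hL : RelAmple.IsRelAmple f L)
    [hF : F.IsQuasicoherent] (hFT : CohB1.IsFT F) :
    ∃ n₀ : ℕ, 0 < n₀ ∧ ∀ n : ℕ, n₀ ≤ n →
      Epi ((Scheme.Modules.pullbackPushforwardAdjunction f).counit.app
        (CohB1.tensorMod F (CohB1.tensorPow L n))) := by
  have hV : ∀ x : X, ∃ V : Y.affineOpens, f.base x ∈ V.1 := fun x => by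
    obtain ⟨V, hV, hxV, -⟩ := exists_isAffineOpen_mem_and_subset (x := f.base x) (U := ⊤) trivial
    exact ⟨⟨V, hV⟩, hxV⟩
  choose V hxV using hV
  choose k hk using fun x : X => exists_secGen_twist f hL hFT (V x) (F := F)
  obtain ⟨S, hS⟩ := isCompact_univ.elim_finite_subcover
    (fun x : X => ((f ⁻¹ᵁ (V x).1 : X.Opens) : Set X)) (fun x => (f ⁻¹ᵁ (V x).1).2)
    (fun x _ => Set.mem_iUnion.mpr ⟨x, hxV x⟩)
  refine ⟨S.sup k + 1, Nat.succ_pos _, fun n hn => epi_counit_of_secGen f fun x => ?_⟩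
  obtain ⟨y, hy, hxy⟩ := Set.mem_iUnion₂.mp (hS (Set.mem_univ x))
  exact ⟨(V y).1, hxy, hk y n ((Finset.le_sup hy).trans ((Nat.le_succ _).trans hn))⟩

/-- Generation of twists of finite type ideals gives ampleness over an open. -/
theorem isAmple_restrict_of_secGen [CompactSpace X] [QuasiSeparatedSpace X]
    (hL : PicF.IsInvertible L) (Z : X.Opens) (hZ : IsCompact (Z : Set X))
    (h : ∀ (J : X.Modules) (i : J ⟶ Coh.structureModule X), Mono i → Coh.IsQCoh J → CohB1.IsFT J →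
      ∃ n : ℕ, 0 < n ∧ SecGen (CohB1.tensorMod J (CohB1.tensorPow L n)) Z) :
    CohB1.IsAmple (L.restrict Z.ι) := by
  refine ⟨isInvertible_restrict _ hL, isCompact_iff_compactSpace.mp hZ, fun ⟨x, hx⟩ => ?_⟩
  obtain ⟨D, hD, hxD, hDZ⟩ := exists_isAffineOpen_mem_and_subset hx
  obtain ⟨I, J, i, hi, hq, hft, hI, -, hsupp⟩ := Groth.Agent.QC.exists_ftIdeal D hD.isCompact
  obtain ⟨n, hn, hgen⟩ := h J i hi hq hft
  let P := CohB1.tensorPow L n
  have hP : PicF.IsInvertible P := isInvertible_tensorPow hL n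
  -- a generator near `x` of `J ⊗ P`
  have h1 : (1 : Γ(X, D)) ∈ I.ideal ⟨D, hD⟩ := by
    by_contra h'
    obtain ⟨m, hm, hIm⟩ := Ideal.exists_le_maximal (I.ideal ⟨D, hD⟩) (fun e => h' (by rw [e]; trivial))
    have hxm : hD.fromSpec ⟨m, hm.isPrime⟩ ∈ D := by
      rw [← SetLike.mem_coe, ← IsAffineOpen.range_fromSpec hD]
      exact ⟨_, rfl⟩
    have : hD.fromSpec ⟨m, hm.isPrime⟩ ∈ (I.support : Set X) := by
      rw [SetLike.mem_coe, Scheme.IdealSheafData.mem_support_iff_of_mem (U := ⟨D, hD⟩) hxm,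
        Scheme.mem_zeroLocus_iff]
      intro c hc hcx
      have : (⟨m, hm.isPrime⟩ : PrimeSpectrum Γ(X, D)) ∈ hD.fromSpec ⁻¹ᵁ X.basicOpen c := hcx
      rw [IsAffineOpen.fromSpec_preimage_basicOpen, PrimeSpectrum.mem_basicOpen] at this
      exact this (hIm hc)
    rw [hsupp] at this
    exact this hxm
  rw [hI] at h1
  obtain ⟨u, hu⟩ := h1
  obtain ⟨V₀, e₀, hxV₀, he₀⟩ := exists_isGen hP x
  obtain ⟨W, hWU, hWZ, hxW, hm⟩ := hgen x hx (D ⊓ V₀)
    (tm (res J inf_le_left u) (res P inf_le_right e₀)) ⟨hxD, hxV₀⟩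
  rw [res_tm, res_res, res_res] at hm
  let β : BilOn J P P Z :=
    { B := fun O _ => LinearMap.mk₂ Γ(X, O) (fun m e => fnOf i m • e)
        (fun m m' e => by rw [fnOf_add, add_smul])
        (fun r m e => by rw [fnOf_smul, mul_smul])
        (fun m e e' => smul_add _ _ _)
        (fun r m e => smul_comm _ _ _)
      compat := fun {O' O} h' _ m e => by
        simp only [LinearMap.mk₂_apply]
        rw [res_smul, fnOf_res] }
  have hval : ∀ (s : Γ(CohB1.tensorMod J P, Z)) {O : X.Opens} (hO : O ≤ Z) (m : Γ(J, O))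
      (e : Γ(P, O)), res _ hO s = tm m e → res P hO (β.eval s) = fnOf i m • e :=
    fun s O hO m e h' => by
      rw [β.eval_eq hO (p := m ⊗ₜ e) (by rw [tt_tmul, h']), TensorProduct.lift.tmul]
      rfl
  have heW : IsGen (res P (hWU.trans inf_le_right) e₀) := he₀.res _
  have huW : fnOf i (res J (hWU.trans inf_le_left) u) = 1 :=
    (fnOf_res i _ u).trans ((congrArg (resO X (hWU.trans inf_le_left)) hu).trans (map_one _))
  -- some section over `Z` does not vanish at `x`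
  obtain ⟨s, c, hc, hcu⟩ : ∃ (s : Γ(CohB1.tensorMod J P, Z)) (c : Γ(X, W)),
      res P hWZ (β.eval s) = c • res P (hWU.trans inf_le_right) e₀ ∧
      IsUnit (X.presheaf.germ W x hxW c) := by
    by_contra hn'
    push Not at hn'
    have key : ∀ w ∈ Submodule.span Γ(X, W) (Set.range (res (CohB1.tensorMod J P) hWZ)),
        ∀ m : Γ(J, W), w = tm m (res P (hWU.trans inf_le_right) e₀) →
          ¬ IsUnit (X.presheaf.germ W x hxW (fnOf i m)) := by
      intro w hw
      induction hw using Submodule.span_induction with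
      | mem a ha =>
        obtain ⟨s, rfl⟩ := ha
        intro m hm' hu'
        exact hn' s (fnOf i m) (hval s hWZ m _ hm') hu'
      | zero =>
        intro m hm' hu'
        have : m = 0 := (tm_bijective (M := J) heW W le_rfl).1 (by
          simp only [Groth.Agent.QC.res_self]
          rw [← hm', zero_tm])
        rw [this] at hu'
        simp [fnOf] at hu'
      | add a b _ _ ha hb =>
        intro m hm' hu'
        obtain ⟨ma, hma⟩ := (tm_bijective (M := J) heW W le_rfl).2 a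
        obtain ⟨mb, hmb⟩ := (tm_bijective (M := J) heW W le_rfl).2 b
        simp only [Groth.Agent.QC.res_self] at hma hmb
        have : m = ma + mb := (tm_bijective (M := J) heW W le_rfl).1 (by
          simp only [Groth.Agent.QC.res_self]
          rw [← hm', tm_add, hma, hmb])
        rw [this, fnOf_add, map_add] at hu'
        exact IsLocalRing.nonunits_add (ha ma hma.symm) (hb mb hmb.symm) hu'
      | smul r a _ ha =>
        intro m hm' hu'
        obtain ⟨ma, hma⟩ := (tm_bijective (M := J) heW W le_rfl).2 a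
        simp only [Groth.Agent.QC.res_self] at hma
        have : m = r • ma := (tm_bijective (M := J) heW W le_rfl).1 (by
          simp only [Groth.Agent.QC.res_self]
          rw [← hm', smul_tm, hma])
        rw [this, fnOf_smul, map_mul] at hu'
        exact ha ma hma.symm (isUnit_of_mul_isUnit_right hu')
    exact key _ hm _ rfl (by rw [huW, map_one]; exact isUnit_one)
  let σ := β.eval s
  have htop : Z.ι ''ᵁ ⊤ ≤ Z := Z.ι.image_top_eq_opensRange.le.trans Z.opensRange_ι.le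
  let τ : Coh.structureModule (Z : Scheme.{u}) ⟶ P.restrict Z.ι :=
    homOf (L := P.restrict Z.ι) (res P htop σ)
  obtain ⟨k, rfl⟩ : ∃ k, n = k + 1 := ⟨n - 1, by omega⟩
  obtain ⟨e⟩ := nonempty_restrictPowIso Z.ι L (k + 1)
  refine ⟨k, τ ≫ e.inv, ?_⟩
  rw [genLocus_comp]
  have hgenW : ∀ W' : (Z : Scheme.{u}).Opens, IsGen (val τ W') ↔
      IsGen (N := P) (res P (Z.ι_image_le W') σ) := fun W' => by
    rw [isGen_restrict_iff]
    have : (val τ ⊤ : Γ(P, Z.ι ''ᵁ ⊤)) = res P htop σ := by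
      refine (val_homOf _ _).trans ?_
      exact Groth.Agent.QC.res_self (P.restrict Z.ι) le_rfl _
    rw [this, res_res]
  have hxmem : (⟨x, hx⟩ : (Z : Scheme.{u})) ∈ CohB1.genLocus _ τ := by
    refine (mem_genLocus_iff τ).mpr ⟨Z.ι ⁻¹ᵁ X.basicOpen c,
      (X.mem_basicOpen c x hxW).mpr hcu, (hgenW _).mpr ?_⟩
    have hle : Z.ι ''ᵁ (Z.ι ⁻¹ᵁ X.basicOpen c) ≤ X.basicOpen c := by
      rintro _ ⟨y, hy, rfl⟩; exact hy
    have h2 : IsGen (res P ((X.basicOpen_le c).trans hWZ) σ) := by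
      rw [← res_res P (X.basicOpen_le c) hWZ, hc, res_smul]
      exact isGen_smul (heW.res _) (RingedSpace.isUnit_res_basicOpen _ c)
    have h3 := h2.res hle
    rwa [res_res] at h3
  refine ⟨hxmem, ?_⟩
  have hsub : CohB1.genLocus _ τ ≤ Z.ι ⁻¹ᵁ D := by
    intro y hy
    obtain ⟨W', hyW', hW'⟩ := (mem_genLocus_iff τ).mp hy
    by_contra hyD
    obtain ⟨V₁, e₁, hyV₁, he₁⟩ := exists_isGen hP y.1
    obtain ⟨E, hE, hyE, hEle⟩ := exists_isAffineOpen_mem_and_subset (x := y.1)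
      (U := Z.ι ''ᵁ W' ⊓ V₁) ⟨⟨y, hyW', rfl⟩, hyV₁⟩
    have hEW : E ≤ Z.ι ''ᵁ W' := le_trans hEle inf_le_left
    have hEV : E ≤ V₁ := le_trans hEle inf_le_right
    obtain ⟨m, hm'⟩ := (tm_bijective (M := J) (he₁.res hEV) E le_rfl).2
      (res _ (hEW.trans (Z.ι_image_le W')) s)
    simp only [Groth.Agent.QC.res_self] at hm'
    have hv := hval s (hEW.trans (Z.ι_image_le W')) m (res P hEV e₁) hm'.symm
    have hσE : IsGen (res P (hEW.trans (Z.ι_image_le W')) σ) := by
      have := ((hgenW W').mp hW').res hEW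
      rwa [res_res] at this
    obtain ⟨d, hd⟩ := (hσE E le_rfl).2 (res P hEV e₁)
    simp only [Groth.Agent.QC.res_self] at hd
    rw [show res P _ σ = _ from hv, smul_smul] at hd
    have hd1 : d * fnOf i m = 1 := (he₁ E hEV).1 (by simpa using hd)
    have hys : y.1 ∈ (I.support : Set X) := by rw [hsupp]; exact hyD
    rw [SetLike.mem_coe, Scheme.IdealSheafData.mem_support_iff_of_mem (U := ⟨E, hE⟩) hyE,
      Scheme.mem_zeroLocus_iff] at hys
    refine hys (fnOf i m) (by rw [hI]; exact ⟨m, rfl⟩) ((X.mem_basicOpen _ y.1 hyE).mpr ?_)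
    exact (IsUnit.of_mul_eq_one_right _ hd1).map _
  refine isAffineOpen_genLocus_of_le (isInvertible_restrict _ hP) τ ?_ hsub
  rw [← Z.ι.isAffineOpen_iff_of_isOpenImmersion]
  have : Z.ι ''ᵁ (Z.ι ⁻¹ᵁ D) = D := by
    refine le_antisymm (by rintro _ ⟨y, hy, rfl⟩; exact hy) fun z hz => ⟨⟨z, hDZ hz⟩, hz, rfl⟩
  rwa [this]

end TMul
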