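import Groth.Agent.TMul.Power

/-!
Extension of twisted sections over a quasi-compact quasi-separated open of an arbitrary scheme.
-/

set_option autoImplicit false
set_option backward.isDefEq.respectTransparency false

universe u

open CategoryTheory CategoryTheory.Limits AlgebraicGeometry TopologicalSpace Opposite
open Groth.Agent.QC (res resO res_res res_smul resO_resO res_self resO_self app_res)

noncomputable section

namespace TMul

variable {X : Scheme.{u}} {L F : X.Modules}

/-- Affine charts with generators. -/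
lemma exists_charts_on {O : X.Opens} (hO : IsCompact (O : Set X)) (hL : PicF.IsInvertible L) (s : Coh.structureModule X ⟶ L) :
    ∃ (ι : Type u) (_ : Fintype ι) (U : ι → X.Opens) (e : ∀ i, Γ(L, U i)) (c : ∀ i, Γ(X, U i)),
      (∀ i, IsAffineOpen (U i)) ∧ (∀ i, U i ≤ O) ∧ (∀ x ∈ O, ∃ i, x ∈ U i) ∧ (∀ i, IsGen (e i)) ∧
      (∀ i, val s (U i) = c i • e i) := by
  choose V e hx he using fun x : X => exists_isGen hL x
  choose W hW hxW hWV using fun x : {x : X // x ∈ O} =>
    X.isBasis_affineOpens.exists_subset_of_mem_open (show x.1 ∈ V x.1 ⊓ O from ⟨hx x.1, x.2⟩) (V x.1 ⊓ O).2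
  obtain ⟨F, hF⟩ := hO.elim_finite_subcover (fun x => W x)
    (fun x => X.isBasis_affineOpens.isOpen (hW x)) (fun x hxO => Set.mem_iUnion.mpr ⟨⟨x, hxO⟩, hxW ⟨x, hxO⟩⟩)
  choose U hU hUW using fun x : {x : X // x ∈ O} => hW x
  have hUV : ∀ x, U x ≤ V x.1 := fun x y hy => (hWV x (hUW x ▸ hy)).1
  have hUO : ∀ x, U x ≤ O := fun x y hy => (hWV x (hUW x ▸ hy)).2
  let e' : ∀ x, Γ(L, U x) := fun x => res L (hUV x) (e x.1)
  have he' : ∀ x, IsGen (e' x) := fun x => (he x.1).res (hUV x)
  choose c hc using fun x : {x : X // x ∈ O} => (he' x (U x) le_rfl).2 (val s (U x))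
  refine ⟨{x // x ∈ F}, inferInstance, fun i => U i.1, fun i => e' i.1, fun i => c i.1,
    fun i => hU i.1, fun i => hUO i.1, fun x hxO => ?_, fun i => he' i.1, fun i => ?_⟩
  · obtain ⟨y, hyF, hxy⟩ := Set.mem_iUnion₂.mp (hF hxO)
    exact ⟨⟨y, hyF⟩, show x ∈ (U y : Set X) from (hUW y).symm ▸ hxy⟩
  · rw [← hc i.1, res_self]

theorem exists_twist_extends_on [hF : F.IsQuasicoherent] {O : X.Opens} (hO : IsCompact (O : Set X))
    (hqs : IsQuasiSeparated (O : Set X))
    (hL : PicF.IsInvertible L) (s : Coh.structureModule X ⟶ L) (t : Γ(F, O ⊓ CohB1.genLocus L s)) :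
    ∃ n : ℕ, 0 < n ∧ ∃ t' : Γ(CohB1.tensorMod F (CohB1.tensorPow L n), O),
      res _ (inf_le_left : O ⊓ CohB1.genLocus L s ≤ O) t' =
        tw s n F (O ⊓ CohB1.genLocus L s) t := by
  obtain ⟨ι, hι, U, e, c, hU, hUO, hcov, he, hc⟩ := exists_charts_on hO hL s
  have hb : ∀ i, X.basicOpen (c i) ≤ O ⊓ CohB1.genLocus L s := fun i =>
    le_inf ((X.basicOpen_le _).trans (hUO i)) ((genLocus_inf s (he i) (hc i)).ge.trans inf_le_right)
  choose n a ha using fun i => (Groth.Agent.QC.isLoc_of_isQCoh (hU i) (M := F)).exists_extend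
    (c i) (res F (hb i) t)
  let N := Finset.univ.sup n + 1
  obtain ⟨b, hbt⟩ : ∃ b : ∀ i, Γ(F, U i), ∀ i (V : X.Opens) (hV : V ≤ U i)
      (hVs : V ≤ O ⊓ CohB1.genLocus L s), res F hV (b i) = resO X hV (c i) ^ N • res F hVs t := by
    refine ⟨fun i => c i ^ (N - n i) • a i, fun i V hV hVs => ?_⟩
    have hVc : V ≤ X.basicOpen (c i) := (le_inf hV (hVs.trans inf_le_right)).trans (genLocus_inf s (he i) (hc i)).le
    have h2 := congrArg (res F hVc) (ha i)
    rw [res_res, res_smul, map_pow, resO_resO, res_res] at h2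
    rw [res_smul, map_pow, h2, smul_smul, ← pow_add,
      Nat.sub_add_cancel ((Finset.le_sup (f := n) (Finset.mem_univ i)).trans (Nat.le_succ _))]
  have hov : ∀ i j, ∃ (u : Γ(X, U i ⊓ U j)) (k : ℕ),
      res L (inf_le_right : U i ⊓ U j ≤ U j) (e j) = u • res L (inf_le_left : U i ⊓ U j ≤ U i) (e i) ∧
      u * resO X (inf_le_right : U i ⊓ U j ≤ U j) (c j) = resO X (inf_le_left : U i ⊓ U j ≤ U i) (c i) ∧
      resO X (inf_le_left : U i ⊓ U j ≤ U i) (c i) ^ k •
        (res F (inf_le_left : U i ⊓ U j ≤ U i) (b i) -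
          u ^ N • res F (inf_le_right : U i ⊓ U j ≤ U j) (b j)) = 0 := by
    intro i j
    obtain ⟨u, hu⟩ := (he i (U i ⊓ U j) inf_le_left).2 (res L inf_le_right (e j))
    have huc : u * resO X inf_le_right (c j) = resO X inf_le_left (c i) := by
      refine (he i (U i ⊓ U j) inf_le_left).1 ?_
      change (u * _) • res L inf_le_left (e i) = _ • res L inf_le_left (e i)
      rw [mul_comm, mul_smul, show u • res L inf_le_left (e i) = _ from hu, ← res_smul, ← res_smul,
        ← hc, ← hc, res_val, res_val]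
    have hcpt : IsCompact ((U i ⊓ U j : X.Opens) : Set X) :=
      hqs _ _ (hUO i) (U i).2 (hU i).isCompact (hUO j) (U j).2 (hU j).isCompact
    obtain ⟨k, hk⟩ := Groth.Agent.QC.exists_pow_smul_eq_zero_of_isCompact hcpt
      (resO X inf_le_left (c i)) (res F inf_le_left (b i) - u ^ N • res F inf_le_right (b j)) (by
        have hW1 : X.basicOpen (resO X (inf_le_left : U i ⊓ U j ≤ U i) (c i)) ≤ U i ⊓ U j :=
          X.basicOpen_le _
        have hW2 := (Groth.Agent.QC.basicOpen_resO_le (inf_le_left : U i ⊓ U j ≤ U i) (c i)).trans (hb i)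
        rw [map_sub, res_smul, res_res, res_res, hbt i _ _ hW2, hbt j _ _ hW2, smul_smul, map_pow,
          ← mul_pow, ← resO_resO hW1 inf_le_right, ← map_mul, huc, resO_resO, sub_self])
    exact ⟨u, k, hu.symm, huc, hk⟩
  choose u k hue huc hk using hov
  let K := Finset.univ.sup fun p : ι × ι => k p.1 p.2
  let σ : ∀ i, Γ(CohB1.tensorMod F (CohB1.tensorPow L (N + K)), U i) := fun i =>
    tm (c i ^ K • b i) (pw (e i) (N + K))
  obtain ⟨t', ht', -⟩ := TopCat.Sheaf.existsUnique_gluing'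
    (Groth.Agent.QC.abSheaf (CohB1.tensorMod F (CohB1.tensorPow L (N + K)))) U O
    (fun i => homOfLE (hUO i)) (fun x hx => Opens.mem_iSup.mpr (hcov x hx)) σ (fun i j => by
      change res _ (inf_le_left : U i ⊓ U j ≤ U i) (tm _ _) =
        res _ (inf_le_right : U i ⊓ U j ≤ U j) (tm _ _)
      rw [res_tm, res_tm, res_pw, res_pw, hue, pw_smul, tm_smul, ← smul_tm, res_smul, res_smul,
        smul_smul, map_pow, map_pow]
      congr 1
      have h0 : resO X (inf_le_left : U i ⊓ U j ≤ U i) (c i) ^ K •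
          (res F (inf_le_left : U i ⊓ U j ≤ U i) (b i) -
            u i j ^ N • res F (inf_le_right : U i ⊓ U j ≤ U j) (b j)) = 0 := by
        obtain ⟨l, hl⟩ := Nat.exists_eq_add_of_le (Finset.le_sup
          (f := fun p : ι × ι => k p.1 p.2) (Finset.mem_univ (i, j)))
        rw [show K = k i j + l from hl, pow_add, mul_comm, mul_smul, hk, smul_zero]
      rw [smul_sub, sub_eq_zero, smul_smul] at h0
      refine h0.trans ?_
      rw [← huc]
      congr 1
      ring)
  refine ⟨N + K, Nat.add_pos_left (Nat.succ_pos _) _, t',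
    Groth.Agent.QC.section_eq_of_locally fun x hx => ?_⟩
  obtain ⟨i, hi⟩ := hcov x hx.1
  refine ⟨U i ⊓ CohB1.genLocus L s, inf_le_inf_right _ (hUO i), ⟨hi, hx.2⟩, ?_⟩
  have hti : res _ (hUO i) t' = σ i := ht' i
  rw [res_res, ← res_res _ (inf_le_left : U i ⊓ CohB1.genLocus L s ≤ U i) (hUO i), hti, res_twist,
    twist_eq_tm s (e := res L inf_le_left (e i)) (c := resO X inf_le_left (c i))
      (by rw [← res_smul, ← hc, res_val]), res_tm, res_pw, res_smul, hbt i _ inf_le_left (inf_le_inf_right _ (hUO i)),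
    smul_smul, map_pow, ← pow_add, add_comm]

end TMul
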